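import Cfsg.Agent.OddChar.Frob.AbelianTau2Tools
import Cfsg.Agent.OddChar.Frob.GroupFacts
import Cfsg.Agent.OddLocal.Sigma.NonTI
import Cfsg.Agent.OddLocal.Sigma.FittingM
import Cfsg.Agent.OddLocal.Sigma.CentTau1
import Cfsg.Agent.Coprime.PxQ

/-! The moved configuration with `κ(M)` not empty. -/

set_option autoImplicit false
set_option linter.style.haveILetI false
set_option linter.unusedSectionVars false
set_option maxHeartbeats 1000000

namespace Cfsg.Agent.OddChar.Frob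

open Cfsg
open Cfsg.Agent.OddLocal
open Cfsg.Agent.OddLocal.Sigma (IsSupport Exc)
open scoped commutatorElement

universe u

variable {G : Type u} [Group G] [Finite G]

/-- Powers of commutators with central values. -/
theorem commutatorElement_pow_left {a b : G} (h : ∀ g : G, g ∈ Subgroup.closure ({a, b} : Set G) → Commute g ⁅a, b⁆)
    (n : ℕ) : ⁅a ^ n, b⁆ = ⁅a, b⁆ ^ n := by
  induction n with
  | zero => simp
  | succ n ih =>
    rw [pow_succ', show ⁅a * a ^ n, b⁆ = a * ⁅a ^ n, b⁆ * a⁻¹ * ⁅a, b⁆ by simp only [commutatorElement_def]; group,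
      ih, ((h a (Subgroup.subset_closure (by simp))).pow_right n).eq, mul_inv_cancel_right, ← pow_succ]

variable (hG : IsMinSimpleOddOrder G)
include hG

theorem Moved.kappa_false {L M A A0 : Subgroup G} {p : ℕ} [hp : Fact p.Prime] {z : G}
    (d : Moved L M p A A0 z) (hκ : (kappa M).Nonempty) : False := by
  have hpl := Support.plen hG
  have hM := d.coatom
  have hL := d.exc.coatom
  set S0 := sigmaCore M with hS0
  have hSM : S0 ≤ M := Sigma.sigmaCore_le M
  have hMS := Sigma.le_normalizer_sigmaCore M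
  have hp2 : p ≠ 2 := Sigma.ne_two_of_dvd hG (Sigma.sigma_dvd d.p_sigma)
  obtain ⟨⟨W, hW⟩, hWc⟩ := Sigma.kappa_hall hG hpl hM
  obtain ⟨U, h⟩ := Sigma.exists_decomp hG hpl hM (hWc W hW) hW
  have hW1 : W ≠ ⊥ := fun e => by
    obtain ⟨t, ht⟩ := hκ
    have h1 : t ∣ Nat.card W * W.relIndex M := by rw [Core.card_mul_relIndex hW.1]; exact ht.2.1
    rw [e, Subgroup.card_bot, one_mul, ← e] at h1
    exact hW.2.2 t ht.1 ht h1
  obtain ⟨hder, hY''⟩ := Sigma.derived_eq_and_fixed_le hG hpl hM h hW1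
  set Y := S0 ⊓ Subgroup.centralizer (W : Set G) with hY
  have hFN : Subgroup.normalizer (fittingOf M : Set G) = M ∨ fittingOf M = ⊥ := by
    rcases (fittingOf M).bot_or_exists_ne_one with h0 | ⟨a, ha, ha1⟩
    · exact Or.inr h0
    · exact Or.inl (Sigma.normalizer_eq_of_invariant hG hM (Subgroup.map_subtype_le _) ha ha1 fun m hm v hv =>
        (Subgroup.mem_normalizer_iff.mp (Sigma.le_normalizer_fittingOf M hm) v).mp hv)
  have hTI : IsTISubset (fittingOf M : Set G) → ∀ w ∈ fittingOf M, w ≠ 1 →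
      Subgroup.centralizer ({w} : Set G) ≤ M := by
    intro hTI w hw hw1 c hc
    have hN := hFN.resolve_right fun e => hw1 (Subgroup.mem_bot.mp (e ▸ hw))
    by_contra hcM
    refine hw1 (hTI c (by rwa [hN]) w hw ?_)
    rw [Subgroup.mem_centralizer_singleton_iff.mp hc, mul_inv_cancel_right]
    exact hw
  by_cases hn : Group.IsNilpotent S0
  · obtain ⟨-, -, hSc⟩ := d.nilpotent_core hG hn
    by_cases hU : U = ⊥
    · rw [hU, bot_sup_eq] at hder
      rw [hder] at hY''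
      refine (Sigma.kappa_hall_facts hG hpl hM hW hW1).2.1 (le_bot_iff.mp (hY''.trans (Subgroup.commutator_le.mpr fun a ha b hb => ?_)))
      rw [Subgroup.mem_bot, commutatorElement_eq_one_iff_mul_comm]
      exact congrArg Subtype.val (hSc.is_comm.comm ⟨a, ha⟩ ⟨b, hb⟩)
    · have hzF : z ∈ fittingOf M := ((Sigma.sigmaCore_le_fittingHallOf hG hpl hM hn).trans
        (le_sup_right.trans (Sigma.fittingOf_eq hG hpl hM).ge)) (d.le d.mem)
      exact d.supp.notLe (hTI (Sigma.fitting_isTI_of_U hG hpl hM h hW1 hU) z hzF d.ne)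
  obtain ⟨hU, -⟩ := Sigma.decomp_of_not_nilpotent hG hpl hM h hn
  rw [hU, bot_sup_eq] at hder
  rw [hder] at hY''
  have hne : fittingHallOf M ≠ S0 := fun e => hn (e ▸ OddLocal.isNilpotent_fittingHallOf M)
  have hNfree : ∀ w ∈ ⁅S0, S0⁆, w ≠ 1 → Subgroup.centralizer ({w} : Set G) ≤ M := fun w hw =>
    hTI (Sigma.fitting_isTI_of_ne hG hpl hM hne) w (Sigma.second_derived_le_fittingOf hG hpl hM (by rw [hder]; exact hw))
  -- the index `|W|`
  set e := Nat.card W with hedef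
  have hWS : W ⊓ S0 = ⊥ := Sigma.inf_sigmaCore_eq_bot fun r hr hd => (hW.2.1 r hr hd).2.2.1
  have hcardM : e * Nat.card S0 = Nat.card M := by
    have hsup : S0 ⊔ W = M := by
      refine le_antisymm (sup_le hSM hW.1) fun m hm => ?_
      obtain ⟨k, hk, n, hn', rfl⟩ := Sigma.exists_kappa_mul h hm
      rw [hU, bot_sup_eq] at hn'
      exact mul_mem (Subgroup.mem_sup_right hk) (Subgroup.mem_sup_left hn')
    rw [← hsup, Coprime.card_sup (hW.1.trans hMS) (by rw [inf_comm]; exact hWS), mul_comm]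
  have hWr : ∀ r : ℕ, r.Prime → r ∣ Nat.card M → r ∉ sigma M → r ∈ kappa M := fun r hr hd hrσ => by
    rw [← hcardM] at hd
    exact (hr.dvd_mul.mp hd).elim (hW.2.1 r hr) fun h1 => absurd (Sigma.mem_sigma_of_dvd hr h1) hrσ
  obtain ⟨-, -, -, hfixW⟩ := Sigma.kappa_hall_facts hG hpl hM hW hW1
  -- the `q`-part
  obtain ⟨Q, hQ⟩ := Sigma.exists_qData hG hpl hM h hn
  set q := Nat.card Y with hqdef
  haveI := Fact.mk hQ.prime
  have hqβ := Sigma.qData_mem_beta hG hpl hM h hn hQ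
  have hqp : q ≠ p := fun e' => d.exc.maxEA.notMem_beta M (e' ▸ hqβ)
  have hQM : Q ≤ M := hQ.le.trans hSM
  have hAQ : A ⊓ Q = ⊥ := Subgroup.inf_eq_bot_of_coprime
    (Sigma.coprime_of_pGroups hqp.symm d.exc.maxEA.isPGroup hQ.pgroup)
  haveI hsS : Group.IsSolvable S0 := Core.BG.isSolvable_proper hG fun e' => hM.1 (top_le_iff.mp (e'.ge.trans hSM))
  haveI hsM : Group.IsSolvable M := Core.BG.isSolvable_proper hG hM.1
  obtain ⟨D, hD, hAD⟩ : ∃ D : Subgroup G, IsComplIn Q D S0 ∧ A ≤ D := by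
    haveI : (Q.subgroupOf S0).Normal :=
      (Subgroup.normal_subgroupOf_iff_le_normalizer hQ.le).mpr (hSM.trans hQ.normal)
    obtain ⟨N, hN⟩ := Subgroup.exists_right_complement'_of_coprime (N := Q.subgroupOf S0) (by
      obtain ⟨k, hk⟩ := IsPGroup.iff_card.mp hQ.pgroup
      rw [Core.card_subgroupOf hQ.le, hk]
      exact (hQ.prime.coprime_iff_not_dvd.mpr hQ.sylow).pow_left k)
    have hD0 := Sigma.complIn_of_complement' hQ.le hN
    set D0 := N.map S0.subtype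
    obtain ⟨m, hm, hmA⟩ := Sigma.exists_conj_le_hallOf (Sigma.qData_hall hG hpl hQ hD0) d.le fun r hr hd =>
      ⟨hr, fun e' => hqp (e'.symm.trans ((Nat.prime_dvd_prime_iff_eq hr hp.out).mp
        (hr.dvd_of_dvd_pow (by rwa [← d.exc.maxEA.card]))))⟩
    have hQn : ∀ g ∈ S0, ∀ a ∈ Q, g * a * g⁻¹ ∈ Q := fun g hg a ha =>
      (Subgroup.mem_normalizer_iff.mp (hQ.normal (hSM hg)) a).mp ha
    refine ⟨Sigma.cj m⁻¹ D0, ⟨hQ.le, fun x hx => ?_, ?_, fun x hx => ?_⟩,
      fun a ha => Sigma.mem_cj.mpr (by rw [inv_inv]; exact hmA (Sigma.conj_mem_cj_of_mem ha))⟩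
    · have h1 := hD0.2.1 (Sigma.mem_cj.mp hx)
      rw [inv_inv] at h1
      have h2 := S0.mul_mem (S0.mul_mem (S0.inv_mem hm) h1) hm
      rwa [show m⁻¹ * (m * x * m⁻¹) * m = x by group] at h2
    · refine (Subgroup.eq_bot_iff_forall _).mpr fun x hx => ?_
      have h1 := Sigma.mem_cj.mp hx.2
      rw [inv_inv] at h1
      exact conj_eq_one_iff.mp (Subgroup.mem_bot.mp (hD0.2.2.1.le ⟨hQn m hm x hx.1, h1⟩))
    · obtain ⟨a, ha, b, hb, e'⟩ := hD0.2.2.2 (m * x * m⁻¹) (S0.mul_mem (S0.mul_mem hm hx) (S0.inv_mem hm))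
      refine ⟨m⁻¹ * a * m⁻¹⁻¹, hQn _ (S0.inv_mem hm) a ha, m⁻¹ * b * m⁻¹⁻¹, Sigma.conj_mem_cj_of_mem hb, ?_⟩
      rw [show m⁻¹ * a * m⁻¹⁻¹ * (m⁻¹ * b * m⁻¹⁻¹) = m⁻¹ * (a * b) * m by group, ← e']
      group
  have hs := Sigma.qStructure hG hpl hM h hn hQ hD
  have hDS : D ≤ S0 := hD.2.1
  have hDA : D ≤ Subgroup.centralizer (A : Set G) := d.nilpotent_le_centralizer hs.nilpotent hAD
  have hDE : D ≤ M ⊓ L := le_inf (hDS.trans hSM) (hDA.trans d.centralizer_le)
  have hDc : IsMulCommutative D := d.abelian hG hs.nilpotent hDE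
  have hEA : M ⊓ L ≤ Subgroup.normalizer (A : Set G) :=
    d.exc.le_normalizer_of_compl hG hpl d.supp.compl d.le_E
  -- `σ(M)'`-elements of prime order are free on `A`
  have hfreeA : ∀ x ∈ M, ∀ r : ℕ, r.Prime → orderOf x = r → r ∉ sigma M →
      A ⊓ Subgroup.centralizer ({x} : Set G) = ⊥ := by
    intro x hxM r hr hxo hrσ
    haveI := Fact.mk hr
    obtain ⟨m, hm, hmx⟩ := Sigma.exists_conj_le_hallOf hW (Q := Subgroup.zpowers x) (Subgroup.zpowers_le.mpr hxM)
      fun t ht htd => by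
        rw [Nat.card_zpowers, hxo] at htd
        rw [(Nat.prime_dvd_prime_iff_eq ht hr).mp htd]
        exact hWr r hr (hxo ▸ Subgroup.orderOf_dvd_natCard M hxM) hrσ
    have hk : m * x * m⁻¹ ∈ W := hmx (Sigma.conj_mem_cj_of_mem (Subgroup.mem_zpowers x))
    have hk1 : m * x * m⁻¹ ≠ 1 := fun e' => hr.one_lt.ne' (by rw [← hxo, conj_eq_one_iff.mp e', orderOf_one])
    refine (Subgroup.eq_bot_iff_forall _).mpr fun a ha => ?_
    have h1 : m * a * m⁻¹ ∈ Q := hQ.fixed_le (by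
      rw [← hfixW _ hk hk1]
      refine ⟨(Subgroup.mem_normalizer_iff.mp (hMS hm) a).mp (d.le ha.1),
        Subgroup.mem_centralizer_singleton_iff.mpr ?_⟩
      calc m * a * m⁻¹ * (m * x * m⁻¹) = m * (a * x) * m⁻¹ := by group
        _ = m * (x * a) * m⁻¹ := by rw [Subgroup.mem_centralizer_singleton_iff.mp ha.2]
        _ = m * x * m⁻¹ * (m * a * m⁻¹) := by group)
    exact Subgroup.mem_bot.mp (hAQ.le ⟨ha.1, (Subgroup.mem_normalizer_iff.mp (hQ.normal hm) a).mpr h1⟩)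
  have hES : M ⊓ L ≤ S0 := Sigma.le_sigmaCore hG hM inf_le_left fun r hr hd => by_contra fun hrσ => by
    haveI := Fact.mk hr
    obtain ⟨x', hx'⟩ := exists_prime_orderOf_dvd_card' r hd
    rw [← Subgroup.orderOf_coe] at hx'
    exact d.no_fpf hG x'.2 hx' (fun e' => hrσ (e' ▸ d.p_sigma)) (hfreeA _ x'.2.1 r hr hx' hrσ)
  -- `Q ∩ L = C_Q(D)`
  set C0 := Q ⊓ L with hC0
  set C1 := Q ⊓ Subgroup.centralizer (D : Set G) with hC1
  have hC0A : C0 ≤ Subgroup.centralizer (A : Set G) := fun c hc => Subgroup.mem_centralizer_iff.mpr fun a ha => by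
    have h1 : c * a * c⁻¹ * a⁻¹ ∈ A ⊓ Q := by
      refine ⟨A.mul_mem ((Subgroup.mem_normalizer_iff.mp (hEA ⟨hQM hc.1, hc.2⟩) a).mp ha) (A.inv_mem ha), ?_⟩
      have := Q.mul_mem hc.1 ((Subgroup.mem_normalizer_iff.mp (hQ.normal (hSM (d.le ha))) _).mp (Q.inv_mem hc.1))
      rwa [show c * (a * c⁻¹ * a⁻¹) = c * a * c⁻¹ * a⁻¹ by group] at this
    rw [hAQ, Subgroup.mem_bot, mul_inv_eq_one, mul_inv_eq_iff_eq_mul] at h1
    exact h1.symm
  have hC0mem : ∀ c ∈ Q, c ∈ Subgroup.centralizer (A : Set G) → c ∈ C0 := fun c hc hc' =>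
    ⟨hc, d.centralizer_le hc'⟩
  have hC1C0 : C1 ≤ C0 := fun c hc => hC0mem c hc.1 (Subgroup.centralizer_le hAD hc.2)
  have hH := Sigma.qData_hall hG hpl hQ hD
  have hfrat : ∀ m ∈ M, ∃ a ∈ Q, ∃ b ∈ D, a * b * m ∈ M ⊓ Subgroup.normalizer (D : Set G) := by
    intro m hm
    obtain ⟨n, hn', hnD⟩ := Sigma.exists_conj_le_hallOf hH (Q := Sigma.cj m D)
      ((Sigma.cj_mono hDS).trans (Sigma.cj_eq_iff.mpr (hMS hm)).le)
      (fun r hr hd => hH.2.1 r hr (by rwa [Sigma.card_cj] at hd))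
    have heq : Sigma.cj n (Sigma.cj m D) = D :=
      Subgroup.eq_of_le_of_card_ge hnD (by rw [Sigma.card_cj, Sigma.card_cj])
    obtain ⟨a, ha, b, hb, rfl⟩ := hD.2.2.2 n hn'
    exact ⟨a, ha, b, hb, M.mul_mem (hSM hn') hm, Sigma.cj_eq_iff.mp (by rw [Sigma.cj_mul]; exact heq)⟩
  have hMC0 : M ≤ Subgroup.normalizer (C0 : Set G) := by
    intro m hm
    obtain ⟨a, ha, b, hb, hg⟩ := hfrat m hm
    have hNC0 : ∀ g : G, (∀ c ∈ C0, g * c * g⁻¹ ∈ C0) → g ∈ Subgroup.normalizer (C0 : Set G) := fun g hg' =>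
      Coprime.mem_normalizer_of_conj_mem hg'
    have ha' : a ∈ Subgroup.normalizer (C0 : Set G) := hNC0 a fun c hc => by
      rw [show a * c * a⁻¹ = (a * c * a⁻¹ * c⁻¹) * c by group]
      exact C0.mul_mem (hC1C0 (hs.elementary a ha c hc.1).2) hc
    have hb' : b ∈ Subgroup.normalizer (C0 : Set G) := hNC0 b fun c hc =>
      ⟨(Subgroup.mem_normalizer_iff.mp (hQ.normal (hSM (hDS hb))) c).mp hc.1,
        L.mul_mem (L.mul_mem (hDE hb).2 hc.2) (L.inv_mem (hDE hb).2)⟩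
    have hg' : a * b * m ∈ Subgroup.normalizer (C0 : Set G) := hNC0 _ fun c hc =>
      hC0mem _ ((Subgroup.mem_normalizer_iff.mp (hQ.normal hg.1) c).mp hc.1)
        (Sigma.conj_mem_centralizer (d.conj_mem hDA hAD hg.2) (hC0A hc))
    rw [show m = (a * b)⁻¹ * (a * b * m) by group]
    exact mul_mem (inv_mem (mul_mem ha' hb')) hg'
  have hqσ : q ∈ sigma M := Sigma.mem_sigma_of_dvd hQ.prime (Subgroup.card_dvd_of_le inf_le_left)
  have hq2 : q ≠ 2 := Sigma.ne_two_of_dvd hG (Sigma.sigma_dvd hqσ)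
  have hr1 : PRankLE q 1 L := Sigma.pRankLE_one_of_ideal hG hpl hM hL d.supp.nc hqσ hqβ.2
  haveI hC0cyc : IsCyclic C0 :=
    Sigma.isCyclic_of_rank_one hG hpl hq2 hr1 (hQ.pgroup.to_le inf_le_left) inf_le_right
  have hC0Q : C0 ≠ Q := fun e' => by
    haveI : IsCyclic Q := e' ▸ hC0cyc
    obtain ⟨a, ha⟩ := IsCyclic.exists_generator (α := Q)
    have h1 : orderOf (a : G) ∣ q * Nat.card C1 := orderOf_dvd_of_pow_eq_one (by
      rw [pow_mul]; exact orderOf_dvd_iff_pow_eq_one.mp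
        (Subgroup.orderOf_dvd_natCard _ (hs.elementary a a.2 a a.2).1))
    rw [Subgroup.orderOf_coe, orderOf_eq_card_of_forall_mem_zpowers ha, hs.card, mul_comm q, ← hC1] at h1
    have h2 := Nat.le_of_dvd hQ.prime.pos (Nat.dvd_of_mul_dvd_mul_left Nat.card_pos h1)
    have h3 : q ^ 2 ≤ q ^ e := Nat.pow_le_pow_right hQ.prime.pos hs.kappa_prime.two_le
    have := hQ.prime.two_le
    nlinarith
  have hC01 : C0 = C1 := by_contra fun hne' =>
    hs.minimal C0 (lt_of_le_of_ne hC1C0 (Ne.symm hne')) (lt_of_le_of_ne inf_le_left hC0Q) hMC0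
  haveI hC1cyc : IsCyclic C1 := hC01 ▸ hC0cyc
  have hcen : ∀ g ∈ S0, ∀ c ∈ C1, Commute g c := by
    have hle : S0 ≤ Subgroup.centralizer (C1 : Set G) := by
      refine hder.ge.trans ?_
      refine Subgroup.commutator_le.mpr fun a ha b hb => Subgroup.mem_centralizer_iff.mpr fun c hc => ?_
      set f := C1.normalizerMonoidHom.comp (Subgroup.inclusion hs.normal) with hf
      have h1 : f ⁅(⟨a, ha⟩ : M), ⟨b, hb⟩⁆ = 1 := by
        refine (IsCyclic.mulAutMulEquiv C1).injective ?_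
        rw [map_commutatorElement, map_commutatorElement, map_one, commutatorElement_eq_one_iff_mul_comm]
        exact mul_comm _ _
      have h3 := congrArg Subtype.val (DFunLike.congr_fun h1 ⟨c, hc⟩)
      have h2 : ⁅a, b⁆ * c * ⁅a, b⁆⁻¹ = c := h3
      exact (mul_inv_eq_iff_eq_mul.mp h2).symm
    exact fun g hg c hc => (Subgroup.mem_centralizer_iff.mp (hle hg) c hc).symm
  have hQab : ∀ a ∈ Q, ∀ b ∈ Q, Commute a b := by
    by_contra hcon
    push Not at hcon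
    obtain ⟨a₀, ha₀, b₀, hb₀, hab⟩ := hcon
    have hcomm : ∀ a ∈ Q, ∀ b ∈ Q, ⁅a, b⁆ ∈ C1 := fun a ha b hb => (hs.elementary a ha b hb).2
    have hexp : ∀ a ∈ Q, ∀ b ∈ Q, ⁅a, b⁆ ^ q = 1 := fun a ha b hb => by
      rw [← commutatorElement_pow_left (fun g hg => hcen g (hQ.le ((Subgroup.closure_le Q).mpr
        (fun x hx => by rcases hx with rfl | rfl <;> assumption) hg)) _ (hcomm a ha b hb)) q,
        commutatorElement_eq_one_iff_mul_comm]
      exact (hcen b (hQ.le hb) _ (hs.elementary a ha b hb).1).symm.eq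
    letI : CommGroup C1 := IsCyclic.commGroup
    set Z0 := (powMonoidHom q : C1 →* C1).ker with hZ0
    have hc0 : orderOf ⁅a₀, b₀⁆ = q := orderOf_eq_prime (hexp a₀ ha₀ b₀ hb₀)
      fun e' => hab (commutatorElement_eq_one_iff_mul_comm.mp e')
    have hZc : Nat.card Z0 = q := by
      rw [hZ0, IsCyclic.card_powMonoidHom_ker]
      exact Nat.gcd_eq_right (hc0 ▸ Subgroup.orderOf_dvd_natCard C1 (hcomm a₀ ha₀ b₀ hb₀))
    set Z : Subgroup Q := (Z0.map C1.subtype).subgroupOf Q with hZ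
    have hZQ : Z0.map C1.subtype ≤ Q := (Subgroup.map_subtype_le _).trans inf_le_left
    obtain ⟨k, hk⟩ := centre_index_sq hQ.prime _ (X := Q) rfl Z
      (fun c hc => Subgroup.mem_center_iff.mpr fun g => Subtype.ext
        (hcen g (hQ.le g.2) c ((Subgroup.map_subtype_le _) (Subgroup.mem_subgroupOf.mp hc))).eq)
      (by rw [hZ, Core.card_subgroupOf hZQ, Core.card_map_subtype, hZc])
      (fun a b => by
        refine Subgroup.mem_subgroupOf.mpr ?_
        have h1 : ((⁅a, b⁆ : Q) : G) = ⁅(a : G), (b : G)⁆ := map_commutatorElement Q.subtype a b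
        rw [h1]
        exact ⟨⟨_, hcomm a a.2 b b.2⟩, Subtype.ext (hexp a a.2 b b.2), rfl⟩)
    set Zc := (Subgroup.center Q).map Q.subtype with hZcdef
    have hle1 : C1 ≤ Zc := fun c hc => ⟨⟨c, hc.1⟩,
      Subgroup.mem_center_iff.mpr fun g => Subtype.ext (hcen g (hQ.le g.2) c hc).eq, rfl⟩
    have hMZc : M ≤ Subgroup.normalizer (Zc : Set G) := fun m hm => Coprime.mem_normalizer_of_conj_mem <| by
      rintro _ ⟨c, hc, rfl⟩
      refine ⟨⟨m * (c : G) * m⁻¹, (Subgroup.mem_normalizer_iff.mp (hQ.normal hm) c).mp c.2⟩,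
        Subgroup.mem_center_iff.mpr fun g => Subtype.ext ?_, rfl⟩
      have hg : m⁻¹ * (g : G) * m ∈ Q := (Subgroup.mem_set_normalizer_iff''.mp (hQ.normal hm) g).mp g.2
      have h1 : m⁻¹ * (g : G) * m * c = c * (m⁻¹ * (g : G) * m) :=
        congrArg Subtype.val (Subgroup.mem_center_iff.mp hc ⟨_, hg⟩)
      show (g : G) * (m * c * m⁻¹) = m * c * m⁻¹ * g
      calc (g : G) * (m * c * m⁻¹) = m * (m⁻¹ * g * m * c) * m⁻¹ := by group
        _ = m * (c * (m⁻¹ * g * m)) * m⁻¹ := by rw [h1]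
        _ = m * c * m⁻¹ * g := by group
    have hZcQ : Zc ≠ Q := fun e' => hab (by
      obtain ⟨c, hc, hce⟩ := (e'.symm ▸ ha₀ : a₀ ∈ Zc)
      have h1 := congrArg Subtype.val (Subgroup.mem_center_iff.mp hc ⟨b₀, hb₀⟩)
      rw [show Q.subtype c = (c : G) from rfl] at hce
      simp only [Subgroup.coe_mul, hce] at h1
      exact h1.symm)
    have hZc1 : C1 = Zc := by_contra fun hne' =>
      hs.minimal Zc (lt_of_le_of_ne hle1 hne') (lt_of_le_of_ne (Subgroup.map_subtype_le _) hZcQ) hMZc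
    have hidx := (Subgroup.center Q).index_mul_card
    rw [hk, show Nat.card (Subgroup.center Q) = Nat.card C1 by rw [hZc1, hZcdef, Core.card_map_subtype],
      hs.card, ← hC1, mul_comm (Nat.card C1)] at hidx
    have h2k : 2 * k = e :=
      Nat.pow_right_injective hQ.prime.two_le (Nat.eq_of_mul_eq_mul_right Nat.card_pos hidx)
    have hodd : Odd e := Sigma.odd_of_dvd hG (Subgroup.card_subgroup_dvd_card W)
    exact (Nat.not_even_iff_odd.mpr hodd) ⟨k, by omega⟩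
  -- `M'' ≤ [Q, D]`
  set R := ⁅Q, D⁆ with hR
  have hDQ : D ≤ Subgroup.normalizer (Q : Set G) := (hDS.trans hSM).trans hQ.normal
  have hRQ : R ≤ Q := Coprime.commutator_le_of_le_normalizer hDQ
  have hNR : ⁅S0, S0⁆ ≤ R := by
    refine Subgroup.commutator_le.mpr fun x hx y hy => ?_
    obtain ⟨a, ha, b, hb, rfl⟩ := hD.2.2.2 x hx
    obtain ⟨a', ha', b', hb', rfl⟩ := hD.2.2.2 y hy
    have hbb : b * b' = b' * b := congrArg Subtype.val (hDc.is_comm.comm ⟨b, hb⟩ ⟨b', hb'⟩)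
    have hbb' : b' * b⁻¹ = b⁻¹ * b' := by
      rw [eq_inv_mul_iff_mul_eq, ← mul_assoc, hbb, mul_inv_cancel_right]
    have hconj : ∀ g ∈ D, ∀ u ∈ Q, g * u * g⁻¹ ∈ Q := fun g hg u hu =>
      (Subgroup.mem_normalizer_iff.mp (hDQ hg) u).mp hu
    have h1 : b * a' * b⁻¹ * a'⁻¹ ∈ R := by
      have := R.inv_mem (Subgroup.commutator_mem_commutator ha' hb)
      rwa [commutatorElement_inv, commutatorElement_def] at this
    have h2 : b' * a⁻¹ * b'⁻¹ * a ∈ R := by
      have := R.inv_mem (Subgroup.commutator_mem_commutator (Q.inv_mem ha) hb')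
      rwa [commutatorElement_inv, commutatorElement_def, inv_inv] at this
    have e1 : ⁅a * b, a' * b'⁆ = a * (b * a' * b⁻¹) * (b' * a⁻¹ * b'⁻¹) * a'⁻¹ := by
      calc ⁅a * b, a' * b'⁆ = a * b * a' * (b' * b⁻¹) * a⁻¹ * b'⁻¹ * a'⁻¹ := by
            simp only [commutatorElement_def]; group
        _ = a * (b * a' * b⁻¹) * (b' * a⁻¹ * b'⁻¹) * a'⁻¹ := by rw [hbb']; group
    have hu : Commute a ((b * a' * b⁻¹) * (b' * a⁻¹ * b'⁻¹)) :=
      hQab a ha _ (Q.mul_mem (hconj b hb _ ha') (hconj b' hb' _ (Q.inv_mem ha)))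
    have e2 : ⁅a * b, a' * b'⁆ = (b * a' * b⁻¹ * a'⁻¹) * (b' * a⁻¹ * b'⁻¹ * a) := by
      rw [e1, mul_assoc a (b * a' * b⁻¹), hu.eq]
      calc (b * a' * b⁻¹) * (b' * a⁻¹ * b'⁻¹) * a * a'⁻¹
          = (b * a' * b⁻¹) * ((b' * a⁻¹ * b'⁻¹ * a) * a'⁻¹) := by group
        _ = (b * a' * b⁻¹) * (a'⁻¹ * (b' * a⁻¹ * b'⁻¹ * a)) := by
          rw [(hQab _ (Q.inv_mem ha') _ (Q.mul_mem (hconj b' hb' _ (Q.inv_mem ha)) ha)).eq]
        _ = _ := by group
    rw [e2]; exact R.mul_mem h1 h2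
  have hcopDQ : (Nat.card D).Coprime (Nat.card Q) := by
    obtain ⟨j, hj⟩ := IsPGroup.iff_card.mp hQ.pgroup
    rw [hj]
    exact (hQ.prime.coprime_iff_not_dvd.mpr fun hd => (hH.2.1 q hQ.prime hd).2 rfl).symm.pow_right j
  have hRD := Coprime.commutator_inf_centralizer_eq_bot hDQ
    ⟨⟨fun a b => Subtype.ext (hQab a a.2 b b.2).eq⟩⟩ hcopDQ
  set N := ⁅S0, S0⁆ with hNdef
  have hNS : N ≤ S0 := Coprime.commutator_le_of_le_normalizer Subgroup.le_normalizer
  have hMN : M ≤ Subgroup.normalizer (N : Set G) := fun g hg =>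
    Sigma.mem_normalizer_commutator (hMS hg) (hMS hg)
  have hEN : N ⊓ (M ⊓ L) = ⊥ := (Subgroup.eq_bot_iff_forall _).mpr fun x hx =>
    Subgroup.mem_bot.mp (hRD.le ⟨hNR hx.1, (hC01.le ⟨hRQ (hNR hx.1), hx.2.2⟩ : x ∈ C1).2⟩)
  have hcardEN : ∀ {B : Subgroup G}, B ≤ M ⊓ L → Nat.card B * Nat.card N ≤ Nat.card S0 := fun {B} hB => by
    rw [mul_comm, ← Coprime.card_sup ((hB.trans inf_le_left).trans hMN)
      (le_bot_iff.mp ((inf_le_inf_left _ hB).trans hEN.le))]
    exact Subgroup.card_le_of_le (sup_le hNS (hB.trans hES))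
  -- an element of order `e` normalizing `A`
  have heP : e.Prime := hs.kappa_prime
  haveI := Fact.mk heP
  have heσ : e ∉ sigma M := (hW.2.1 e heP dvd_rfl).2.2.1
  obtain ⟨w₀, hw₀, hw₀1⟩ := W.bot_or_exists_ne_one.resolve_left hW1
  obtain ⟨a, ha, b, hb, hy⟩ := hfrat w₀ (hW.1 hw₀)
  set y := a * b * w₀ with hydef
  have hyS : y ∉ S0 := fun hy' => hw₀1 (Subgroup.mem_bot.mp (hWS.le ⟨hw₀, by
    rw [show w₀ = (a * b)⁻¹ * y by rw [hydef]; group]
    exact S0.mul_mem (S0.inv_mem (S0.mul_mem (hQ.le ha) (hDS hb))) hy'⟩))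
  have hey : e ∣ orderOf y := by
    by_contra hd
    have hco : (orderOf y).Coprime e := (heP.coprime_iff_not_dvd.mpr hd).symm
    have h1 : orderOf y ∣ Nat.card S0 := hco.dvd_of_dvd_mul_left (hcardM ▸ Subgroup.orderOf_dvd_natCard M hy.1)
    exact hyS (Sigma.le_sigmaCore hG hM (Subgroup.zpowers_le.mpr hy.1) (fun r hr hrd =>
      Sigma.mem_sigma_of_dvd hr ((Nat.card_zpowers y ▸ hrd).trans h1)) (Subgroup.mem_zpowers y))
  set v := y ^ (orderOf y / e) with hvdef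
  have hvo : orderOf v = e := orderOf_pow_orderOf_div (orderOf_pos y).ne' hey
  have hvM : v ∈ M := pow_mem hy.1 _
  have hvA : v ∈ Subgroup.normalizer (A : Set G) := d.conj_mem hDA hAD (pow_mem hy.2 _)
  set g := A.normalizerMonoidHom ⟨v, hvA⟩ with hg
  have hgo : orderOf g = e := by
    have hdvd : orderOf g ∣ e := by
      refine (orderOf_map_dvd A.normalizerMonoidHom _).trans ?_
      rw [Subgroup.orderOf_mk, hvo]
    refine ((heP.eq_one_or_self_of_dvd _ hdvd).resolve_left fun h1 => ?_)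
    rw [orderOf_eq_one_iff] at h1
    have h2 : v * z * v⁻¹ = z := congrArg Subtype.val
      (DFunLike.congr_fun h1 ⟨z, d.mem⟩ : g ⟨z, d.mem⟩ = (1 : MulAut A) ⟨z, d.mem⟩)
    exact d.ne (Subgroup.mem_bot.mp ((hfreeA v hvM e heP hvo heσ).le
      ⟨d.mem, Subgroup.mem_centralizer_singleton_iff.mpr (mul_inv_eq_iff_eq_mul.mp h2).symm⟩))
  obtain ⟨Φ, hΦ, hscal⟩ := Sigma.exists_gl_hom_scalar (V := A) d.exc.maxEA.ea.1.is_comm.comm
    (fun a => Subtype.ext (d.exc.maxEA.ea.2 a a.2)) d.exc.maxEA.card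
  have hep' : e ≠ p := fun h' => heσ (h' ▸ d.p_sigma)
  have ho : orderOf (Φ g) = e := by rw [orderOf_injective Φ hΦ, hgo]
  have hd := Sigma.orderOf_dvd_of_not_scalar (Φ g)
    (by rw [ho]; exact (Nat.coprime_primes heP hp.out).mpr hep') (by
      intro k hk c hk1 hkc
      obtain ⟨i, rfl⟩ := hk
      set u : Subgroup.normalizer (A : Set G) := ⟨v, hvA⟩ ^ i with hu
      have hku : Φ (A.normalizerMonoidHom u) = Φ g ^ i := by rw [hu, map_zpow, map_zpow]
      have hva : ∀ a : A, A.normalizerMonoidHom u a = a ^ c.val := hscal _ c (by rw [hku]; exact hkc)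
      have hu1 : u = 1 := Subtype.ext <| by
        have huL : (u : G) ∈ L := d.normalizer_zpowers hG (Coprime.mem_normalizer_of_conj_mem fun b hb => by
          have hbA : b ∈ A := (Subgroup.zpowers_le.mpr d.mem) hb
          have h2 : (u : G) * b * (u : G)⁻¹ = b ^ c.val := congrArg Subtype.val (hva ⟨b, hbA⟩)
          rw [h2]
          exact pow_mem hb _)
        have huv : (u : G) ∈ Subgroup.zpowers v := by
          rw [hu, Subgroup.coe_zpow]; exact zpow_mem (Subgroup.mem_zpowers v) i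
        have huS := hES ⟨(Subgroup.zpowers_le.mpr hvM) huv, huL⟩
        refine orderOf_eq_one_iff.mp (((heP.eq_one_or_self_of_dvd _ ?_)).resolve_right fun ho' => heσ ?_)
        · exact (Subgroup.orderOf_dvd_natCard _ huv).trans (by rw [Nat.card_zpowers, hvo])
        · exact Sigma.mem_sigma_of_dvd heP (ho' ▸ Subgroup.orderOf_dvd_natCard _ huS)
      refine hk1 (show Φ g ^ i = 1 from ?_)
      rw [← hku, hu1, map_one, map_one])
  rw [ho] at hd
  have heodd : Odd e := Sigma.odd_of_dvd hG (Subgroup.card_subgroup_dvd_card W)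
  have he3 : 3 ≤ e := by
    have := heP.two_le
    have := Nat.odd_iff.mp heodd
    omega
  have hpodd := Nat.odd_iff.mp (hp.out.odd_of_ne_two hp2)
  have hep : 2 * e ≤ p + 1 := by
    have hp3 := hp.out.two_le
    rcases hd with hd | hd <;>
    have := Nat.le_of_dvd (by omega) ((Nat.coprime_two_left.mpr heodd).mul_dvd_of_dvd_of_dvd
      (by omega) hd) <;> omega
  refine d.finish hG (K := S0) (N := N) (e := e) hSM hMS hMN hNS le_rfl ?_ le_rfl hcardM he3 hep ?_ ?_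
    (fun a ha hna => absurd ha hna) (fun r hr hrd hrL => haveI := Fact.mk hr; Sigma.sigma_disjoint hG hpl hM hL d.supp.nc
      (Sigma.mem_sigma_of_dvd hr hrd) hrL) hNfree (Or.inl (hcardEN le_rfl))
  · rw [← d.exc.maxEA.card]; exact hcardEN d.le_E
  · intro g' hg' hgK x hx hgx
    obtain ⟨w, hw, n, hn', rfl⟩ := Sigma.exists_kappa_mul h hg'
    rw [hU, bot_sup_eq] at hn'
    have hw1 : w ≠ 1 := fun e' => hgK (by rw [e', one_mul]; exact hn')
    have hwM : w ∈ M := hW.1 hw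
    have hnx : n * x * n⁻¹ * x⁻¹ ∈ N := Subgroup.commutator_mem_commutator hn' hx
    have hwx : w * x * w⁻¹ * x⁻¹ ∈ N := by
      have h1 := (Subgroup.mem_normalizer_iff.mp (hMN hwM) _).mp (inv_mem hnx)
      have h2 := mul_mem h1 hgx
      rwa [show w * (n * x * n⁻¹ * x⁻¹)⁻¹ * w⁻¹ * (w * n * x * (w * n)⁻¹ * x⁻¹) = w * x * w⁻¹ * x⁻¹ by group] at h2
    set P := Subgroup.zpowers w
    have hPM : P ≤ M := Subgroup.zpowers_le.mpr hwM
    have hpowx : ∀ k : ℕ, w ^ k * x * (w ^ k)⁻¹ * x⁻¹ ∈ N := fun k => by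
      induction k with
      | zero => simp
      | succ k ih =>
        have h1 := (Subgroup.mem_normalizer_iff.mp (hMN hwM) _).mp ih
        have h2 := mul_mem h1 hwx
        rwa [show w * (w ^ k * x * (w ^ k)⁻¹ * x⁻¹) * w⁻¹ * (w * x * w⁻¹ * x⁻¹) =
          w ^ (k + 1) * x * (w ^ (k + 1))⁻¹ * x⁻¹ by rw [pow_succ']; group] at h2
    haveI : Group.IsSolvable P := Core.BG.isSolvable_proper hG fun e' => hM.1 (top_le_iff.mp (e'.ge.trans hPM))
    obtain ⟨m, hm, c, hc, rfl⟩ := Coprime.exists_mul_centralizer (hPM.trans hMS)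
      (Nat.coprime_of_dvd fun r hr h1 h2 => (hW.2.1 r hr
        (h1.trans (Subgroup.card_dvd_of_le (Subgroup.zpowers_le.mpr hw)))).2.2.1 (Sigma.mem_sigma_of_dvd hr h2))
      hNS (hPM.trans hMN) hx (fun a ha => by
        obtain ⟨k, rfl⟩ := mem_powers_iff_mem_zpowers.mpr ha
        rw [← commutatorElement_inv]
        exact inv_mem (hpowx k))
    refine mul_mem hm (hY'' ?_)
    show c ∈ S0 ⊓ Subgroup.centralizer (W : Set G)
    rw [← hfixW w hw hw1, Sigma.centralizer_singleton_eq (a := w) rfl]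
    exact hc
  · refine (Support.dade_of hG hM (A := (S0 : Set G) \ {1}) (fun a ha => hSM ha.1) (fun h => h.2 rfl)
      ⟨z, d.le d.mem, d.ne⟩ (fun m hm v hv => ⟨(Subgroup.mem_normalizer_iff.mp (hMS hm) v).mp hv.1,
        fun e' => hv.2 (conj_eq_one_iff.mp e')⟩)
      (fun _ v hv => ⟨hSM hv.1, v, hv.1, hv.2, rfl⟩) (fun a ha hn' => absurd ha.1 hn')).2

end Cfsg.Agent.OddChar.Frob
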