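import Cfsg.Agent.OddChar.Frob.AbelianTau2Empty
import Cfsg.Agent.OddChar.Frob.AbelianTau2Kappa
import Cfsg.Agent.OddLocal.Sigma.Tau12Regular
import Cfsg.Agent.OddLocal.Sigma.SupportKappa

/-! If `κ(L) = ∅` then the Sylow subgroups for the primes of `τ₂(L)` are non-abelian. -/

set_option autoImplicit false
set_option linter.style.haveILetI false
set_option linter.unusedSectionVars false

namespace Cfsg.Agent.OddChar.Frob

open Cfsg
open Cfsg.Agent.OddLocal
open Cfsg.Agent.OddLocal.Sigma (IsSupport Exc)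
open scoped commutatorElement

universe u

variable {G : Type u} [Group G] [Finite G]
variable (hG : IsMinSimpleOddOrder G)
include hG

theorem abelian_tau2_false : ∀ (p : ℕ) {L : Subgroup G}, IsCoatom L → kappa L = ∅ → p ∈ tau2 L →
    (∀ S : Sylow p G, IsMulCommutative (S : Subgroup G)) → False := by
  intro p
  induction p using Nat.strong_induction_on with
  | _ p ih =>
    intro L hL hκL hpτ hab
    haveI := Fact.mk hpτ.1
    have hpl := Support.plen hG
    obtain ⟨E, hE, -⟩ := Sigma.exists_compl_ge hG hL (bot_le : (⊥ : Subgroup G) ≤ L) (fun q hq hd => by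
      rw [Subgroup.card_bot] at hd; exact absurd hd hq.not_dvd_one)
    obtain ⟨A, hAE, hAe, hA2⟩ := Sigma.exists_ea_le_compl hG hE hpτ
    obtain ⟨A0, hA⟩ := Sigma.exists_exc hG hpl hL hpτ.2.1 (hAE.trans hE.1) hAe hA2
    have hn := hA.isNilpotent hG hpl
    set H := sigmaCore L with hH
    -- the element `z`
    obtain ⟨z, hzA, hz1, hV⟩ : ∃ z ∈ A, z ≠ 1 ∧ ¬ H ⊓ Subgroup.centralizer ({z} : Set G) ≤ ⁅H, H⁆ := by
      by_contra! hcon
      have hle := hA.maxEA.le_of_forall_inf_centralizer_le hA.not_dvd_sigmaCore hA.le_normalizer hcon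
      exact Sigma.sigmaCore_ne_bot hG hL (le_bot_iff.mp
        (le_of_sup_derived hn bot_le (by rw [bot_sup_eq]; exact hle)))
    have hne : H ⊓ Subgroup.centralizer ({z} : Set G) ≠ ⊥ := fun e => hV (e ▸ bot_le)
    have hzo : orderOf z = p := orderOf_eq_prime (hAe.2 z hzA) hz1
    -- the maximal subgroup `M`
    have hpG : p ∣ Nat.card G := hzo ▸ orderOf_dvd_natCard z
    obtain ⟨M₀, hM₀, hpσ₀⟩ := Sigma.exists_mem_sigma hG hpG
    obtain ⟨g, hg⟩ := Sigma.exists_cj_le hpσ₀ hA.maxEA.isPGroup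
    set M := Sigma.cj g M₀
    have hM : IsCoatom M := Sigma.isCoatom_cj hM₀ g
    have hpσ : p ∈ sigma M := Sigma.mem_sigma_cj hpσ₀ g
    have hAσ : A ≤ sigmaCore M := Sigma.le_sigmaCore hG hM hg (Sigma.mem_of_pGroup hA.maxEA.isPGroup hpσ)
    have hML : M ≠ L := fun e => hpτ.2.1 (e ▸ hpσ)
    have hzM : ¬ Subgroup.centralizer ({z} : Set G) ≤ M := fun h => hne (le_bot_iff.mp
      (le_trans (inf_le_inf_left _ h) (hA.inf_other_eq_bot hG hpl hM hML hg).le))
    obtain ⟨N, hS⟩ := Sigma.exists_support hG hpl hM (hAσ hzA) hz1 hzM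
    have hX := ((Sigma.tau2_compl_facts hG hpl hL hE hpτ ⟨hAE, hAe, hA2⟩).2.2 (Subgroup.zpowers z)
      (Subgroup.zpowers_le.mpr hzA) (by rw [Nat.card_zpowers, hzo]) (by
        rw [← Sigma.centralizer_singleton_eq (a := z) rfl]; exact hne))
    rw [← Sigma.centralizer_singleton_eq (a := z) rfl] at hX
    obtain rfl : N = L := (hS.only L hL hX.1).symm
    have d : Moved N M p A A0 z := ⟨hκL, hA, hpτ, hM, hzA, hz1, hAσ, hS, hV, hab⟩
    rcases Set.eq_empty_or_nonempty (kappa M) with hκ | hκ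
    swap
    · exact d.kappa_false hG hκ
    rcases Set.eq_empty_or_nonempty (tau2 M) with hτ | ⟨r, hr⟩
    · exact moved_false hG hκL hA hpτ hM hκ hτ hzA hz1 hAσ hS hV
    haveI := Fact.mk hr.1
    obtain ⟨X, hX', -, hnM⟩ := sigmaCore_nilpotent hG hM hκ
    obtain ⟨-, hσA, -⟩ := d.nilpotent_core hG hnM
    obtain ⟨B, hBX, hBe, hB2⟩ := Sigma.exists_ea_le_compl hG hX' hr
    obtain ⟨B0, hB⟩ := Sigma.exists_exc hG hpl hM hr.2.1 (hBX.trans hX'.1) hBe hB2
    obtain ⟨b, hbB, hbC⟩ : ∃ b ∈ B, b ∉ Subgroup.centralizer (A : Set G) := by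
      by_contra! hcon
      refine hA.maxEA.ne_bot (le_bot_iff.mp (le_trans (le_inf hAσ ?_) (hB.inf_centralizer_eq_bot hG hpl).le))
      exact Subgroup.le_centralizer_iff.mp hcon
    have hbo : orderOf b = r := orderOf_eq_prime (hBe.2 b hbB) fun e => hbC (e ▸ one_mem _)
    have hrp : r ≠ p := fun e => hr.2.1 (e ▸ hpσ)
    have hbN : b ∈ Subgroup.normalizer (A : Set G) :=
      d.conj_mem hσA hAσ (Sigma.le_normalizer_sigmaCore M (hX'.1 (hBX hbB)))
    have hsmall : RankTwo.OddAutSmall p A := RankTwo.oddAutSmall_of_card_le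
      (Sigma.ne_two_of_dvd hG hpG) hAe.1.is_comm.comm (fun a => Subtype.ext (hAe.2 a a.2)) hA2.le
    have hlt : r < p := Sigma.lt_of_small hG hrp hsmall hA.maxEA.isPGroup hA.maxEA.ne_bot hbo hbN hbC
    exact d.tau2_false hG hκ hr (Sigma.sylow_all_nonabelian fun h => ih r hlt hM hκ hr h)

/-- If `κ(M) = ∅`, every prime of `τ₂(M)` has non-abelian Sylow subgroups in `G`. -/
theorem tau2_nonabelian {M : Subgroup G} (hM : IsCoatom M) (hκ : kappa M = ∅) {p : ℕ} [Fact p.Prime]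
    (hp : p ∈ tau2 M) : ∀ S : Sylow p G, ¬ IsMulCommutative (S : Subgroup G) :=
  Sigma.sylow_all_nonabelian fun h => abelian_tau2_false hG p hM hκ hp h

end Cfsg.Agent.OddChar.Frob
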