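import Cfsg.Agent.OddChar.Support.DadeTools
import Cfsg.Agent.OddLocal.Sigma.FittingM
import Cfsg.Agent.OddLocal.Sigma.SupportSmall
import Cfsg.Agent.OddLocal.Sigma.Cover

/-! The prime `3` lies in no `τ₂`. -/

set_option autoImplicit false
set_option linter.style.haveILetI false
set_option linter.unusedSectionVars false

namespace Cfsg.Agent.OddChar.Frob

open Cfsg
open Cfsg.Agent.OddLocal
open Cfsg.Agent.OddLocal.Sigma (Exc)
open scoped commutatorElement

variable {G : Type*} [Group G] [Finite G] (hG : IsMinSimpleOddOrder G)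
include hG

theorem exc_ne_three {L A A0 : Subgroup G} {p : ℕ} [hp : Fact p.Prime] (hA : Exc L p A A0) : p ≠ 3 := by
  rintro rfl
  have hpl := Support.plen hG
  obtain ⟨T₀, hAT⟩ := hA.maxEA.isPGroup.exists_le_sylow
  set T := (T₀ : Subgroup G) with hT
  have hT1 : T ≠ ⊥ := fun e => hA.maxEA.ne_bot (le_bot_iff.mp (e ▸ hAT))
  have hsmall := hA.oddAutSmall hG hpl T₀ hAT
  obtain ⟨M, hM, hTM⟩ := (eq_top_or_exists_le_coatom (Subgroup.normalizer (T : Set G))).resolve_left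
    (Core.BG.normalizer_ne_top_of_isPGroup hG hT1 T₀.isPGroup')
  have hle : T ≤ M := Subgroup.le_normalizer.trans hTM
  have hTd : 3 ∣ Nat.card T := hA.maxEA.dvd.trans (Subgroup.card_dvd_of_le hAT)
  have hσ : (3 : ℕ) ∈ sigma M := ⟨hp.out, hTd.trans (Subgroup.card_dvd_of_le hle), T₀.subtype hle, by
    rwa [Sylow.coe_subtype, Subgroup.subgroupOf_map_subtype, inf_eq_left.mpr hle]⟩
  have hTσ : T ≤ sigmaCore M := Sigma.le_sigmaCore hG hM hle (Sigma.mem_of_pGroup T₀.isPGroup' hσ)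
  obtain ⟨N, hNσ, hMN, hNp, hNmem⟩ := Sigma.exists_residual hG hpl hM (hA.maxEA.notMem_beta M)
  have hNT : N ⊓ T = ⊥ := Subgroup.inf_eq_bot_of_coprime (by
    obtain ⟨k, hk⟩ := IsPGroup.iff_card.mp T₀.isPGroup'
    rw [hk]; exact ((hp.out.coprime_iff_not_dvd.mpr hNp).pow_left k).symm)
  have hσle : sigmaCore M ≤ N ⊔ T := Core.le_of_forall_exists_sylow_le fun t ht => by
    haveI := Fact.mk ht
    by_cases h3 : t = 3
    · subst h3
      refine ⟨T₀.subtype hTσ, ?_⟩
      rw [Sylow.coe_subtype, Subgroup.subgroupOf_map_subtype, inf_eq_left.mpr hTσ]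
      exact le_sup_right
    · obtain ⟨R⟩ := (inferInstance : Nonempty (Sylow t ↥(sigmaCore M)))
      exact ⟨R, (hNmem _ (Subgroup.map_subtype_le _) (Sigma.not_dvd_of_pGroup (Ne.symm h3) (R.isPGroup'.map _))).trans
        le_sup_left⟩
  set NT := M ⊓ Subgroup.normalizer (T : Set G) with hNTdef
  have hTNT : T ≤ NT := le_inf hle Subgroup.le_normalizer
  -- the Frattini argument
  have hfr : M ≤ N ⊔ NT := by
    intro m hm
    have hcσ : Sigma.cj m T ≤ sigmaCore M :=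
      (Sigma.cj_mono hTσ).trans (Sigma.cj_eq_iff.mpr (Sigma.le_normalizer_sigmaCore M hm)).le
    obtain ⟨n, hn, hnT⟩ := Sigma.exists_cj_le_of_not_dvd_relIndex hTσ T₀.isPGroup'
      (fun hd => T₀.not_dvd_index (hd.trans (Subgroup.relIndex_dvd_index_of_le hTσ |> fun h => by
        rw [← Subgroup.relIndex_mul_index hTσ]; exact dvd_mul_right _ _))) hcσ (T₀.isPGroup'.map _)
    have hnm : n * m ∈ NT := by
      refine ⟨M.mul_mem (Sigma.sigmaCore_le M hn) hm, Sigma.cj_eq_iff.mp (Subgroup.eq_of_le_of_card_ge ?_ ?_)⟩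
      · rw [Sigma.cj_mul]; exact hnT
      · rw [Sigma.card_cj]
    rw [show m = n⁻¹ * (n * m) by group]
    exact mul_mem (inv_mem ((hσle.trans (sup_le_sup_left hTNT N)) hn)) (Subgroup.mem_sup_right hnm)
  -- a complement of `T` in `NT`
  haveI hTn : (T.subgroupOf NT).Normal := Subgroup.normal_subgroupOf_of_le_normalizer inf_le_right
  obtain ⟨V₀, hV₀⟩ := Subgroup.exists_right_complement'_of_coprime (N := T.subgroupOf NT) (by
    obtain ⟨k, hk⟩ := IsPGroup.iff_card.mp T₀.isPGroup'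
    rw [Core.card_subgroupOf hTNT, hk]
    refine (hp.out.coprime_iff_not_dvd.mpr fun hd => T₀.not_dvd_index (hd.trans ?_)).pow_left k
    rw [← Subgroup.relIndex_mul_index hTNT]; exact dvd_mul_right _ _)
  set V := V₀.map NT.subtype with hV
  have hVNT : V ≤ NT := Subgroup.map_subtype_le _
  have hVp : ¬ 3 ∣ Nat.card V := by
    rw [hV, Core.card_map_subtype, ← hV₀.symm.index_eq_card]
    intro hd
    refine T₀.not_dvd_index (hd.trans ?_)
    show T.relIndex NT ∣ T.index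
    rw [← Subgroup.relIndex_mul_index hTNT]; exact dvd_mul_right _ _
  have hVN : V ≤ Subgroup.normalizer (T : Set G) := hVNT.trans inf_le_right
  have hVC : V ≤ Subgroup.centralizer (T : Set G) := by
    intro v hv
    by_contra hvC
    set f := T.normalizerMonoidHom.comp (Subgroup.inclusion hVN) with hf
    have hf1 : f.range ≠ ⊥ := fun e => hvC (Subgroup.mem_centralizer_iff.mpr fun t ht => by
      have h1 : f ⟨v, hv⟩ = 1 := Subgroup.mem_bot.mp (e.le ⟨⟨v, hv⟩, rfl⟩)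
      have h2 : v * t * v⁻¹ = t := congrArg Subtype.val
        (DFunLike.congr_fun h1 ⟨t, ht⟩ : (f ⟨v, hv⟩) ⟨t, ht⟩ = (1 : MulAut T) ⟨t, ht⟩)
      exact (mul_inv_eq_iff_eq_mul.mp h2).symm)
    haveI : Finite (MulAut T) := Finite.of_injective (fun a => (a : T → T)) DFunLike.coe_injective
    obtain ⟨r, hr, hrd⟩ := Nat.exists_prime_and_dvd fun e => hf1 (Subgroup.eq_bot_of_card_eq _ e)
    haveI := Fact.mk hr
    obtain ⟨a, ha⟩ := exists_prime_orderOf_dvd_card' r hrd
    rw [← Subgroup.orderOf_coe] at ha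
    have hrV : r ∣ Nat.card V := hrd.trans (Subgroup.card_range_dvd f)
    have hr3 : r ≠ 3 := fun e => hVp (e ▸ hrV)
    have hr2 := Sigma.ne_two_of_dvd hG (hrV.trans (Subgroup.card_subgroup_dvd_card V))
    have hlt := hsmall.lt (by norm_num) (a := (a : MulAut T)) (ha.symm ▸ hr) (ha.symm ▸ hr2) (ha.symm ▸ hr3)
    rw [ha] at hlt
    have := hr.two_le
    omega
  have hNTsup : NT ≤ V ⊔ T := fun g hg => by
    obtain ⟨⟨a, b⟩, hab⟩ := hV₀.2 ⟨g, hg⟩
    rw [show g = ((a : NT) : G) * ((b : NT) : G) from (congrArg Subtype.val hab).symm]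
    exact mul_mem (Subgroup.mem_sup_right (Subgroup.mem_subgroupOf.mp a.2))
      (Subgroup.mem_sup_left ⟨(b : NT), b.2, rfl⟩)
  have hNTV : NT ≤ Subgroup.normalizer (V : Set G) := hNTsup.trans (sup_le Subgroup.le_normalizer
    ((Subgroup.le_centralizer_iff.mp hVC).trans (Subgroup.centralizer_le_normalizer _)))
  have hTd' : T ≤ N ⊔ (V ⊔ ⁅T, T⁆) := (hTσ.trans (Sigma.sigmaCore_le_derived hG hM)).trans
    ((Sigma.derived_le_sup_derived hMN inf_le_left hfr).trans (sup_le_sup_left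
      (Sigma.derived_le_sup_derived hNTV hTNT hNTsup) N))
  -- `T ⊓ (N ⊔ V) = 1`
  have hVMN : V ≤ Subgroup.normalizer (N : Set G) := (hVNT.trans inf_le_left).trans hMN
  have hint : (N ⊔ V) ⊓ T = ⊥ := le_bot_iff.mp fun x hx => by
    obtain ⟨n, hn, v, hv, rfl⟩ := Coprime.exists_mul_of_mem_sup hVMN hx.1
    have hc : Commute (n * v) v⁻¹ := Commute.inv_right (Subgroup.mem_centralizer_iff.mp (hVC hv) _ hx.2)
    have hpow : (n * v) ^ Nat.card V ∈ N ⊓ T := by
      refine ⟨?_, pow_mem hx.2 _⟩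
      have h2 := hc.mul_pow (Nat.card V)
      rw [mul_inv_cancel_right, show v⁻¹ ^ Nat.card V = 1 from orderOf_dvd_iff_pow_eq_one.mp
        (Subgroup.orderOf_dvd_natCard V (inv_mem hv)), mul_one] at h2
      rw [← h2]; exact pow_mem hn _
    rw [hNT, Subgroup.mem_bot, ← orderOf_dvd_iff_pow_eq_one] at hpow
    obtain ⟨k, hk⟩ := IsPGroup.iff_card.mp T₀.isPGroup'
    rw [Subgroup.mem_bot, ← orderOf_eq_one_iff]
    exact Nat.eq_one_of_dvd_coprimes ((hp.out.coprime_iff_not_dvd.mpr hVp).pow_left k)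
      (hk ▸ Subgroup.orderOf_dvd_natCard T hx.2) hpow
  have hT' : ⁅T, T⁆ ≤ T := Coprime.commutator_le_of_le_normalizer Subgroup.le_normalizer
  have hTn' : ⁅T, T⁆ ≤ Subgroup.normalizer ((N ⊔ V : Subgroup G) : Set G) := fun g hg =>
    Sigma.mem_normalizer_sup (hMN (hle (hT' hg))) (hNTV (hTNT (hT' hg)))
  haveI := T₀.isPGroup'.isNilpotent
  refine Sigma.commutator_ne_of_isNilpotent inferInstance (le_refl T) hT1 fun t ht => ?_
  obtain ⟨s, hs, u, hu, hsu⟩ := Coprime.exists_mul_of_mem_sup hTn' (by rw [sup_assoc]; exact hTd' ht)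
  have hs1 : s ∈ (N ⊔ V) ⊓ T := ⟨hs, by rw [eq_mul_inv_of_mul_eq hsu]; exact T.mul_mem ht (T.inv_mem (hT' hu))⟩
  rw [hint, Subgroup.mem_bot] at hs1
  rw [← hsu, hs1, one_mul]; exact hu

end Cfsg.Agent.OddChar.Frob
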