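import Cfsg.Agent.OddChar.Frob.AbelianTau2Tools
import Cfsg.Agent.OddChar.Frob.GroupFacts
import Cfsg.Agent.OddChar.Frob.Tau2Three
import Cfsg.Agent.OddLocal.Sigma.FrobeniusType

/-! The moved configuration with `κ(M) = ∅` and a prime with non-abelian Sylow subgroups in `τ₂(M)`. -/

set_option autoImplicit false
set_option linter.style.haveILetI false
set_option linter.unusedSectionVars false
set_option maxHeartbeats 1000000

namespace Cfsg.Agent.OddChar.Frob

open Cfsg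
open Cfsg.Agent.OddLocal
open Cfsg.Agent.OddLocal.Sigma (IsSupport Exc)
open scoped commutatorElement

universe u

variable {G : Type u} [Group G] [Finite G]

theorem Moved.tau2_false (hG : IsMinSimpleOddOrder G) {L M A A0 : Subgroup G} {p : ℕ} [hp : Fact p.Prime] {z : G}
    (d : Moved L M p A A0 z) (hκ : kappa M = ∅) {s : ℕ} [hs : Fact s.Prime] (hsτ : s ∈ tau2 M)
    (hna : ∀ S : Sylow s G, ¬ IsMulCommutative (S : Subgroup G)) : False := by
  have hpl := Support.plen hG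
  have hM := d.coatom
  set S0 := sigmaCore M with hS0
  have hSM : S0 ≤ M := Sigma.sigmaCore_le M
  have hMS := Sigma.le_normalizer_sigmaCore M
  obtain ⟨X, hX, -, hn⟩ := sigmaCore_nilpotent hG hM hκ
  obtain ⟨hSE, hSA, hSc⟩ := d.nilpotent_core hG hn
  obtain ⟨B, hBX, hBe, hB2⟩ := Sigma.exists_ea_le_compl hG hX hsτ
  obtain ⟨B0, hB⟩ := Sigma.exists_exc hG hpl hM hsτ.2.1 (hBX.trans hX.1) hBe hB2
  obtain ⟨hC0, hinf, hlines⟩ := hB.fpf_lines hG hpl hna hX hsτ hBX
  have hτ := hB.tau2_eq hG hpl hna hX hsτ hBX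
  have hXB : X ≤ Subgroup.normalizer (B : Set G) := hB.le_normalizer_of_compl hG hpl hX hBX
  have hB0X : B0 ≤ X := hB.le0.trans hBX
  have hB0M : B0 ≤ M := hB0X.trans hX.1
  have hMB0 : M ≤ Subgroup.normalizer (B0 : Set G) := by
    intro m hm
    obtain ⟨v, hv, k, hk, rfl⟩ := hX.2.2.2 m hm
    refine mul_mem (Coprime.mem_normalizer_of_conj_mem fun a ha => ?_)
      (Subgroup.centralizer_le_normalizer _ (hC0 hk))
    rw [← hinf] at ha ⊢
    exact ⟨(Subgroup.mem_normalizer_iff.mp (hXB hv) a).mp ha.1,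
      Sigma.conj_mem_centralizer (hMS (hX.1 hv)) ha.2⟩
  have hXσ : ∀ q : ℕ, q.Prime → q ∣ Nat.card X → q ∉ sigma M := fun q hq hd =>
    Sigma.complIn_notMem_sigma hG hM hX hq hd
  have hpC : ∀ v ∈ X, ∀ k : ℕ, v ^ s ^ k = 1 → v ∈ Subgroup.centralizer (B : Set G) := fun v hv k hk => by
    obtain ⟨hc⟩ := hB.isMulCommutative_of_pGroup hG hpl (IsPGroup.to_sup_of_normal_left' hB.maxEA.isPGroup
      (Sigma.isPGroup_zpowers hk) ((Subgroup.zpowers_le.mpr hv).trans hXB))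
      (sup_le hB.le (Subgroup.zpowers_le.mpr (hX.1 hv)))
    exact Subgroup.mem_centralizer_iff.mpr fun a ha => congrArg Subtype.val
      (hc.comm ⟨a, Subgroup.mem_sup_left ha⟩ ⟨v, Subgroup.mem_sup_right (Subgroup.mem_zpowers v)⟩)
  have hroot : ∀ v ∈ X, ∀ k : ℕ, v ^ s ^ (k + 1) = 1 → v ^ s ∈ B0 → v ^ s = 1 := fun v hv k hk h =>
    hB.no_root hG hpl hna (hX.1 hv) (hpC v hv _ hk) h
  -- elements of `X` with fixed points lie in `B0`
  have hfixB0 : ∀ v ∈ X, ∀ y ∈ S0, y ≠ 1 → v * y = y * v → v ∈ B0 := by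
    intro v hv y hy hy1 hvy
    obtain ⟨k, hk⟩ : ∃ k, v ^ s ^ k = 1 := by
      refine ⟨_, orderOf_dvd_iff_pow_eq_one.mp (Nat.eq_prime_pow_of_unique_prime_dvd (orderOf_pos v).ne' (p := s)
        fun {q} hq hd => ?_).dvd⟩
      have hmem := Sigma.mem_tau2_of_fixed hG hM hX (fun e he he1 h =>
        Sigma.regular_of_kappa_empty hG hpl hM hκ (hX.1 he) he1 h) hv hy hy1 hvy hq hd
      rw [hτ] at hmem
      exact hmem
    induction k generalizing v with
    | zero => rw [pow_zero, pow_one] at hk; rw [hk]; exact one_mem _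
    | succ k ih =>
      have hvs : v ^ s ∈ B0 := ih (v ^ s) (pow_mem hv s) ((show Commute v y from hvy).pow_left s).eq
        (by rw [← pow_mul, ← pow_succ']; exact hk)
      have hvs1 := hroot v hv k hk hvs
      by_contra hv0
      have hv1 : v ≠ 1 := fun h' => hv0 (h' ▸ one_mem _)
      have hvB : v ∈ B := hB.maxEA.full v (hpC v hv _ hk) hvs1
      have hb := (hlines (Subgroup.zpowers v) (Subgroup.zpowers_le.mpr hvB) (hB.maxEA.card_zpowers hvB hv1)
        fun h' => hv0 (h' ▸ Subgroup.mem_zpowers v)).1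
      rw [← Sigma.centralizer_singleton_eq (a := v) rfl] at hb
      exact hy1 (Subgroup.mem_bot.mp (hb.le ⟨hy, Subgroup.mem_centralizer_singleton_iff.mpr hvy.symm⟩))
  set K := S0 ⊔ B0 with hKdef
  have hB0S : B0 ≤ Subgroup.normalizer (S0 : Set G) := hB0M.trans hMS
  have hKmem : ∀ k ∈ K, ∃ m ∈ S0, ∃ b ∈ B0, m * b = k := fun k hk => by
    obtain ⟨m, hm, b, hb, e⟩ := Coprime.exists_mul_of_mem_sup hB0S hk
    exact ⟨m, hm, b, hb, e⟩
  have hKM : K ≤ M := sup_le hSM hB0M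
  have hMK : M ≤ Subgroup.normalizer (K : Set G) := fun m hm => Sigma.mem_normalizer_sup (hMS hm) (hMB0 hm)
  have hmb : ∀ m ∈ S0, ∀ b ∈ B0, Commute b m := fun m hm b hb =>
    Subgroup.mem_centralizer_iff.mp (hC0 hm) b hb
  have hB0c : ∀ b ∈ B0, ∀ b' ∈ B0, Commute b b' := fun b hb b' hb' =>
    congrArg Subtype.val (hB.maxEA.ea.1.is_comm.comm ⟨b, hB.le0 hb⟩ ⟨b', hB.le0 hb'⟩)
  have hKc : ∀ k ∈ K, ∀ k' ∈ K, Commute k k' := fun k hk k' hk' => by
    obtain ⟨m, hm, b, hb, rfl⟩ := hKmem k hk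
    obtain ⟨m', hm', b', hb', rfl⟩ := hKmem k' hk'
    have hmm : Commute m m' := congrArg Subtype.val (hSc.is_comm.comm ⟨m, hm⟩ ⟨m', hm'⟩)
    exact (hmm.mul_right (hmb m hm b' hb').symm).mul_left ((hmb m' hm' b hb).mul_right (hB0c b hb b' hb'))
  have hSX : X ⊓ S0 = ⊥ := hX.2.2.1
  have hdisj : S0 ⊓ B0 = ⊥ := le_bot_iff.mp fun a ha => hSX.le ⟨hB0X ha.2, ha.1⟩
  have hKcard : Nat.card K = Nat.card S0 * s := by rw [hKdef, Coprime.card_sup hB0S hdisj, hB.card0]
  have hXK : ∀ v ∈ X, v ∈ K → v ∈ B0 := fun v hv hvK => by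
    obtain ⟨m, hm, b, hb, rfl⟩ := hKmem v hvK
    have : m ∈ X ⊓ S0 := ⟨by simpa using X.mul_mem hv (X.inv_mem (hB0X hb)), hm⟩
    rw [hSX, Subgroup.mem_bot] at this
    rw [this, one_mul]; exact hb
  -- powers
  have hn0 : ¬ s ∣ Nat.card S0 := hB.not_dvd_sigmaCore
  have hpow : ∀ k ∈ K, k ^ Nat.card S0 ∈ B0 ∧ (k ∉ S0 → k ^ Nat.card S0 ≠ 1) := fun k hk => by
    obtain ⟨m, hm, b, hb, rfl⟩ := hKmem k hk
    rw [(hmb m hm b hb).symm.mul_pow, orderOf_dvd_iff_pow_eq_one.mp (Subgroup.orderOf_dvd_natCard S0 hm), one_mul]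
    refine ⟨pow_mem hb _, fun hnot h1 => hnot ?_⟩
    have hbd : orderOf b ∣ s := hB.card0 ▸ Subgroup.orderOf_dvd_natCard B0 hb
    have hb1 : b = 1 := orderOf_eq_one_iff.mp (Nat.eq_one_of_dvd_coprimes
      (hs.out.coprime_iff_not_dvd.mpr hn0) hbd (orderOf_dvd_of_pow_eq_one h1))
    rwa [hb1, mul_one]
  have hCB0 : ∀ b ∈ B0, b ≠ 1 → Subgroup.centralizer ({b} : Set G) ≤ M := fun b hb hb1 => by
    rw [Sigma.centralizer_singleton_eq (Sigma.zpowers_eq_of_card_prime hB.card0 hb hb1)]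
    exact (Subgroup.centralizer_le_normalizer _).trans hB.norm
  have hout : ∀ a ∈ K, a ∉ S0 → Subgroup.centralizer ({a} : Set G) ≤ M := fun a ha hna' =>
    le_trans (fun c hc => Subgroup.mem_centralizer_singleton_iff.mpr
      ((show Commute c a from Subgroup.mem_centralizer_singleton_iff.mp hc).pow_right _).eq)
      (hCB0 _ (hpow a ha).1 ((hpow a ha).2 hna'))
  -- `M ⊓ L = K`
  have hB0E : B0 ≤ M ⊓ L := le_inf hB0M (le_trans (fun b hb => Subgroup.mem_centralizer_singleton_iff.mpr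
    (hmb z (d.le d.mem) b hb).eq) d.supp.le)
  have hKE : K ≤ M ⊓ L := sup_le hSE hB0E
  have hprime : ∀ v ∈ X, v ∈ L → ∀ r : ℕ, r.Prime → orderOf v = r → v ∈ B0 := fun v hv hvL r hr hvo => by
    by_contra hv0
    haveI := Fact.mk hr
    refine d.no_fpf hG ⟨hX.1 hv, hvL⟩ hvo (fun e => hXσ r hr (hvo ▸ Subgroup.orderOf_dvd_natCard X hv)
      (e ▸ d.p_sigma)) ((Subgroup.eq_bot_iff_forall _).mpr fun a ha => by_contra fun ha1 =>
        hv0 (hfixB0 v hv a (d.le ha.1) ha1 (Subgroup.mem_centralizer_singleton_iff.mp ha.2).symm))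
  have hXL : ∀ v ∈ X, v ∈ L → v ∈ B0 := by
    intro v hv hvL
    obtain ⟨k, hk⟩ : ∃ k, v ^ s ^ k = 1 := by
      refine ⟨_, orderOf_dvd_iff_pow_eq_one.mp (Nat.eq_prime_pow_of_unique_prime_dvd (orderOf_pos v).ne' (p := s)
        fun {q} hq hd => ?_).dvd⟩
      have ho : orderOf (v ^ (orderOf v / q)) = q := orderOf_pow_orderOf_div (orderOf_pos v).ne' hd
      have h1 : q ∣ s := by
        have := Subgroup.orderOf_dvd_natCard B0 (hprime _ (pow_mem hv _) (pow_mem hvL _) q hq ho)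
        rwa [ho, hB.card0] at this
      exact (Nat.prime_dvd_prime_iff_eq hq hs.out).mp h1
    induction k generalizing v with
    | zero => rw [pow_zero, pow_one] at hk; rw [hk]; exact one_mem _
    | succ k ih =>
      have hvs : v ^ s ∈ B0 := ih (v ^ s) (pow_mem hv s) (pow_mem hvL s)
        (by rw [← pow_mul, ← pow_succ']; exact hk)
      have hvs1 := hroot v hv k hk hvs
      by_cases hv1 : v = 1
      · rw [hv1]; exact one_mem _
      exact hprime v hv hvL s hs.out (orderOf_eq_prime hvs1 hv1)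
  have hEK : M ⊓ L ≤ K := fun g hg => by
    obtain ⟨v, hv, k, hk, rfl⟩ := hX.2.2.2 g hg.1
    refine mul_mem (Subgroup.mem_sup_right (hXL v hv ?_)) (Subgroup.mem_sup_left hk)
    simpa using L.mul_mem hg.2 (L.inv_mem (hSE hk).2)
  -- the index
  set e := Nat.card X / s with hedef
  have hs2 : s ^ 2 ∣ Nat.card X := hB.maxEA.card ▸ Subgroup.card_dvd_of_le hBX
  have hes : e * s = Nat.card X := Nat.div_mul_cancel ((dvd_pow_self s two_ne_zero).trans hs2)
  have hse : s ∣ e := by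
    refine Nat.dvd_of_mul_dvd_mul_right hs.out.pos ?_
    rw [hes, ← pow_two]; exact hs2
  have he0 : 0 < e := Nat.pos_of_ne_zero fun h => by
    rw [h, zero_mul] at hes; exact Nat.card_pos.ne' hes.symm
  have hsle : s ≤ e := Nat.le_of_dvd he0 hse
  have hindex : e * Nat.card K = Nat.card M := by
    rw [hKcard, ← IsComplIn.card_mul hX, ← hes, ← hS0]; ring
  -- the action on `A`
  have hMA : M ≤ Subgroup.normalizer (A : Set G) := fun m hm => d.conj_mem hSA d.le (hMS hm)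
  set f := A.normalizerMonoidHom.comp (Subgroup.inclusion (hX.1.trans hMA)) with hf
  have hfv : ∀ (v : X) (a : A), ((f v a : A) : G) = (v : G) * a * (v : G)⁻¹ := fun v a => rfl
  have hker : ∀ v : X, f v = 1 ↔ (v : G) ∈ B0 := fun v => by
    constructor
    · intro h
      refine hfixB0 v v.2 z (d.le d.mem) d.ne (mul_inv_eq_iff_eq_mul.mp ?_)
      exact (hfv v ⟨z, d.mem⟩).symm.trans (congrArg Subtype.val (DFunLike.congr_fun h ⟨z, d.mem⟩))
    · intro h
      refine MulEquiv.ext fun a => Subtype.ext ?_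
      rw [hfv, (hmb a (d.le a.2) v h).eq, mul_inv_cancel_right]
      rfl
  have hRcard : Nat.card f.range = e := by
    have h1 : f.ker = B0.subgroupOf X := by
      ext v; rw [MonoidHom.mem_ker, Subgroup.mem_subgroupOf]; exact hker v
    rw [← Subgroup.index_ker, h1]
    refine Nat.eq_of_mul_eq_mul_left hs.out.pos ?_
    have h2 := Core.card_mul_relIndex hB0X
    rw [hB.card0, ← hes, mul_comm e] at h2
    exact h2
  haveI : Nontrivial A := Finite.one_lt_card_iff_nontrivial.mp (by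
    rw [d.exc.maxEA.card]; exact Nat.one_lt_pow two_ne_zero hp.out.one_lt)
  have hp2 : p ≠ 2 := Sigma.ne_two_of_dvd hG (Sigma.sigma_dvd d.p_sigma)
  have hAcomm : ∀ a b : A, a * b = b * a := d.exc.maxEA.ea.1.is_comm.comm
  have hAexp : ∀ a : A, a ^ p = 1 := fun a => Subtype.ext (d.exc.maxEA.ea.2 a a.2)
  have hXp : ¬ p ∣ Nat.card X := fun hd => hXσ p hp.out hd d.p_sigma
  have hder := Sigma.derived_le_centralizer hG (fun h => hM.1 (top_le_iff.mp (h.ge.trans hX.1)))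
    (hX.1.trans hMA) hXp (RankTwo.oddAutSmall_of_card_le hp2 hAcomm hAexp d.exc.maxEA.card.le)
  have hRp : ¬ p ∣ Nat.card f.range := fun hd => hXp (hd.trans (Subgroup.card_range_dvd f))
  haveI hcyc : IsCyclic f.range := isCyclic_of_fpf_autGroup f.range
    (by
      rintro _ ⟨v, rfl⟩ _ ⟨w, rfl⟩
      rw [← map_mul, ← map_mul]
      have hvw : f ⁅v, w⁆ = 1 := MulEquiv.ext fun a => Subtype.ext (by
        rw [hfv, show ((⁅v, w⁆ : X) : G) = ⁅(v : G), (w : G)⁆ from map_commutatorElement X.subtype v w,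
          ← Subgroup.mem_centralizer_iff.mp (hder (Subgroup.commutator_mem_commutator v.2 w.2)) a a.2,
          mul_inv_cancel_right]
        rfl)
      rw [map_commutatorElement, commutatorElement_eq_one_iff_mul_comm, ← map_mul, ← map_mul] at hvw
      exact hvw)
    (by rw [d.exc.maxEA.card]; exact ((hp.out.coprime_iff_not_dvd.mpr hRp).symm).pow_right 2)
    (by
      rintro _ ⟨v, rfl⟩ hv1 a ha
      by_contra ha1
      refine hv1 ((hker v).mpr (hfixB0 v v.2 a (d.le a.2) (fun h => ha1 (Subtype.ext h))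
        (mul_inv_eq_iff_eq_mul.mp ((hfv v a).symm.trans (congrArg Subtype.val ha))))))
  obtain ⟨Φ, hΦ, hscal⟩ := Sigma.exists_gl_hom_scalar (V := A) hAcomm hAexp d.exc.maxEA.card
  obtain ⟨r₀, hr₀⟩ := hcyc.exists_generator
  have ho : orderOf (Φ (r₀ : MulAut A)) = e := by
    rw [orderOf_injective Φ hΦ, Subgroup.orderOf_coe, orderOf_eq_card_of_forall_mem_zpowers hr₀, hRcard]
  have hd := Sigma.orderOf_dvd_of_not_scalar (Φ (r₀ : MulAut A))
    (by rw [ho, ← hRcard]; exact (hp.out.coprime_iff_not_dvd.mpr hRp).symm) (by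
      intro k hk c hk1 hkc
      obtain ⟨i, rfl⟩ := hk
      obtain ⟨v, hv⟩ := (r₀ ^ i).2
      have hkv : Φ (f v) = Φ (r₀ : MulAut A) ^ i := by rw [hv, Subgroup.coe_zpow, map_zpow]
      have hva : ∀ a : A, f v a = a ^ c.val := hscal (f v) c (by rw [hkv]; exact hkc)
      refine hk1 (show Φ (r₀ : MulAut A) ^ i = 1 from ?_)
      rw [← hkv, (hker v).mpr (hXL v v.2 (d.normalizer_zpowers hG ?_)), map_one]
      refine Coprime.mem_normalizer_of_conj_mem fun b hb => ?_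
      have hbA : b ∈ A := (Subgroup.zpowers_le.mpr d.mem) hb
      rw [← hfv v ⟨b, hbA⟩, hva, SubmonoidClass.coe_pow]
      exact pow_mem hb _)
  rw [ho] at hd
  have hs3 : s ≠ 3 := exc_ne_three hG hB
  have heodd : Odd e := Sigma.odd_of_dvd hG ((Dvd.intro s hes).trans (Subgroup.card_subgroup_dvd_card X))
  have hs2' : s ≠ 2 := Sigma.ne_two_of_dvd hG ((hB.card0 ▸ Subgroup.card_subgroup_dvd_card B0))
  have hpodd := Nat.odd_iff.mp (hp.out.odd_of_ne_two hp2)
  have hep : 2 * e ≤ p + 1 := by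
    have hp3 := hp.out.two_le
    rcases hd with hd | hd <;>
    have := Nat.le_of_dvd (by omega) ((Nat.coprime_two_left.mpr heodd).mul_dvd_of_dvd_of_dvd
      (by omega) hd) <;> omega
  have hbr : 2 * e < p ∨ 7 ≤ e := by
    by_contra hcon
    push Not at hcon
    have h5 : 5 ≤ s := by
      have := hs.out.two_le
      have h4 : s ≠ 4 := fun h => by have := hs.out; rw [h] at this; norm_num at this
      omega
    have he5 : e = 5 := by have := Nat.odd_iff.mp heodd; omega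
    have hp9 : p = 9 := by omega
    have := hp.out; rw [hp9] at this; norm_num at this
  refine d.finish hG (K := K) (N := B0) (e := e) hKM hMK hMB0 le_sup_right ?_ ?_ le_sup_left hindex
    (by have := hs.out.two_le; omega) hep ?_ ?_ hout
    (fun q hq hdq => Sigma.complIn_notMem_sigma hG d.exc.coatom d.supp.compl hq
      (hdq.trans (Subgroup.card_dvd_of_le hKE)))
    hCB0 (Or.inr ⟨hbr, Subgroup.card_le_of_le hEK, hB.card0 ▸ hsle, ?_, fun b hb a ha => hmb a (d.le ha) b hb⟩)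
  · refine Subgroup.commutator_le.mpr fun a ha b hb => ?_
    rw [commutatorElement_eq_one_iff_mul_comm.mpr (hKc a ha b hb).eq]
    exact one_mem _
  · rw [hKcard, hB.card0, ← d.exc.maxEA.card]
    exact Nat.mul_le_mul_right _ (Subgroup.card_le_of_le d.le)
  · intro g hg hgK x hx hgx
    obtain ⟨v, hv, k, hk, rfl⟩ := hX.2.2.2 g hg
    have hv0 : v ∉ B0 := fun h => hgK (mul_mem (Subgroup.mem_sup_right h) (Subgroup.mem_sup_left hk))
    obtain ⟨m, hm, b, hb, rfl⟩ := hKmem x hx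
    have hkx : k * (m * b) * k⁻¹ = m * b := by
      rw [(hKc k (Subgroup.mem_sup_left hk) _ hx).eq, mul_inv_cancel_right]
    have h1 : v * (m * b) * v⁻¹ * (m * b)⁻¹ ∈ B0 := by
      rwa [show v * k * (m * b) * (v * k)⁻¹ = v * (k * (m * b) * k⁻¹) * v⁻¹ by group, hkx] at hgx
    have hvb : v * b * v⁻¹ ∈ B0 := (Subgroup.mem_normalizer_iff.mp (hMB0 (hX.1 hv)) b).mp hb
    have hvm : v * m * v⁻¹ ∈ S0 := (Subgroup.mem_normalizer_iff.mp (hMS (hX.1 hv)) m).mp hm
    have h2 : v * m * v⁻¹ * m⁻¹ ∈ S0 ⊓ B0 := by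
      refine ⟨S0.mul_mem hvm (S0.inv_mem hm), ?_⟩
      have h3 := B0.mul_mem (B0.mul_mem (B0.inv_mem hvb) h1) hb
      have e3 : (v * b * v⁻¹)⁻¹ * (v * (m * b) * v⁻¹ * (m * b)⁻¹) * b = v * m * v⁻¹ * m⁻¹ := by
        have hc : (v * b * v⁻¹)⁻¹ * (v * m * v⁻¹) = v * m * v⁻¹ * (v * b * v⁻¹)⁻¹ :=
          ((hmb _ hvm _ hvb).inv_left).eq
        calc (v * b * v⁻¹)⁻¹ * (v * (m * b) * v⁻¹ * (m * b)⁻¹) * b
            = (v * b * v⁻¹)⁻¹ * (v * m * v⁻¹) * (v * b * v⁻¹) * (b⁻¹ * m⁻¹ * b) := by group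
          _ = v * m * v⁻¹ * m⁻¹ := by
            rw [hc, inv_mul_cancel_right, mul_assoc b⁻¹, ← ((hmb m hm b hb).inv_right).eq, inv_mul_cancel_left]
      rwa [e3] at h3
    rw [hdisj, Subgroup.mem_bot, mul_inv_eq_one, mul_inv_eq_iff_eq_mul] at h2
    have hm1 : m = 1 := by_contra fun h => hv0 (hfixB0 v hv m hm h h2)
    rw [hm1, one_mul]; exact hb
  · refine (Support.dade_of hG hM (A := (K : Set G) \ {1}) (fun a ha => hKM ha.1) (fun h => h.2 rfl)
      ⟨z, Subgroup.mem_sup_left (d.le d.mem), d.ne⟩ (fun m hm v hv =>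
        ⟨(Subgroup.mem_normalizer_iff.mp (hMK hm) v).mp hv.1, fun h => hv.2 (conj_eq_one_iff.mp h)⟩)
      (fun _ v hv => ⟨hKM hv.1, z, d.le d.mem, d.ne, (hKc v hv.1 z (Subgroup.mem_sup_left (d.le d.mem))).eq⟩)
      (fun a ha hnot g hg => hB.norm (Sigma.cj_eq_iff.mp ?_))).2
    have h1 := (hpow a ha.1).2 hnot
    have h2 := (hpow _ hg.1).1
    rw [conj_pow] at h2
    conv_lhs => rw [← Sigma.zpowers_eq_of_card_prime hB.card0 (hpow a ha.1).1 h1]
    rw [Sigma.cj, MonoidHom.map_zpowers]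
    simp only [MulEquiv.coe_toMonoidHom, MulAut.conj_apply]
    exact Sigma.zpowers_eq_of_card_prime hB.card0 h2 fun h => h1 (conj_eq_one_iff.mp h)
  · refine (Subgroup.eq_bot_iff_forall _).mpr fun a ha => ?_
    exact Subgroup.mem_bot.mp (hdisj.le ⟨d.le ha.2, ha.1⟩)

end Cfsg.Agent.OddChar.Frob
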