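import Cfsg.Agent.OddChar.Frob.KappaEmptyTau2

/-! Common facts for the configuration with abelian Sylow subgroups for a prime of `τ₂`. -/

set_option autoImplicit false
set_option linter.style.haveILetI false
set_option linter.unusedSectionVars false

namespace Cfsg.Agent.OddChar.Frob

open Cfsg
open Cfsg.Agent.OddLocal
open Cfsg.Agent.OddLocal.Sigma (IsSupport Exc)
open scoped commutatorElement

universe u

variable {G : Type u} [Group G] [Finite G]

/-- `z ∈ A` is moved from `M` into `L`. -/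
structure Moved (L M : Subgroup G) (p : ℕ) (A A0 : Subgroup G) (z : G) : Prop where
  kL : kappa L = ∅
  exc : Exc L p A A0
  tau : p ∈ tau2 L
  coatom : IsCoatom M
  mem : z ∈ A
  ne : z ≠ 1
  le : A ≤ sigmaCore M
  supp : IsSupport M L z
  big : ¬ sigmaCore L ⊓ Subgroup.centralizer ({z} : Set G) ≤ ⁅sigmaCore L, sigmaCore L⁆
  abel : ∀ S : Sylow p G, IsMulCommutative (S : Subgroup G)

variable {L M A A0 : Subgroup G} {p : ℕ} [hp : Fact p.Prime] {z : G}

theorem Moved.order (d : Moved L M p A A0 z) : orderOf z = p :=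
  orderOf_eq_prime (d.exc.maxEA.ea.2 z d.mem) d.ne

theorem Moved.p_sigma (d : Moved L M p A A0 z) : p ∈ sigma M :=
  Sigma.mem_sigma_of_dvd hp.out (d.order ▸ Subgroup.orderOf_dvd_natCard _ (d.le d.mem))

theorem Moved.le_E (d : Moved L M p A A0 z) : A ≤ M ⊓ L :=
  le_inf (d.le.trans (Sigma.sigmaCore_le M)) d.exc.le

/-- A nilpotent group with `A` inside centralizes `A`, the Sylow `p`-subgroups being abelian. -/
theorem Moved.nilpotent_le_centralizer (d : Moved L M p A A0 z) {F : Subgroup G} (hn : Group.IsNilpotent F)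
    (hAF : A ≤ F) : F ≤ Subgroup.centralizer (A : Set G) := by
  refine Subgroup.le_centralizer_iff.mp fun a ha => ?_
  by_cases ha1 : a = 1
  · subst ha1; exact one_mem _
  have hao : orderOf a = p := orderOf_eq_prime (d.exc.maxEA.ea.2 a ha) ha1
  have key : F ≤ Subgroup.centralizer ({a} : Set G) := Core.le_of_forall_exists_sylow_le fun t ht => by
    haveI := Fact.mk ht
    by_cases htp : t = p
    · subst htp
      have hpg : IsPGroup t (Subgroup.zpowers (⟨a, hAF ha⟩ : F)) := IsPGroup.of_card (n := 1) (by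
        rw [Nat.card_zpowers, Subgroup.orderOf_mk, hao, pow_one])
      obtain ⟨R, hR⟩ := hpg.exists_le_sylow
      obtain ⟨S, hS⟩ := (R.isPGroup'.map F.subtype).exists_le_sylow
      have haS : a ∈ (S : Subgroup G) := hS ⟨⟨a, hAF ha⟩, hR (Subgroup.mem_zpowers _), rfl⟩
      refine ⟨R, fun x hx => Subgroup.mem_centralizer_singleton_iff.mpr ?_⟩
      exact congrArg Subtype.val ((d.abel S).is_comm.comm ⟨x, hS hx⟩ ⟨a, haS⟩)
    · obtain ⟨R⟩ := (inferInstance : Nonempty (Sylow t F))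
      refine ⟨R, fun x hx => Subgroup.mem_centralizer_singleton_iff.mpr
        (Sigma.commute_of_mem_nilpotent hn ((Subgroup.map_subtype_le _) hx) (hAF ha) ?_).eq⟩
      obtain ⟨k, hk⟩ := IsPGroup.iff_card.mp (R.isPGroup'.map F.subtype)
      refine Nat.Coprime.coprime_dvd_left (hk ▸ Subgroup.orderOf_dvd_natCard _ hx) ?_
      rw [hao]
      exact ((Nat.coprime_primes ht hp.out).mpr htp).pow_left k
  exact Subgroup.mem_centralizer_iff.mpr fun f hf => Subgroup.mem_centralizer_singleton_iff.mp (key hf)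

theorem Moved.centralizer_le (d : Moved L M p A A0 z) : Subgroup.centralizer (A : Set G) ≤ L :=
  le_trans (fun _ hc => Subgroup.mem_centralizer_singleton_iff.mpr
    (Subgroup.mem_centralizer_iff.mp hc z d.mem).symm) d.supp.le

theorem Moved.conj_mem (d : Moved L M p A A0 z) {F : Subgroup G} (hF : F ≤ Subgroup.centralizer (A : Set G))
    (hAF : A ≤ F) {m : G} (hm : m ∈ Subgroup.normalizer (F : Set G)) : m ∈ Subgroup.normalizer (A : Set G) :=
  Coprime.mem_normalizer_of_conj_mem fun a ha =>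
    d.exc.maxEA.full _ (hF ((Subgroup.mem_normalizer_iff.mp hm a).mp (hAF ha)))
      (by rw [conj_pow, d.exc.maxEA.ea.2 a ha, mul_one, mul_inv_cancel])

section
variable (hG : IsMinSimpleOddOrder G)
include hG

theorem Moved.abelian (d : Moved L M p A A0 z) {F : Subgroup G} (hn : Group.IsNilpotent F) (hF : F ≤ M ⊓ L) :
    IsMulCommutative F :=
  haveI := hn
  Sigma.isMulCommutative_of_nilpotent_le hG (Support.plen hG) d.exc.coatom (hF.trans inf_le_right) fun _ hq hd =>
    Sigma.complIn_notMem_sigma hG d.exc.coatom d.supp.compl hq (hd.trans (Subgroup.card_dvd_of_le hF))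

theorem Moved.nilpotent_core (d : Moved L M p A A0 z) (hn : Group.IsNilpotent (sigmaCore M)) :
    sigmaCore M ≤ M ⊓ L ∧ sigmaCore M ≤ Subgroup.centralizer (A : Set G) ∧ IsMulCommutative (sigmaCore M) := by
  have h1 := d.nilpotent_le_centralizer hn d.le
  have h2 : sigmaCore M ≤ M ⊓ L := le_inf (Sigma.sigmaCore_le M) (h1.trans d.centralizer_le)
  exact ⟨h2, h1, d.abelian hG hn h2⟩

/-- `N(⟨z⟩) ≤ L`. -/
theorem Moved.normalizer_zpowers (d : Moved L M p A A0 z) {g : G}
    (hg : g ∈ Subgroup.normalizer (Subgroup.zpowers z : Set G)) : g ∈ L := by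
  refine Sigma.mem_of_cj_eq hG d.exc.coatom (d.supp.only _ (Sigma.isCoatom_cj d.exc.coatom g) ?_)
  rw [Sigma.centralizer_singleton_eq (a := z) rfl, ← Sigma.cj_eq_iff.mpr hg, ← Sigma.cj_centralizer]
  refine Sigma.cj_mono ?_
  rw [← Sigma.centralizer_singleton_eq (a := z) rfl]
  exact d.supp.le

/-- No element of prime order of `M ∩ L` is fixed point free on `A`. -/
theorem Moved.no_fpf (d : Moved L M p A A0 z) {x : G} {r : ℕ} [hr : Fact r.Prime] (hx : x ∈ M ⊓ L)
    (hxo : orderOf x = r) (hrp : r ≠ p) (hfr : A ⊓ Subgroup.centralizer ({x} : Set G) = ⊥) : False := by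
  have hpl := Support.plen hG
  have hA := d.exc
  have hL := hA.coatom
  set H := sigmaCore L with hH
  have hEN : M ⊓ L ≤ Subgroup.normalizer (A : Set G) := hA.le_normalizer_of_compl hG hpl d.supp.compl d.le_E
  have hx1 : x ≠ 1 := fun e => hr.out.one_lt.ne (by rw [← hxo, e, orderOf_one])
  have hR : Nat.card (Subgroup.zpowers x) = r := by rw [Nat.card_zpowers, hxo]
  have hRE : Subgroup.zpowers x ≤ M ⊓ L := Subgroup.zpowers_le.mpr hx
  have hrd : r ∣ Nat.card ↥(M ⊓ L) := hxo ▸ Subgroup.orderOf_dvd_natCard _ hx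
  have hrL : r ∉ sigma L := Sigma.complIn_notMem_sigma hG hL d.supp.compl hr.out hrd
  have hfixA : ∀ e ∈ Subgroup.zpowers x, e ≠ 1 → A ⊓ Subgroup.centralizer ({e} : Set G) = ⊥ := fun e he he1 => by
    rw [Sigma.centralizer_singleton_eq (Sigma.zpowers_eq_of_card_prime hR he he1),
      ← Sigma.centralizer_singleton_eq (a := x) rfl]
    exact hfr
  by_cases hne : H ⊓ Subgroup.centralizer ((Subgroup.zpowers x : Subgroup G) : Set G) = ⊥
  · haveI : Group.IsSolvable H :=
      Core.BG.isSolvable_proper hG fun e => hL.1 (top_le_iff.mp (e.ge.trans (Sigma.sigmaCore_le L)))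
    have hAR : A ⊓ Subgroup.zpowers x = ⊥ := Subgroup.inf_eq_bot_of_coprime
      (Sigma.coprime_of_pGroups hrp.symm hA.maxEA.isPGroup (Sigma.isPGroup_of_card_prime hR))
    have hcard := Core.BG.card_eq_inf_centralizer_pow (M := H) (K := A) (R := Subgroup.zpowers x) inferInstance
      hA.maxEA.ne_bot (Sigma.ne_bot_of_card_prime hR) (hRE.trans hEN) hAR hfixA
      ((sup_le hA.le (hRE.trans inf_le_right)).trans (Sigma.le_normalizer_sigmaCore L))
      (Nat.coprime_of_dvd fun q hq h1 h2 => by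
        rw [Coprime.card_sup (hRE.trans hEN) hAR, hR, hA.maxEA.card] at h2
        rcases hq.dvd_mul.mp h2 with h | h
        · exact hA.notMem ((Nat.prime_dvd_prime_iff_eq hq hp.out).mp (hq.dvd_of_dvd_pow h) ▸
            Sigma.mem_sigma_of_dvd hq h1)
        · exact hrL ((Nat.prime_dvd_prime_iff_eq hq hr.out).mp h ▸ Sigma.mem_sigma_of_dvd hq h1))
      (hA.inf_centralizer_eq_bot hG hpl)
    rw [hne, Subgroup.card_bot, one_pow] at hcard
    exact Sigma.sigmaCore_ne_bot hG hL (Subgroup.eq_bot_of_card_eq _ hcard)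
  · rcases Sigma.fixed_classes hG hpl hL hR (hRE.trans inf_le_right) hrL hne with h | h
    · rw [d.kL] at h; exact h
    · have hxA := Sigma.le_centralizer_of_tau2 hG hpl hL d.supp.compl d.tau
        ⟨d.le_E, hA.maxEA.ea, hA.maxEA.card⟩ hRE
        fun q hq hq' => (Nat.prime_dvd_prime_iff_eq hq hr.out).mp (hR ▸ hq') ▸ h
      refine hA.maxEA.ne_bot (le_bot_iff.mp (le_trans (le_inf le_rfl fun a ha => ?_) hfr.le))
      exact Subgroup.mem_centralizer_singleton_iff.mpr
        (Subgroup.mem_centralizer_iff.mp (hxA (Subgroup.mem_zpowers x)) a ha)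

/-- The character configuration closes once the kernel `K`, the subgroup `N` and the index `e` are given. -/
theorem Moved.finish (d : Moved L M p A A0 z) {K N : Subgroup G} {e : ℕ}
    (hKM : K ≤ M) (hKn : M ≤ Subgroup.normalizer (K : Set G)) (hNn : M ≤ Subgroup.normalizer (N : Set G))
    (hNK : N ≤ K) (hK'N : ⁅K, K⁆ ≤ N) (hbig : p ^ 2 * Nat.card N ≤ Nat.card K) (hσK : sigmaCore M ≤ K)
    (hindex : e * Nat.card K = Nat.card M) (he3 : 3 ≤ e) (hep : 2 * e ≤ p + 1)
    (hfpf : ∀ g ∈ M, g ∉ K → ∀ x ∈ K, g * x * g⁻¹ * x⁻¹ ∈ N → x ∈ N)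
    (hdM : DadeHypothesis ((K : Set G) \ {1}) M (supportR M))
    (hout : ∀ a ∈ K, a ∉ sigmaCore M → Subgroup.centralizer ({a} : Set G) ≤ M)
    (hKσ : ∀ q : ℕ, q.Prime → q ∣ Nat.card K → q ∉ sigma L)
    (hNR : ∀ w ∈ N, w ≠ 1 → Subgroup.centralizer ({w} : Set G) ≤ M)
    (hcase : Nat.card ↥(M ⊓ L) * Nat.card N ≤ Nat.card K ∨
      ((2 * e < p ∨ 7 ≤ e) ∧ Nat.card ↥(M ⊓ L) ≤ Nat.card K ∧ Nat.card N ≤ e ∧ N ⊓ A = ⊥ ∧
        ∀ b ∈ N, ∀ a ∈ A, Commute b a)) : False := by
  have hpl := Support.plen hG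
  have hA := d.exc
  have hL := hA.coatom
  have hM := d.coatom
  have hS := d.supp
  set H := sigmaCore L with hH
  haveI : Fintype G := Fintype.ofFinite G
  have hzc : Nat.card (Subgroup.zpowers z) = p := by rw [Nat.card_zpowers, d.order]
  have hzK : z ∈ K := hσK (d.le d.mem)
  have hz' : z ∉ N := fun h => hS.notLe (hNR z h d.ne)
  have hdL : DadeHypothesis ((H : Set G) \ {1}) L (supportR L) := by
    obtain ⟨a, ha, ha1⟩ := H.bot_or_exists_ne_one.resolve_left (Sigma.sigmaCore_ne_bot hG hL)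
    exact (Support.dade_of hG hL (A := (H : Set G) \ {1}) (fun a ha => Sigma.sigmaCore_le L ha.1)
      (fun h => h.2 rfl) ⟨a, ha, ha1⟩ (fun m hm v hv => ⟨(Subgroup.mem_normalizer_iff.mp
        (Sigma.le_normalizer_sigmaCore L hm) v).mp hv.1, fun e => hv.2 (conj_eq_one_iff.mp e)⟩)
      (fun _ v hv => ⟨Sigma.sigmaCore_le L hv.1, v, hv.1, hv.2, rfl⟩) (fun a ha hn => absurd ha.1 hn)).2
  have hdisj : ∀ g ∈ dadeSupport ((H : Set G) \ {1}) (supportR L),
      g ∉ dadeSupport ((K : Set G) \ {1}) (supportR M) := by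
    intro g hg hg'
    obtain ⟨a, ha, u, hu, y, he⟩ := hg
    obtain ⟨b, hb, v, hv, y', he'⟩ := hg'
    by_cases hbσ : b ∈ sigmaCore M
    · exact (Set.eq_empty_iff_forall_notMem.mp (Sigma.tildeOf_disjoint hG hpl hM hL hS.nc)) g
        ⟨⟨b, ⟨hbσ, hb.2⟩, v, hv, y'⁻¹, by rw [← he']; group⟩, ⟨a, ha, u, hu, y⁻¹, by rw [← he]; group⟩⟩
    rw [Sigma.supportR_eq_bot (hout b hb.1 hbσ), Subgroup.mem_bot] at hv
    -- the `σ(L)`-part of an element of `dadeSupport` of `H` is not trivial
    have hau : Commute a u := (Subgroup.mem_centralizer_singleton_iff.mp (hdL.le_centralizer a ha hu)).symm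
    have hcop : (orderOf a).Coprime (orderOf u) := Nat.coprime_of_dvd fun q hq h1 h2 =>
      (Sigma.supportR_facts hG hpl hL ha.1 ha.2).2.2.2.2.1 u hu q hq h2
        (Sigma.mem_sigma_of_dvd hq (h1.trans (Subgroup.orderOf_dvd_natCard _ ha.1)))
    have ho : orderOf (a * u) = orderOf b := by
      have e1 : orderOf g = orderOf (a * u) := by rw [← he, Sigma.orderOf_conj_eq]
      have e2 : orderOf g = orderOf b := by rw [← mul_one b, ← hv, ← he', Sigma.orderOf_conj_eq]
      rw [← e1, e2]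
    obtain ⟨q, hq, hqa⟩ := Nat.exists_prime_and_dvd (show orderOf a ≠ 1 by
      rw [ne_eq, orderOf_eq_one_iff]; exact ha.2)
    refine hKσ q hq ((hqa.trans ?_).trans (Subgroup.orderOf_dvd_natCard K hb.1))
      (Sigma.mem_sigma_of_dvd hq (hqa.trans (Subgroup.orderOf_dvd_natCard _ ha.1)))
    rw [← ho, hau.orderOf_mul_eq_mul_orderOf_of_coprime hcop]
    exact dvd_mul_right _ _
  refine Cfg.false (M := M) (L := L) (K := K) (N := N) (H := H) (A := A) (T := A) (z := z) (e := e)
    ⟨hKM, hKn, hNn, hNK, hK'N, hbig, d.le.trans hσK, hA.maxEA.isPGroup, hindex, he3, hep, hfpf, hdM, hdL, hdisj,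
      fun w hw hw1 => Sigma.supportR_eq_bot (hNR w hw hw1), hzK, d.order, hz', Sigma.sigmaCore_le L,
      Sigma.le_normalizer_sigmaCore L, d.mem, hA.maxEA.isPGroup, hA.maxEA.ea.1, hA.le,
      hA.inf_centralizer_eq_bot hG hpl, hA.not_dvd_sigmaCore,
      fun w hw hw1 => ?_, d.big, fun m _ hm => d.normalizer_zpowers hG hm, ?_, ?_⟩ hp.out
  · have hc : Subgroup.centralizer ({w} : Set G) = Subgroup.centralizer ({z} : Set G) := by
      rw [Sigma.centralizer_singleton_eq (Sigma.zpowers_eq_of_card_prime hzc hw hw1),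
        ← Sigma.centralizer_singleton_eq (a := z) rfl]
    obtain ⟨Y, hY⟩ := Sigma.exists_support hG hpl hM ((Subgroup.zpowers_le.mpr (d.le d.mem)) hw) hw1
      (by rw [hc]; exact hS.notLe)
    obtain rfl : Y = L := hS.only Y hY.coatom (hc ▸ hY.le)
    rw [hY.supportR_eq hG hpl, hc]
  · rw [mul_comm, ← IsComplIn.card_mul hS.compl]
  · rcases hcase with h | ⟨hbr, hE, hNe, hNA, hcom⟩
    · exact Or.inl h
    · exact Or.inr (Or.inr ⟨hbr, hE, hNe, hA.maxEA.card.ge, hNA, hcom⟩)

end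

end Cfsg.Agent.OddChar.Frob
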