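import Cfsg.Agent.OddChar.Frob.KappaEmptyTau2
import Cfsg.Agent.OddLocal.Sigma.TypeI
import Cfsg.Agent.OddLocal.Sigma.TypeTwoTI
import Cfsg.Agent.S1526

/-! Not every maximal subgroup is of Type I. -/

set_option autoImplicit false
set_option linter.style.haveILetI false
set_option linter.unusedSectionVars false

namespace Cfsg.Agent.OddChar.Frob

open Cfsg
open Cfsg.Agent.OddLocal

variable {G : Type*} [Group G] [Finite G] (hG : IsMinSimpleOddOrder G)
include hG

theorem kappa_empty_of_typeI {M : Subgroup G} (hM : IsCoatom M) (hI : IsOfTypeI M) : kappa M = ∅ := by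
  have hpl := Support.plen hG
  obtain ⟨⟨K, hK⟩, hc⟩ := Sigma.kappa_hall hG hpl hM
  obtain ⟨U, h⟩ := Sigma.exists_decomp hG hpl hM (hc K hK) hK
  exact Sigma.decomp_kappa_empty hG hpl h (Sigma.typeI_cases hG hpl hM h hI).1

theorem centralizer_le_of_all (hall : ∀ N : Subgroup G, IsCoatom N → kappa N = ∅) {M : Subgroup G}
    (hM : IsCoatom M) {x : G} (hx : x ∈ sigmaCore M) (hx1 : x ≠ 1) :
    Subgroup.centralizer ({x} : Set G) ≤ M ⊓ Subgroup.centralizer ({x} : Set G) := by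
  have hpl := Support.plen hG
  refine le_inf (by_contra fun hn => ?_) le_rfl
  obtain ⟨N, hN⟩ := Sigma.exists_support hG hpl hM hx hx1 hn
  obtain ⟨q, hq, hd⟩ := Nat.exists_prime_and_dvd (show orderOf x ≠ 1 by rwa [ne_eq, orderOf_eq_one_iff])
  exact tau2_eq_empty_of_all hG hall q hN.coatom (hN.tau2_primes q hq hd).1

theorem sigmaCore_frobenius (hall : ∀ N : Subgroup G, IsCoatom N → kappa N = ∅) {M : Subgroup G}
    (hM : IsCoatom M) {h : G} (hh : h ∈ sigmaCore M) (hh1 : h ≠ 1) :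
    M ⊓ Subgroup.centralizer ({h} : Set G) ≤ sigmaCore M := by
  intro y hy
  obtain ⟨i, j, hij, hi, hj⟩ := Sigma.exists_split_elt (sigma M) y
  have hjone : y ^ j = 1 := by_contra fun hne => hh1 (Subgroup.mem_bot.mp
    ((regular hG hM (hall M hM) (Set.eq_empty_iff_forall_notMem.mpr fun p => tau2_eq_empty_of_all hG hall p hM)
      (pow_mem hy.1 j) hne hj).le ⟨hh, Subgroup.mem_centralizer_singleton_iff.mpr
        ((show Commute y h from Subgroup.mem_centralizer_singleton_iff.mp hy.2).pow_left j).eq.symm⟩))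
  rw [hij, hjone, mul_one]
  exact Sigma.le_sigmaCore hG hM (Subgroup.zpowers_le.mpr (pow_mem hy.1 i))
    (fun q hq hd => hi q hq (by rwa [Nat.card_zpowers] at hd)) (Subgroup.mem_zpowers _)

theorem sigmaCore_TI (hall : ∀ N : Subgroup G, IsCoatom N → kappa N = ∅) {M : Subgroup G}
    (hM : IsCoatom M) :
    IsTISubset (sigmaCore M : Set G) ∧ Subgroup.normalizer (sigmaCore M : Set G) = M := by
  have hpl := Support.plen hG
  obtain ⟨a, ha, ha1⟩ := (sigmaCore M).bot_or_exists_ne_one.resolve_left (Sigma.sigmaCore_ne_bot hG hM)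
  have hN : Subgroup.normalizer (sigmaCore M : Set G) = M :=
    Sigma.normalizer_eq_of_invariant hG hM (Sigma.sigmaCore_le M) ha ha1 fun m hm v hv =>
      (Subgroup.mem_normalizer_iff.mp (Sigma.le_normalizer_sigmaCore M hm) v).mp hv
  refine ⟨fun g hg x hx hgx => by_contra fun hx1 => hg ?_, hN⟩
  rw [hN]
  obtain ⟨-, -, -, htr, -, -⟩ := Sigma.supportR_facts hG hpl hM hgx (fun e => hx1 (conj_eq_one_iff.mp e))
  obtain ⟨r, hr, he⟩ := htr g (Sigma.conj_mem_cj_of_mem (Sigma.sigmaCore_le M hx))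
  rw [Sigma.supportR_eq_bot ((centralizer_le_of_all hG hall hM hgx (fun e => hx1 (conj_eq_one_iff.mp e))).trans
    inf_le_left), Subgroup.mem_bot] at hr
  rw [hr, Sigma.cj_one] at he
  exact Sigma.mem_of_cj_eq hG hM he.symm

theorem not_all_typeI : ∃ M : Subgroup G, IsCoatom M ∧ ¬ IsOfTypeI M := by
  by_contra! hI
  classical
  have hpl := Support.plen hG
  have hall : ∀ N : Subgroup G, IsCoatom N → kappa N = ∅ := fun N hN => kappa_empty_of_typeI hG hN (hI N hN)
  haveI := Fintype.ofFinite G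
  let S : Setoid {N : Subgroup G // IsCoatom N} := ⟨fun a b => ∃ g : G, Sigma.cj g a.1 = b.1,
    fun a => ⟨1, Sigma.cj_one _⟩, fun {a b} ⟨g, h⟩ => ⟨g⁻¹, by rw [← h, Sigma.cj_inv_cj]⟩,
    fun {a b c} ⟨g, h⟩ ⟨g', h'⟩ => ⟨g' * g, by rw [Sigma.cj_mul, h, h']⟩⟩
  haveI : Fintype (Quotient S) := Fintype.ofFinite _
  let L : Quotient S → Subgroup G := fun i => i.out.1
  have hL : ∀ i, IsCoatom (L i) := fun i => i.out.2
  have hcov : ∀ g : G, g ≠ 1 → ∃ i, ∃ x : G, x * g * x⁻¹ ∈ sigmaCore (L i) := fun g hg => by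
    obtain ⟨N, hN, a, ⟨ha, ha1⟩, r, hr, y, he⟩ := Sigma.cover_of_kappa_empty hG hpl hall hg
    rw [Sigma.supportR_eq_bot ((centralizer_le_of_all hG hall hN ha ha1).trans inf_le_left),
      Subgroup.mem_bot] at hr
    obtain ⟨c, hc⟩ : ∃ c : G, Sigma.cj c N = L (Quotient.mk S ⟨N, hN⟩) :=
      Setoid.symm (Quotient.mk_out (s := S) ⟨N, hN⟩)
    refine ⟨Quotient.mk S ⟨N, hN⟩, c * y⁻¹, ?_⟩
    rw [← hc, ← Sigma.cj_sigmaCore hG hN, show c * y⁻¹ * g * (c * y⁻¹)⁻¹ = c * a * c⁻¹ by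
      rw [he, hr]; group]
    exact Sigma.conj_mem_cj_of_mem ha
  have hlt : ∀ i, sigmaCore (L i) < L i := fun i => lt_of_le_of_ne (Sigma.sigmaCore_le _) fun e =>
    (Sigma.derived_lt hG hpl (hL i)).not_ge (e.ge.trans (Sigma.sigmaCore_le_derived hG (hL i)))
  refine S1526.result hG.1 ?_ L (fun i => sigmaCore (L i)) hlt (fun i => Sigma.sigmaCore_ne_bot hG (hL i))
    (fun i x hx h hh => (Subgroup.mem_normalizer_iff.mp (Sigma.le_normalizer_sigmaCore _ hx) h).mp hh)
    (fun i h hh hh1 => sigmaCore_frobenius hG hall (hL i) hh hh1) (fun i j hij => ?_)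
    (fun i => sigmaCore_TI hG hall (hL i)) hcov
  · -- a single class cannot cover
    by_contra hle
    have hsub : Subsingleton (Quotient S) := Fintype.card_le_one_iff_subsingleton.mp (by omega)
    obtain ⟨i₀⟩ : Nonempty (Quotient S) := by
      obtain ⟨p, hp, hd⟩ := Nat.exists_prime_and_dvd (fun e : Nat.card G = 1 => by
        haveI := hG.2.1
        exact not_nontrivial_iff_subsingleton.mpr (Nat.card_eq_one_iff_unique.mp e).1 inferInstance)
      haveI := Fact.mk hp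
      obtain ⟨M, hM, -⟩ := Sigma.exists_mem_sigma hG hd
      exact ⟨Quotient.mk S ⟨M, hM⟩⟩
    obtain ⟨X, hX, hX1, -⟩ := sigmaCore_nilpotent hG (hL i₀) (hall _ (hL i₀))
    obtain ⟨q, hq, hd⟩ := Nat.exists_prime_and_dvd fun e => hX1 (Subgroup.eq_bot_of_card_eq _ e)
    haveI := Fact.mk hq
    obtain ⟨⟨v, hvX⟩, hv⟩ := exists_prime_orderOf_dvd_card' q hd
    rw [Subgroup.orderOf_mk] at hv
    obtain ⟨i, c, hc⟩ := hcov v fun e => hq.one_lt.ne (by rw [← hv, e, orderOf_one])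
    rw [Subsingleton.elim i i₀] at hc
    refine Sigma.complIn_notMem_sigma hG (hL i₀) hX hq hd (Sigma.mem_sigma_of_dvd hq ?_)
    have h := Subgroup.orderOf_dvd_natCard _ hc
    rwa [Sigma.orderOf_conj_eq, hv] at h
  · refine Nat.coprime_of_dvd fun q hq h1 h2 => ?_
    haveI := Fact.mk hq
    refine Sigma.sigma_disjoint hG hpl (hL i) (hL j) (fun g e => hij ?_) (Sigma.mem_sigma_of_dvd hq h1)
      (Sigma.mem_sigma_of_dvd hq h2)
    rw [← Quotient.out_eq i, ← Quotient.out_eq j]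
    exact Quotient.sound ⟨g, e.symm⟩

end Cfsg.Agent.OddChar.Frob
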