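import Cfsg.Agent.OddChar.Frob.CharFamily
import Cfsg.Agent.S1525
import Cfsg.Agent.PermGroups.ZassenhausChar

/-! The norm inequality for the rational part of the family. -/

set_option autoImplicit false
set_option linter.style.haveILetI false
set_option linter.unusedSectionVars false

open scoped Classical ComplexConjugate

namespace Cfsg.Agent.OddChar.Frob

open Cfsg

universe u

variable {G : Type u} [Group G] [Fintype G]

theorem sum_subgroup_ite {X M : Subgroup G} (hXM : X ≤ M) :
    ∑ a : M, (if (a : G) ∈ X then (1 : ℝ) else 0) = Nat.card X := by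
  rw [Finset.sum_boole, Nat.cast_inj, ← Agent.Core.card_subgroupOf hXM, Nat.card_eq_fintype_card,
    Fintype.card_subtype]
  congr 1

theorem mean_bot {k : Type*} [DivisionRing k] [CharZero k] {R : Subgroup G} (hR : R = ⊥) (g : R → k) :
    (Nat.card R : k)⁻¹ * ∑ u : R, g u = g 1 := by
  haveI : Subsingleton R := ⟨fun a b => Subtype.ext (by
    rw [Subgroup.mem_bot.mp (hR.le a.2), Subgroup.mem_bot.mp (hR.le b.2)])⟩
  rw [Fintype.sum_subsingleton _ (1 : R), Nat.card_of_subsingleton (1 : R), Nat.cast_one, inv_one, one_mul]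

theorem sum_coe_eq {X : Subgroup G} {k : Type*} [AddCommMonoid k] (f : G → k) :
    ∑ a : X, f a = ∑ g : G, if g ∈ X then f g else 0 := by
  rw [← Finset.sum_filter]
  exact (Finset.sum_subtype _ (fun g => by simp) f).symm

variable {M L K N H A T : Subgroup G} {z : G} {p e : ℕ}

namespace Cfg

variable (c : Cfg M L K N H A T z p e)
include c

theorem xi_triv {a : M} (ha : (a : G) ∈ K) : xi K N M 1 a = e := by
  haveI := c.normal_sub
  rw [xi, show a = ((⟨a, Subgroup.mem_subgroupOf.mpr ha⟩ : ↥(K.subgroupOf M)) : M) from rfl,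
    Chars.indFun_coe_normal]
  simp only [MonoidHom.one_apply, Units.val_one, Finset.sum_const, Finset.card_univ, nsmul_eq_mul, mul_one,
    ← Nat.card_eq_fintype_card, Agent.Core.card_subgroupOf c.hKM, ← c.hindex]
  push_cast
  field_simp

/-- The number of nontrivial linear characters of the kernel. -/
noncomputable def num (_ : Cfg M L K N H A T z p e) : ℕ := ((Finset.univ : Finset (Lin K N M)).erase 1).card

theorem num_succ : c.num + 1 = (Nat.card (Qt K N M)) := by
  have h := sum_lin (K := K) (N := N) (M := M) 1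
  rw [if_pos rfl] at h
  rw [num, Finset.card_erase_add_one (Finset.mem_univ _)]
  simpa using h

theorem num_ge : p ^ 2 ≤ c.num + 1 := by rw [c.num_succ]; exact c.big_quot

/-- Norm budget: `q` is the mean of `Φ²` and `m` the mean of `Φ`. -/
theorem budget : ∃ (X : G → ℂ) (φ : G → ℤ),
    IsGeneralizedCharacter G X ∧ (∀ g h : G, φ (h * g * h⁻¹) = φ g) ∧
    (∀ (a : G) (haM : a ∈ M), a ∈ (K : Set G) \ {1} → ∀ u ∈ supportR M a,
      ∃ f : Lin K N M, X (a * u) = (φ (a * u) : ℂ) + xi K N M f ⟨a, haM⟩) ∧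
    (∀ y ∈ (H : Set G) \ {1}, ∀ u ∈ supportR L y, X (y * u) = (φ (y * u) : ℂ)) ∧
    ∃ W : M → ℝ, (∀ a : M, 0 ≤ W a) ∧
      (∀ a : M, (a : G) ∈ K → (a : G) ∉ N → ∃ k : ℤ, W a = k ∧
        k * (Nat.card (supportR M (a : G)) : ℤ) = ∑ u : supportR M (a : G), φ ((a : G) * u) ^ 2) ∧
      (∑ a : M, if (a : G) ∈ (K : Set G) \ {1} then
          (if (a : G) ∈ N then (c.num : ℝ) * (((φ a : ℝ) + e) ^ 2 - (e : ℝ) ^ 2)
            else ((c.num : ℝ) - 2 * e) * W a) else 0) +
        (c.num : ℝ) * (Nat.card M : ℝ) * ((Nat.card L : ℝ)⁻¹ * ∑ y : L, if (y : G) ∈ (H : Set G) \ {1} then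
          ‖(Nat.card (supportR L (y : G)) : ℂ)⁻¹ * ∑ u : supportR L (y : G), (φ ((y : G) * u) : ℂ)‖ ^ 2
          else 0) < (c.num : ℝ) * (e : ℝ) ^ 2 := by
  obtain ⟨X, Φ, hX, hΦc, hΦint⟩ := c.exists_family
  choose φ hφ using hΦint
  obtain ⟨f₀, hf₀, -⟩ := c.exists_xi_ne 1
  set AM : Set G := (K : Set G) \ {1} with hAM
  set AL : Set G := (H : Set G) \ {1} with hAL
  have hdM : DadeHypothesis AM M (supportR M) := c.dM
  have hdL : DadeHypothesis AL L (supportR L) := c.dL
  have hXM : ∀ f : Lin K N M, f ≠ 1 → ∀ (a : M), (a : G) ∈ AM → ∀ u ∈ supportR M (a : G),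
      X f ((a : G) * u) = (φ ((a : G) * u) : ℂ) + xi K N M f a := fun f hf a ha u hu => by
    rw [(hX f hf).2.2.2, hφ, dade_apply_self hdM (Chars.isClassFunction_of_isCharacter (c.xi_char f)) a ha u hu]
  have hXL : ∀ f : Lin K N M, f ≠ 1 → ∀ y ∈ AL, ∀ u ∈ supportR L y, X f (y * u) = (φ (y * u) : ℂ) := by
    intro f hf y hy u hu
    rw [(hX f hf).2.2.2, hφ, dade_apply_of_notMem _ (c.disj _ ⟨y, hy, u, hu, 1, by simp⟩), add_zero]
  have hφc : ∀ g h : G, φ (h * g * h⁻¹) = φ g := fun g h => by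
    have := hΦc g h
    rw [hφ, hφ] at this
    exact_mod_cast this
  refine ⟨X f₀, φ, (hX f₀ hf₀).1, hφc, fun a haM ha u hu => ⟨f₀, hXM f₀ hf₀ ⟨a, haM⟩ ha u hu⟩, hXL f₀ hf₀,
    fun a => (Nat.card (supportR M (a : G)) : ℝ)⁻¹ * ∑ u : supportR M (a : G), (φ ((a : G) * u) : ℝ) ^ 2,
    fun a => mul_nonneg (by positivity) (Finset.sum_nonneg fun u _ => sq_nonneg _), ?_, ?_⟩
  · -- the mean of the squares is a positive integer
    intro a haK haK'
    set R := supportR M (a : G) with hR
    have ha : (a : G) ∈ AM := ⟨haK, fun h1 => haK' ((Set.mem_singleton_iff.mp h1).symm ▸ one_mem _)⟩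
    have hcent : (a : G) ∈ Subgroup.normalizer (R : Set G) := by
      refine Subgroup.mem_normalizer_iff.mpr fun v => ?_
      have hcomm : ∀ w ∈ R, (a : G) * w * (a : G)⁻¹ = w := fun w hw => by
        rw [(Subgroup.mem_centralizer_singleton_iff.mp (hdM.le_centralizer _ ha hw)).symm]
        group
      constructor
      · intro hv; rw [hcomm v hv]; exact hv
      · intro hv
        have h := hcomm _ hv
        rwa [show v = (a : G) * v * (a : G)⁻¹ from (mul_left_cancel (a := (a : G))
          (mul_right_cancel (b := (a : G)⁻¹) h)).symm] 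
    have hξ : IsIntegral ℤ (xi K N M f₀ a) := Chars.isIntegral_of_isCharacter (c.xi_char f₀) a
    have hi1 := virt_avg_isIntegral (virt_mul (hX f₀ hf₀).1 (hX f₀ hf₀).1) R hcent
    have hi2 := virt_avg_isIntegral (hX f₀ hf₀).1 R hcent
    have hcard : (Nat.card R : ℂ) ≠ 0 := Nat.cast_ne_zero.mpr Nat.card_pos.ne'
    have hint : IsIntegral ℤ ((Nat.card R : ℂ)⁻¹ * ∑ v : R, (φ ((a : G) * v) : ℂ) ^ 2) := by
      have hexp : ∀ v : R, (φ ((a : G) * v) : ℂ) ^ 2 = X f₀ ((a : G) * v) * X f₀ ((a : G) * v)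
          - 2 * xi K N M f₀ a * X f₀ ((a : G) * v) + xi K N M f₀ a * xi K N M f₀ a := fun v => by
        rw [hXM f₀ hf₀ a ha v v.2]; ring
      rw [Finset.sum_congr rfl fun v _ => hexp v, Finset.sum_add_distrib, Finset.sum_sub_distrib,
        ← Finset.mul_sum, mul_add, mul_sub, Finset.sum_const, Finset.card_univ, nsmul_eq_mul,
        ← Nat.card_eq_fintype_card, inv_mul_cancel_left₀ hcard, mul_left_comm _ (2 * xi K N M f₀ a)]
      refine (hi1.sub ?_).add (hξ.mul hξ)
      exact (((isIntegral_algebraMap (R := ℤ) (x := (2 : ℤ))).mul hξ).mul hi2 : _)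
    obtain ⟨k, hk⟩ := exists_int_of_mul_eq hint (Nat.card_pos (α := R))
      (a := ∑ v : R, φ ((a : G) * v) ^ 2) (by push_cast; rw [mul_inv_cancel_left₀ hcard])
    have hkR : (Nat.card R : ℝ)⁻¹ * ∑ v : R, (φ ((a : G) * v) : ℝ) ^ 2 = k := by
      have h := congrArg Complex.re hk
      simpa [← Complex.ofReal_intCast, ← Complex.ofReal_pow, ← Complex.ofReal_sum, ← Complex.ofReal_natCast,
        ← Complex.ofReal_inv, ← Complex.ofReal_mul] using h
    refine ⟨k, hkR, ?_⟩
    have hn0 : (Nat.card R : ℝ) ≠ 0 := Nat.cast_ne_zero.mpr Nat.card_pos.ne'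
    have h : (k : ℝ) * (Nat.card R : ℝ) = ∑ v : R, (φ ((a : G) * v) : ℝ) ^ 2 := by
      rw [← hkR]; field_simp
    exact_mod_cast h
  set Λ := (Finset.univ : Finset (Lin K N M)).erase 1 with hΛ
  have hne : ∀ f ∈ Λ, f ≠ 1 := fun f hf => Finset.ne_of_mem_erase hf
  have hΛne : Λ.Nonempty := ⟨f₀, Finset.mem_erase.mpr ⟨hf₀, Finset.mem_univ _⟩⟩
  set P : ℝ := (Nat.card L : ℝ)⁻¹ * ∑ y : L, if (y : G) ∈ AL then
      ‖(Nat.card (supportR L (y : G)) : ℂ)⁻¹ * ∑ u : supportR L (y : G), (φ ((y : G) * u) : ℂ)‖ ^ 2 else 0 with hP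
  let mean : (G → ℝ) → M → ℝ := fun F a =>
    if (a : G) ∈ AM then (Nat.card (supportR M (a : G)) : ℝ)⁻¹ * ∑ u : supportR M (a : G), F ((a : G) * u) else 0
  -- one character
  have hone : ∀ f ∈ Λ, (Nat.card M : ℝ)⁻¹ * ∑ a : M, mean (fun g => Complex.normSq (X f g)) a + P < 1 := by
    intro f hf
    obtain ⟨hv, hn, h1, -⟩ := hX f (hne f hf)
    set F : G → ℝ := fun g => if g ∈ dadeSupport AM (supportR M) then Complex.normSq (X f g) else 0 with hF
    have hsum := dade_sum hdM F (fun g h => by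
      have : h * g * h⁻¹ ∈ dadeSupport AM (supportR M) ↔ g ∈ dadeSupport AM (supportR M) :=
        ⟨fun hh => by simpa [mul_assoc] using dadeSupport_conj hh h⁻¹, fun hh => dadeSupport_conj hh h⟩
      simp only [hF, this, virt_isClassFunction hv g h]) (fun g hg => if_neg hg)
    have hleft : ∑ a : M, mean (fun g => Complex.normSq (X f g)) a = ∑ a : M, if (a : G) ∈ AM then
        (Nat.card (supportR M (a : G)) : ℝ)⁻¹ * ∑ u : supportR M (a : G), F ((a : G) * u) else 0 := by
      refine Finset.sum_congr rfl fun a _ => ?_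
      by_cases ha : (a : G) ∈ AM
      · simp only [mean, if_pos ha]
        congr 1
        exact Finset.sum_congr rfl fun u _ => (if_pos ⟨a, ha, u, u.2, 1, by simp⟩).symm
      · simp [mean, ha]
    have hL := Cfsg.Agent.S1525.result AL L (supportR L) hdL (X f) (virt_isClassFunction hv)
      (fun y : L => (Nat.card (supportR L (y : G)) : ℂ)⁻¹ * ∑ u : supportR L (y : G), (φ ((y : G) * u) : ℂ))
      (fun y hy => by
        rw [finsum_mem_subgroup]
        exact congrArg _ (Finset.sum_congr rfl fun u _ => (hXL f (hne f hf) _ hy u u.2).symm))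
    rw [finsum_mem_def, finsum_eq_sum_of_fintype, finsum_mem_def, finsum_eq_sum_of_fintype] at hL
    simp only [Set.indicator_apply, Set.mem_setOf_eq] at hL
    have hself := classInner_self_re (X f)
    rw [hn, Complex.one_re] at hself
    have h1M : (1 : G) ∉ dadeSupport AM (supportR M) := by
      rintro ⟨a, ha, u, hu, y, hy⟩
      have h1 : a * u = 1 := by rw [← hy]; group
      have hai : a⁻¹ ∈ supportR M a := by rw [inv_eq_of_mul_eq_one_right h1]; exact hu
      have hm : a ∈ supportR M a ⊓ (M ⊓ Subgroup.centralizer ({a} : Set G)) :=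
        ⟨(supportR M a).inv_mem_iff.mp hai, dade_self_mem hdM ha⟩
      rw [hdM.inf_eq_bot a ha, Subgroup.mem_bot] at hm
      exact hdM.one_not_mem (hm ▸ ha)
    have h1L : (1 : G) ∉ dadeSupport AL (supportR L) := by
      rintro ⟨a, ha, u, hu, y, hy⟩
      have h1 : a * u = 1 := by rw [← hy]; group
      have hai : a⁻¹ ∈ supportR L a := by rw [inv_eq_of_mul_eq_one_right h1]; exact hu
      have hm : a ∈ supportR L a ⊓ (L ⊓ Subgroup.centralizer ({a} : Set G)) :=
        ⟨(supportR L a).inv_mem_iff.mp hai, dade_self_mem hdL ha⟩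
      rw [hdL.inf_eq_bot a ha, Subgroup.mem_bot] at hm
      exact hdL.one_not_mem (hm ▸ ha)
    have hGpos : (0 : ℝ) < (Nat.card G : ℝ)⁻¹ := inv_pos.mpr (Nat.cast_pos.mpr Nat.card_pos)
    set F2 : G → ℝ := fun g => if g ∈ dadeSupport AL (supportR L) then Complex.normSq (X f g) else 0 with hF2
    have hlt : ∑ g : G, (F g + F2 g) < ∑ g : G, Complex.normSq (X f g) := by
      refine Finset.sum_lt_sum (fun g _ => ?_) ⟨1, Finset.mem_univ _, ?_⟩
      · have hnn := Complex.normSq_nonneg (X f g)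
        by_cases h2 : g ∈ dadeSupport AL (supportR L)
        · have hnot : g ∉ dadeSupport AM (supportR M) := c.disj g h2
          simp [hF, hF2, h2, hnot]
        · simp only [hF, hF2, if_neg h2, add_zero]
          split_ifs <;> simp [hnn]
      · simp only [hF, hF2, if_neg h1M, if_neg h1L, add_zero]
        exact Complex.normSq_pos.mpr h1
    have hlt' := mul_lt_mul_of_pos_left hlt hGpos
    rw [← hself, Finset.sum_add_distrib, mul_add] at hlt'
    refine lt_of_le_of_lt (add_le_add (le_of_eq ?_) ?_) hlt'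
    · rw [hleft]; convert hsum.symm using 3
      convert rfl using 2
    · refine le_trans (le_of_eq ?_) (hL.trans (le_of_eq ?_))
      · rw [hP]
      · congr 1
        refine Finset.sum_congr rfl fun g _ => ?_
        by_cases h2 : g ∈ dadeSupport AL (supportR L)
        · rw [if_pos (by exact h2)]
          simp [hF2, h2, Complex.normSq_eq_norm_sq]
        · rw [if_neg (by exact h2)]
          simp [hF2, h2]
  -- all of them
  have hall : (Nat.card M : ℝ)⁻¹ * ∑ a : M, ∑ f ∈ Λ, mean (fun g => Complex.normSq (X f g)) a +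
      (c.num : ℝ) * P < (c.num : ℝ) := by
    have h := Finset.sum_lt_sum_of_nonempty hΛne hone
    rw [Finset.sum_add_distrib, ← Finset.mul_sum, Finset.sum_comm, Finset.sum_const, Finset.sum_const,
      nsmul_eq_mul, nsmul_eq_mul, mul_one] at h
    exact h
  have hnorm : ∀ f ∈ Λ, ∑ a : M, (if (a : G) ∈ AM then Complex.normSq (xi K N M f a) else 0) =
      (Nat.card M : ℝ) - (e : ℝ) ^ 2 := by
    intro f hf
    have hs := classInner_self_re (xi K N M f)
    rw [Chars.classInner_self_irr (c.xi_irr (hne f hf)), Complex.one_re] at hs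
    have hall : ∑ a : M, Complex.normSq (xi K N M f a) = (Nat.card M : ℝ) := by
      have hM : (Nat.card M : ℝ) ≠ 0 := Nat.cast_ne_zero.mpr Nat.card_pos.ne'
      field_simp at hs
      linarith
    have hpt : ∀ a : M, Complex.normSq (xi K N M f a) =
        (if (a : G) ∈ AM then Complex.normSq (xi K N M f a) else 0) + if a = 1 then (e : ℝ) ^ 2 else 0 := by
      intro a
      by_cases h1 : a = 1
      · subst h1
        rw [if_neg (fun h => h.2 (by simp)), if_pos rfl, zero_add, c.xi_one]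
        simp [sq]
      · by_cases haK : (a : G) ∈ K
        · rw [if_pos ⟨haK, fun h => h1 (Subtype.ext h)⟩, if_neg h1, add_zero]
        · rw [if_neg (fun h => haK h.1), if_neg h1, c.xi_off f haK]; simp
    rw [Finset.sum_congr rfl fun a _ => hpt a, Finset.sum_add_distrib, Finset.sum_ite_eq'] at hall
    simp only [Finset.mem_univ, if_true] at hall
    linarith
  -- pointwise expansion
  set Nr : ℝ := (c.num : ℝ) with hN
  set sR : M → ℝ := fun a => if (a : G) ∈ N then Nr * e else -(e : ℝ) with hsR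
  have hsum_xi : ∀ a : M, (a : G) ∈ K → (∑ f ∈ Λ, xi K N M f a).re = sR a := fun a ha => by
    rw [hΛ, Finset.sum_erase_eq_sub (Finset.mem_univ _), c.sum_xi ha, c.xi_triv ha]
    have hns := c.num_succ
    simp only [hsR]
    split_ifs
    · rw [← hns]; simp [hN]; ring
    · simp
  have hlow : ∀ a : M, (if (a : G) ∈ AM then (if (a : G) ∈ N then Nr * (((φ a : ℝ) + e) ^ 2 - (e : ℝ) ^ 2)
      else (Nr - 2 * e) * ((Nat.card (supportR M (a : G)) : ℝ)⁻¹ *
        ∑ u : supportR M (a : G), (φ ((a : G) * u) : ℝ) ^ 2)) else 0) ≤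
      ∑ f ∈ Λ, mean (fun g => Complex.normSq (X f g)) a -
        ∑ f ∈ Λ, (if (a : G) ∈ AM then Complex.normSq (xi K N M f a) else 0) := by
    intro a
    by_cases ha : (a : G) ∈ AM
    swap
    · simp [mean, ha]
    simp only [mean, if_pos ha]
    rw [← Finset.mul_sum, Finset.sum_comm]
    have hpt : ∀ u : supportR M (a : G), ∑ f ∈ Λ, Complex.normSq (X f ((a : G) * u)) =
        Nr * (φ ((a : G) * u) : ℝ) ^ 2 + 2 * (φ ((a : G) * u) : ℝ) * sR a +
          ∑ f ∈ Λ, Complex.normSq (xi K N M f a) := by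
      intro u
      have h : ∀ f ∈ Λ, Complex.normSq (X f ((a : G) * u)) = (φ ((a : G) * u) : ℝ) ^ 2 +
          2 * (φ ((a : G) * u) : ℝ) * (xi K N M f a).re + Complex.normSq (xi K N M f a) := fun f hf => by
        rw [hXM f (hne f hf) a ha u u.2, Complex.normSq_apply, Complex.normSq_apply]
        simp
        ring
      rw [Finset.sum_congr rfl h, Finset.sum_add_distrib, Finset.sum_add_distrib, Finset.sum_const,
        nsmul_eq_mul, ← Finset.mul_sum, ← Complex.re_sum, hsum_xi a ha.1]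
      rfl
    set n : ℝ := (Nat.card (supportR M (a : G)) : ℝ) with hn
    have hn0 : n ≠ 0 := Nat.cast_ne_zero.mpr Nat.card_pos.ne'
    rw [Finset.sum_congr rfl fun u _ => hpt u, Finset.sum_add_distrib, Finset.sum_const, Finset.card_univ,
      nsmul_eq_mul, ← Nat.card_eq_fintype_card, ← hn, mul_add, inv_mul_cancel_left₀ hn0, add_sub_cancel_right]
    by_cases hK' : (a : G) ∈ N
    · rw [if_pos hK', mean_bot (c.hNR _ hK' fun h => ha.2 (by simp [h]))]
      simp only [hsR, if_pos hK', OneMemClass.coe_one, mul_one]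
      nlinarith
    · rw [if_neg hK', Finset.mul_sum, Finset.mul_sum, Finset.mul_sum]
      refine Finset.sum_le_sum fun u _ => ?_
      simp only [hsR, if_neg hK']
      set j := φ ((a : G) * u)
      have hj : (j : ℝ) ≤ (j : ℝ) ^ 2 := by exact_mod_cast Int.le_self_sq j
      have he0 : (0 : ℝ) ≤ e := Nat.cast_nonneg _
      rw [mul_comm (Nr - 2 * e), mul_assoc]
      refine mul_le_mul_of_nonneg_left ?_ (inv_nonneg.mpr (Nat.cast_nonneg _))
      nlinarith
  have htot := Finset.sum_le_sum fun a (_ : a ∈ (Finset.univ : Finset M)) => hlow a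
  rw [Finset.sum_sub_distrib, Finset.sum_comm (s := Finset.univ)
    (f := fun (a : M) (f : Lin K N M) => if (a : G) ∈ AM then Complex.normSq (xi K N M f a) else 0),
    Finset.sum_congr rfl hnorm, Finset.sum_const, nsmul_eq_mul] at htot
  change _ ≤ _ - Nr * _ at htot
  have hMpos : (0 : ℝ) < Nat.card M := Nat.cast_pos.mpr Nat.card_pos
  have h2 := mul_lt_mul_of_pos_left hall hMpos
  rw [mul_add, mul_inv_cancel_left₀ hMpos.ne'] at h2
  nlinarith

end Cfg

end Cfsg.Agent.OddChar.Frob
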