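import Cfsg.Agent.OddChar.Frob.CharFamily
import Cfsg.Agent.PermGroups.ZassenhausChar
import Cfsg.Agent.OddLocal.Sigma.NonTI

/-! The lower bound on `L` from the invariant linear characters of `H`. -/

set_option autoImplicit false
set_option linter.style.haveILetI false
set_option linter.unusedSectionVars false

open scoped Classical ComplexConjugate

namespace Cfsg.Agent.OddChar.Frob

open Cfsg Chars

universe u

variable {G : Type u} [Group G] [Fintype G]

/-- Conjugation by a normalising element, as a monoid endomorphism. -/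
def conjHom (H : Subgroup G) (a : G) (ha : a ∈ Subgroup.normalizer (H : Set G)) : H →* H where
  toFun h := ⟨a * h * a⁻¹, (Subgroup.mem_normalizer_iff.mp ha h).mp h.2⟩
  map_one' := Subtype.ext (by simp)
  map_mul' x y := Subtype.ext (by simp [mul_assoc])

/-- A homomorphism invariant under a coprime solvable group is determined by the fixed points. -/
theorem hom_eq_one_of_fixed {H X : Subgroup G} [Group.IsSolvable X] (hXH : X ≤ Subgroup.normalizer (H : Set G))
    (hcop : (Nat.card X).Coprime (Nat.card H)) (f : H →* ℂˣ)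
    (hinv : ∀ (a : G) (ha : a ∈ X) (h : H), f (conjHom H a (hXH ha) h) = f h)
    (hfix : ∀ h : H, (h : G) ∈ Subgroup.centralizer (X : Set G) → f h = 1) : f = 1 := by
  have hcomm : ⁅H, X⁆ ≤ H := Coprime.commutator_le_of_le_normalizer hXH
  have h1 : H ≤ (f.ker).map H.subtype := by
    refine (Coprime.eq_commutator_sup_centralizer hXH hcop).le.trans (sup_le ?_ ?_)
    · refine Subgroup.commutator_le.mpr fun h hh a ha => ?_
      refine ⟨⟨h, hh⟩ * (conjHom H a (hXH ha) ⟨h, hh⟩)⁻¹, ?_, ?_⟩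
      · show f _ = 1
        rw [map_mul, map_inv, hinv a ha, mul_inv_cancel]
      · simp only [map_mul, map_inv, Subgroup.coe_subtype, conjHom, MonoidHom.coe_mk, OneHom.coe_mk,
          commutatorElement_def]
        group
    · intro h hh
      exact ⟨⟨h, hh.1⟩, hfix _ hh.2, rfl⟩
  refine MonoidHom.ext fun h => ?_
  obtain ⟨k, hk, hk'⟩ := h1 h.2
  have : k = h := Subtype.ext hk'
  exact this ▸ hk

variable {M L K N H A T : Subgroup G} {z : G} {p e : ℕ}

namespace Cfg

variable (c : Cfg M L K N H A T z p e)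
include c

theorem conj_mean_eq {φ : G → ℤ} (hφc : ∀ g h : G, φ (h * g * h⁻¹) = φ g) {l y : G} (hl : l ∈ L)
    (hy : y ∈ (H : Set G) \ {1}) :
    (Nat.card (supportR L (l * y * l⁻¹)) : ℂ)⁻¹ * ∑ u : supportR L (l * y * l⁻¹), (φ (l * y * l⁻¹ * u) : ℂ) =
      (Nat.card (supportR L y) : ℂ)⁻¹ * ∑ u : supportR L y, (φ (y * u) : ℂ) := by
  rw [dade_card_conj c.dL hy hl]
  congr 1
  let F : supportR L y → supportR L (l * y * l⁻¹) := fun u =>
    ⟨l * u * l⁻¹, dade_conj_mem_H c.dL hy hl u.2⟩
  have hF : Function.Bijective F := (Nat.bijective_iff_injective_and_card F).mpr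
    ⟨fun u v h => Subtype.ext (mul_left_cancel (mul_right_cancel (congrArg Subtype.val h))),
      (dade_card_conj c.dL hy hl).symm⟩
  refine (Fintype.sum_bijective F hF _ _ fun u => ?_).symm
  rw [← hφc (y * u) l]
  congr 2
  simp only [F]
  group

/-- The contradiction on `L`. -/
theorem bessel (hp : p.Prime) {X : G → ℂ} {φ : G → ℤ} (hX : IsGeneralizedCharacter G X)
    (hφc : ∀ g h : G, φ (h * g * h⁻¹) = φ g)
    (hXL : ∀ y ∈ (H : Set G) \ {1}, ∀ u ∈ supportR L y, X (y * u) = (φ (y * u) : ℂ))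
    (hphi : ∀ v ∈ H ⊓ Subgroup.centralizer ({z} : Set G), v ≠ 1 → (p : ℤ) ∣ φ v - e)
    {C : ℝ} (hC : C * (1 + (p : ℝ)) ≤ (p : ℝ) * ((e : ℝ) - 1) ^ 2)
    (hPL : ∑ y : L, (if (y : G) ∈ (H : Set G) \ {1} then
      ‖(Nat.card (supportR L (y : G)) : ℂ)⁻¹ * ∑ u : supportR L (y : G), (φ ((y : G) * u) : ℂ)‖ ^ 2 else 0) <
      C * Nat.card H) : False := by
  haveI := Fact.mk hp
  set V := H ⊓ Subgroup.centralizer ({z} : Set G) with hVdef
  set AL : Set G := (H : Set G) \ {1} with hAL
  have hzL := c.hAL c.hzA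
  have hzN : z ∈ Subgroup.normalizer (H : Set G) := c.hLn hzL
  set ψ : G → ℂ := fun y => if y ∈ AL then
    (Nat.card (supportR L y) : ℂ)⁻¹ * ∑ u : supportR L y, (φ (y * u) : ℂ) else 0 with hψ
  have hψconj : ∀ l ∈ L, ∀ y : G, ψ (l * y * l⁻¹) = ψ y := by
    intro l hl y
    have hmem : l * y * l⁻¹ ∈ AL ↔ y ∈ AL := by
      have h := Subgroup.mem_normalizer_iff.mp (c.hLn hl) y
      simp only [hAL, Set.mem_sdiff, Set.mem_singleton_iff, SetLike.mem_coe, conj_eq_one_iff, ← h]
    simp only [hψ, hmem]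
    by_cases hy : y ∈ AL
    · rw [if_pos hy, if_pos hy]; exact c.conj_mean_eq hφc hl hy
    · rw [if_neg hy, if_neg hy]
  have hψint : ∀ y : G, IsIntegral ℤ (ψ y) := by
    intro y
    simp only [hψ]
    split_ifs with hy
    · have hn : y ∈ Subgroup.normalizer (supportR L y : Set G) := by
        refine Subgroup.mem_normalizer_iff.mpr fun v => ?_
        have hc : y ∈ Subgroup.centralizer ({y} : Set G) := Subgroup.mem_centralizer_singleton_iff.mpr rfl
        refine ⟨fun hv => c.dL.conj_mem_H y hy y hc v hv, fun hv => ?_⟩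
        have := c.dL.conj_mem_H y hy y⁻¹ (inv_mem hc) _ hv
        rwa [show y⁻¹ * (y * v * y⁻¹) * y⁻¹⁻¹ = v by group] at this
      have h := virt_avg_isIntegral hX (supportR L y) hn
      rwa [Finset.sum_congr rfl fun (u : supportR L y) _ => hXL y hy u u.2] at h
    · exact isIntegral_zero
  -- `ψ` modulo `p` on `V`
  have hψV : ∀ v ∈ V, v ≠ 1 → CongrP p (ψ v) (e : ℂ) := by
    intro v hv hv1
    have hvA : v ∈ AL := ⟨hv.1, hv1⟩
    set R := supportR L v with hR
    have hzcv : z ∈ Subgroup.centralizer ({v} : Set G) := Subgroup.mem_centralizer_singleton_iff.mpr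
      (Subgroup.mem_centralizer_singleton_iff.mp hv.2).symm
    have hconj : ∀ a ∈ Subgroup.zpowers z, ∀ u ∈ R, a * u * a⁻¹ ∈ R := fun a ha u hu =>
      c.dL.conj_mem_H v hvA a ((Subgroup.zpowers_le.mpr hzcv) ha) u hu
    letI : MulAction (Subgroup.zpowers z) R :=
      { smul := fun a u => ⟨a * u * (a : G)⁻¹, hconj a a.2 u u.2⟩
        one_smul := fun u => Subtype.ext (show ((1 : Subgroup.zpowers z) : G) * u * _ = u by simp)
        mul_smul := fun a b u => Subtype.ext (show ((a * b : Subgroup.zpowers z) : G) * u * _ =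
          (a : G) * ((b : G) * u * (b : G)⁻¹) * (a : G)⁻¹ by simp [mul_assoc]) }
    have hsm : ∀ (a : Subgroup.zpowers z) (u : R), ((a • u : R) : G) = a * u * (a : G)⁻¹ := fun _ _ => rfl
    have hpz : IsPGroup p (Subgroup.zpowers z) := IsPGroup.of_card (n := 1) (by rw [Nat.card_zpowers, c.hzo, pow_one])
    have hfixed : ∀ u : R, u ∈ ({1} : Finset R) ↔ ∀ a : Subgroup.zpowers z, a • u = u := by
      intro u
      rw [Finset.mem_singleton]
      constructor
      · rintro rfl a; exact Subtype.ext (by simp [hsm])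
      · intro h
        have h1 := congrArg Subtype.val (h ⟨z, Subgroup.mem_zpowers z⟩)
        rw [hsm] at h1
        have huz : (u : G) ∈ Subgroup.centralizer ({z} : Set G) :=
          Subgroup.mem_centralizer_singleton_iff.mpr (mul_inv_eq_iff_eq_mul.mp h1).symm
        have huL : (u : G) ∈ L := by
          by_cases hu1 : (u : G) = 1
          · rw [hu1]; exact one_mem _
          -- `C(z) ⊆ R(z) (M ⊓ C(z))`, and `M ⊓ C(z) ≤ L`
          have hzK : z ∈ (K : Set G) \ {1} := ⟨c.hzK, fun e1 => c.hz' ((Set.mem_singleton_iff.mp e1).symm ▸ one_mem _)⟩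
          have hle : Subgroup.centralizer ({z} : Set G) ≤ L := by
            rw [← c.dM.sup_eq z hzK, c.hR z (Subgroup.mem_zpowers z) hzK.2]
            refine sup_le (inf_le_left.trans c.hHL) fun g hg => c.hNz g hg.1 ?_
            exact Subgroup.centralizer_le_normalizer _ ((Subgroup.centralizer_le (show (Subgroup.zpowers z : Set G) ⊆ _ from subset_rfl)) (by
              rw [Subgroup.zpowers_eq_closure, Subgroup.centralizer_closure]; exact hg.2))
          exact hle huz
        have hm : (u : G) ∈ R ⊓ (L ⊓ Subgroup.centralizer ({v} : Set G)) :=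
          ⟨u.2, huL, c.dL.le_centralizer v hvA u.2⟩
        rw [c.dL.inf_eq_bot v hvA, Subgroup.mem_bot] at hm
        exact Subtype.ext hm
    have hinv : ∀ (a : Subgroup.zpowers z) (u : R), (φ (v * (a • u : R)) : ℂ) = (φ (v * u) : ℂ) := fun a u => by
      have hav : (a : G) * v = v * a :=
        Subgroup.mem_centralizer_singleton_iff.mp ((Subgroup.zpowers_le.mpr hzcv) a.2)
      rw [hsm, show v * ((a : G) * u * (a : G)⁻¹) = (a : G) * (v * u) * (a : G)⁻¹ by
        rw [← mul_assoc, ← mul_assoc, ← hav]; group, hφc]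
    have h1 := congrP_sum_fixed hp hpz {1} hfixed (fun u : R => (φ (v * u) : ℂ))
      (fun u => isIntegral_algebraMap (R := ℤ) (x := φ (v * u))) hinv
    have h2 := congrP_sum_fixed hp hpz {1} hfixed (fun _ : R => (1 : ℂ)) (fun _ => isIntegral_one) (fun _ _ => rfl)
    simp only [Finset.sum_singleton, OneMemClass.coe_one, mul_one, Finset.sum_const, Finset.card_univ,
      nsmul_eq_mul, ← Nat.card_eq_fintype_card] at h1 h2
    have hmul : (Nat.card R : ℂ) * ψ v = ∑ u : R, (φ (v * u) : ℂ) := by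
      simp only [hψ, if_pos hvA]
      rw [mul_inv_cancel_left₀ (Nat.cast_ne_zero.mpr Nat.card_pos.ne')]
    have h3 : CongrP p ((Nat.card R : ℂ) * ψ v) (ψ v) := by
      have := congrP_mul_left (hψint v) h2
      rwa [Finset.card_singleton, Nat.cast_one, mul_one, mul_comm] at this
    rw [hmul] at h3
    refine congrP_trans (congrP_symm h3) (congrP_trans h1 ?_)
    rw [← Int.cast_natCast e]
    exact (congrP_int hp).mpr (hphi v hv hv1)
  -- the invariant linear characters
  haveI : Finite (Abelianization H) := Finite.of_surjective _ QuotientGroup.mk_surjective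
  haveI : Finite (Abelianization H →* ℂˣ) :=
    Nat.finite_of_card_ne_zero (by rw [CommGroup.card_monoidHom_of_hasEnoughRootsOfUnity]; exact Nat.card_pos.ne')
  haveI : Finite (H →* ℂˣ) := Finite.of_equiv _ (Abelianization.lift (G := H) (A := ℂˣ)).symm
  let Γ : Subgroup (H →* ℂˣ) :=
    { carrier := {f | ∀ h : H, f (conjHom H z hzN h) = f h}
      one_mem' := fun h => rfl
      mul_mem' := fun {f g} hf hg h => by simp [hf h, hg h]
      inv_mem' := fun {f} hf h => by simp [hf h] }
  haveI : Fintype Γ := Fintype.ofFinite _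
  have hAN : A ≤ Subgroup.normalizer (H : Set G) := c.hAL.trans c.hLn
  have hcopA : (Nat.card A).Coprime (Nat.card H) := by
    obtain ⟨n, hn⟩ := IsPGroup.iff_card.mp c.hAp
    rw [hn]
    exact (hp.coprime_iff_not_dvd.mpr c.hHp).pow_left n
  haveI : IsMulCommutative A := c.hAc
  haveI : Group.IsSolvable A := Group.isSolvable_of_comm mul_comm'
  haveI : Group.IsSolvable (Subgroup.zpowers z) := Group.isSolvable_of_comm fun a b => by
    obtain ⟨i, hi⟩ := a.2
    obtain ⟨j, hj⟩ := b.2
    refine Subtype.ext ?_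
    show (a : G) * b = b * a
    rw [← hi, ← hj]
    exact ((Commute.refl z).zpow_zpow i j).eq
  have hzA : Subgroup.zpowers z ≤ A := Subgroup.zpowers_le.mpr c.hzA
  have hcopz : (Nat.card (Subgroup.zpowers z)).Coprime (Nat.card H) :=
    hcopA.coprime_dvd_left (Subgroup.card_dvd_of_le hzA)
  have hΓinv : ∀ f : Γ, ∀ (a : G) (ha : a ∈ Subgroup.zpowers z) (h : H),
      (f : H →* ℂˣ) (conjHom H a (hAN (hzA ha)) h) = (f : H →* ℂˣ) h := by
    intro f
    suffices key : ∀ (n : ℕ) (h : H),
        (f : H →* ℂˣ) (conjHom H (z ^ n) (hAN (pow_mem c.hzA n)) h) = (f : H →* ℂˣ) h by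
      intro a ha
      obtain ⟨n, -, rfl⟩ : ∃ n : ℕ, n < orderOf z ∧ z ^ n = a := by
        obtain ⟨n, hn, h⟩ := Finset.mem_image.mp ((mem_zpowers_iff_mem_range_orderOf).mp ha)
        exact ⟨n, Finset.mem_range.mp hn, h⟩
      exact key n
    intro n
    induction n with
    | zero => intro h; congr 1; exact Subtype.ext (by simp [conjHom])
    | succ n ih =>
      intro h
      have he : conjHom H (z ^ (n + 1)) (hAN (pow_mem c.hzA _)) h =
          conjHom H (z ^ n) (hAN (pow_mem c.hzA _)) (conjHom H z hzN h) :=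
        Subtype.ext (by simp only [conjHom, MonoidHom.coe_mk, OneHom.coe_mk, pow_succ, mul_inv_rev]; group)
      rw [he, ih, f.2 h]
  have hnontriv : ∀ f : Γ, f ≠ 1 → ∃ v : V, (f : H →* ℂˣ) ⟨v, v.2.1⟩ ≠ 1 := by
    intro f hf
    by_contra hall
    push Not at hall
    refine hf (Subtype.ext (hom_eq_one_of_fixed (hzA.trans hAN) hcopz _ (hΓinv f) fun h hh => ?_))
    exact hall ⟨h, h.2, Subgroup.centralizer_le (Set.singleton_subset_iff.mpr (Subgroup.mem_zpowers z)) hh⟩
  -- the action of `A`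
  have hcommA : ∀ (a : A) (h : H), conjHom H z hzN (conjHom H a (hAN a.2) h) =
      conjHom H a (hAN a.2) (conjHom H z hzN h) := fun a h => Subtype.ext (by
    have hc : z * (a : G) = a * z := congrArg Subtype.val (mul_comm' (⟨z, c.hzA⟩ : A) a)
    simp only [conjHom, MonoidHom.coe_mk, OneHom.coe_mk]
    calc z * ((a : G) * h * (a : G)⁻¹) * z⁻¹ = z * a * h * (z * a)⁻¹ := by group
      _ = a * z * h * (a * z)⁻¹ := by rw [hc]
      _ = (a : G) * (z * h * z⁻¹) * (a : G)⁻¹ := by group)
  letI : MulAction A Γ :=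
    { smul := fun a f => ⟨(f : H →* ℂˣ).comp (conjHom H (a⁻¹ : A) (hAN (a⁻¹ : A).2)), fun h => by
        show (f : H →* ℂˣ) _ = (f : H →* ℂˣ) _
        rw [← hcommA, f.2]⟩
      one_smul := fun f => Subtype.ext (MonoidHom.ext fun h =>
        congrArg (f : H →* ℂˣ) (Subtype.ext (by simp [conjHom])))
      mul_smul := fun a b f => Subtype.ext (MonoidHom.ext fun h =>
        congrArg (f : H →* ℂˣ) (Subtype.ext (by simp [conjHom, mul_assoc]))) }
  have hsmΓ : ∀ (a : A) (f : Γ) (h : H),
      ((a • f : Γ) : H →* ℂˣ) h = (f : H →* ℂˣ) (conjHom H (a⁻¹ : A) (hAN (a⁻¹ : A).2) h) := fun _ _ _ => rfl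
  have hfixΓ : MulAction.fixedPoints A Γ = {1} := by
    ext f
    rw [MulAction.mem_fixedPoints, Set.mem_singleton_iff]
    constructor
    · intro h
      refine Subtype.ext (hom_eq_one_of_fixed hAN hcopA _ (fun a ha x => ?_) fun x hx => ?_)
      · have := DFunLike.congr_fun (congrArg Subtype.val (h (⟨a, ha⟩ : A)⁻¹)) x
        rw [hsmΓ] at this
        simpa using this
      · have hx1 : (x : G) ∈ H ⊓ Subgroup.centralizer (A : Set G) := ⟨x.2, hx⟩
        rw [c.hAfix, Subgroup.mem_bot] at hx1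
        rw [show x = 1 from Subtype.ext hx1, map_one]
    · rintro rfl a
      exact Subtype.ext (MonoidHom.ext fun h => by simp [hsmΓ])
  have hne : ∃ f : Γ, f ≠ 1 := by
    obtain ⟨v, hv, hv'⟩ := SetLike.not_le_iff_exists.mp c.hV
    have hvH : v ∈ H := hv.1
    have hvc : (⟨v, hvH⟩ : H) ∉ commutator H := fun h => hv' (by
      rw [← H.map_subtype_commutator]; exact ⟨_, h, rfl⟩)
    obtain ⟨φ₀, hφ₀⟩ := CommGroup.exists_apply_ne_one_of_hasEnoughRootsOfUnity (Abelianization H) ℂ
      (a := Abelianization.of (⟨v, hvH⟩ : H)) (fun h => hvc ((QuotientGroup.eq_one_iff _).mp h))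
    set f₀ : H →* ℂˣ := φ₀.comp Abelianization.of with hf₀
    let cz : ℕ → (H →* H) := fun i => conjHom H (z ^ i) (hAN (pow_mem c.hzA i))
    set g : H →* ℂˣ := ∏ i ∈ Finset.range p, f₀.comp (cz i) with hg
    have hgz : ∀ h : H, g (conjHom H z hzN h) = g h := by
      intro h
      simp only [hg, MonoidHom.finsetProd_apply, MonoidHom.comp_apply]
      have hs : ∀ i, cz i (conjHom H z hzN h) = cz (i + 1) h := fun i =>
        Subtype.ext (by simp only [cz, conjHom, MonoidHom.coe_mk, OneHom.coe_mk, pow_succ, mul_inv_rev]; group)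
      have h0 : cz p h = cz 0 h := Subtype.ext (by
        simp [cz, conjHom, show z ^ p = 1 by rw [← c.hzo, pow_orderOf_eq_one]])
      simp only [hs]
      obtain ⟨m, rfl⟩ : ∃ m, p = m + 1 := ⟨p - 1, (Nat.succ_pred hp.ne_zero).symm⟩
      rw [Finset.prod_range_succ' (f := fun i => f₀ (cz i h)), Finset.prod_range_succ, h0]
    refine ⟨⟨g, hgz⟩, fun h => ?_⟩
    have h1 : g ⟨v, hvH⟩ = 1 := by rw [show g = 1 from congrArg Subtype.val h]; rfl
    have h2 : ∀ i, cz i ⟨v, hvH⟩ = ⟨v, hvH⟩ := fun i => Subtype.ext (by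
      have hc : Commute z v := (Subgroup.mem_centralizer_singleton_iff.mp hv.2).symm
      simp only [cz, conjHom, MonoidHom.coe_mk, OneHom.coe_mk]
      rw [(hc.pow_left i).eq, mul_inv_cancel_right])
    simp only [hg, MonoidHom.finsetProd_apply, MonoidHom.comp_apply, h2, Finset.prod_const, Finset.card_range] at h1
    refine hφ₀ ?_
    have h3 : f₀ ⟨v, hvH⟩ ^ Nat.card H = 1 := by rw [← map_pow, pow_card_eq_one', map_one]
    exact orderOf_eq_one_iff.mp (Nat.eq_one_of_dvd_coprimes (hp.coprime_iff_not_dvd.mpr c.hHp)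
      (orderOf_dvd_of_pow_eq_one h1) (orderOf_dvd_of_pow_eq_one h3))
  set Γ' : Finset Γ := Finset.univ.erase 1 with hΓ'
  have hk : p ≤ Γ'.card := by
    have hmod := c.hAp.card_modEq_card_fixedPoints Γ
    rw [hfixΓ, Nat.card_unique (α := ({1} : Set Γ)), Nat.card_eq_fintype_card] at hmod
    have hcard : Γ'.card + 1 = Fintype.card Γ := by
      rw [hΓ', Finset.card_erase_add_one (Finset.mem_univ _), Finset.card_univ]
    obtain ⟨f, hf⟩ := hne
    have hpos : 0 < Γ'.card := Finset.card_pos.mpr ⟨f, Finset.mem_erase.mpr ⟨hf, Finset.mem_univ _⟩⟩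
    have hdvd : p ∣ Γ'.card := by
      have := (Nat.modEq_iff_dvd' (by omega)).mp hmod.symm
      rwa [← hcard, Nat.add_sub_cancel] at this
    exact Nat.le_of_dvd hpos hdvd
  -- the integers
  set θ : Γ → H → ℂ := fun f h => ((f : H →* ℂˣ) h : ℂ) - 1 with hθ
  have hcard0 : (Nat.card H : ℂ) ≠ 0 := Nat.cast_ne_zero.mpr Nat.card_pos.ne'
  have hS : ∀ f ∈ Γ', ∃ s : ℤ, classInner (fun h : H => ψ h) (θ f) = s ∧ (p : ℤ) ∣ s + e := by
    intro f hf
    have hf1 : f ≠ 1 := Finset.ne_of_mem_erase hf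
    -- integrality
    haveI : (H.subgroupOf L).Normal := Subgroup.normal_subgroupOf_of_le_normalizer c.hLn
    set ι := Subgroup.subgroupOfEquivOfLe c.hHL with hι
    set f' : ↥(H.subgroupOf L) →* ℂˣ := (f : H →* ℂˣ).comp ι.toMonoidHom with hf'
    set θ' : ↥(H.subgroupOf L) → ℂ := (fun x => (f' x : ℂ)) - fun _ => 1 with hθ'
    set α := indFun (H.subgroupOf L) θ' with hα
    have hαgen : IsGeneralizedCharacter L α := by
      rw [hα, hθ', Chars.indFun_sub]
      exact virt_sub (virt_of_char (Chars.isCharacter_indFun _ (Chars.isCharacter_hom f')))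
        (virt_of_char (Chars.isCharacter_indFun _ (Chars.isCharacter_of_isIrr Chars.isIrrCharacter_one)))
    have hαsupp : ∀ x : L, (x : G) ∉ AL → α x = 0 := by
      intro x hx
      by_cases hxH : (x : G) ∈ H
      · have hx1 : x = 1 := by
          by_contra hx1
          exact hx ⟨hxH, fun h => hx1 (Subtype.ext h)⟩
        rw [hx1, hα, Chars.indFun_apply_one, hθ']
        simp
      · exact Chars.indFun_of_not_mem_normal _ _ fun h => hxH (Subgroup.mem_subgroupOf.mp h)
    have hcl : IsClassFunction L (fun y : L => ψ y) := fun g h => by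
      simpa using hψconj (h : G) h.2 (g : G)
    have h2 := (Cfsg.Agent.S1500.result _ L _ c.dL α (virt_isClassFunction hαgen) hαsupp).2 X
      (fun y : L => ψ y) (virt_isClassFunction hX) (fun y hy => by
        rw [finsum_mem_subgroup]
        refine (if_pos hy).trans ?_
        exact congrArg _ (Finset.sum_congr rfl fun (u : supportR L (y : G)) _ => (hXL _ hy _ u.2).symm))
    obtain ⟨s, hs⟩ := exists_classInner_eq_int (Cfsg.Agent.S1501.result _ L _ c.dL α hαgen hαsupp) hX
    rw [h2, hα, Chars.classInner_indFun _ θ' hcl, ← Chars.classInner_conj_symm] at hs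
    have hs' : classInner (fun h : H => ψ h) (θ f) = (s : ℂ) := by
      have h3 : classInner (fun x : ↥(H.subgroupOf L) => ψ ((x : L) : G)) θ' = (s : ℂ) := by
        have h := congrArg conj hs
        rwa [Complex.conj_conj, map_intCast] at h
      rw [← h3, Chars.classInner_def, Chars.classInner_def, Nat.card_congr ι.toEquiv]
      congr 1
      refine (Fintype.sum_equiv ι.toEquiv _ _ fun x => ?_).symm
      rfl
    refine ⟨s, hs', ?_⟩
    -- the congruence
    letI : MulAction (Subgroup.zpowers z) H :=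
      { smul := fun a h => conjHom H a (hAN (hzA a.2)) h
        one_smul := fun h => Subtype.ext (show ((1 : Subgroup.zpowers z) : G) * h * _ = h by simp)
        mul_smul := fun a b h => Subtype.ext (show ((a * b : Subgroup.zpowers z) : G) * h * _ =
          (a : G) * ((b : G) * h * (b : G)⁻¹) * (a : G)⁻¹ by simp [mul_assoc]) }
    have hsm : ∀ (a : Subgroup.zpowers z) (h : H), a • h = conjHom H a (hAN (hzA a.2)) h := fun _ _ => rfl
    have hpz : IsPGroup p (Subgroup.zpowers z) := c.hAp.to_le hzA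
    set SV : Finset H := Finset.univ.filter fun h => (h : G) ∈ V with hSV
    have hfixed : ∀ h : H, h ∈ SV ↔ ∀ a : Subgroup.zpowers z, a • h = h := by
      intro h
      rw [hSV, Finset.mem_filter]
      constructor
      · rintro ⟨-, hv⟩ a
        have hzc : z ∈ Subgroup.centralizer ({(h : G)} : Set G) := Subgroup.mem_centralizer_singleton_iff.mpr
          (Subgroup.mem_centralizer_singleton_iff.mp hv.2).symm
        have hac : (a : G) * h = h * a :=
          Subgroup.mem_centralizer_singleton_iff.mp ((Subgroup.zpowers_le.mpr hzc) a.2)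
        exact Subtype.ext (show (a : G) * h * (a : G)⁻¹ = h by rw [hac, mul_inv_cancel_right])
      · intro hh
        have h1 : z * (h : G) * z⁻¹ = h := congrArg Subtype.val (hh ⟨z, Subgroup.mem_zpowers z⟩)
        exact ⟨Finset.mem_univ _, h.2,
          Subgroup.mem_centralizer_singleton_iff.mpr (mul_inv_eq_iff_eq_mul.mp h1).symm⟩
    set F : H → ℂ := fun h => ψ h * conj (θ f h) with hF
    have hθint : ∀ h : H, IsIntegral ℤ (conj (θ f h)) := fun h => by
      have h1 : conj (θ f h) = ((f : H →* ℂˣ) h⁻¹ : ℂ) - 1 := by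
        rw [hθ, map_sub, map_one, ← Chars.char_inv_eq_conj (Chars.isCharacter_hom (f : H →* ℂˣ))]
      rw [h1]
      exact (Chars.isIntegral_of_isCharacter (Chars.isCharacter_hom (f : H →* ℂˣ)) h⁻¹).sub isIntegral_one
    have hFinv : ∀ (a : Subgroup.zpowers z) (h : H), F (a • h) = F h := fun a h => by
      simp only [hF, hsm, hθ, hΓinv f a a.2 h]
      congr 1
      exact hψconj a (c.hAL (hzA a.2)) h
    have h1 := congrP_sum_fixed hp hpz SV hfixed F (fun h => (hψint _).mul (hθint h)) hFinv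
    have hscard : ∑ h : H, F h = (Nat.card H : ℂ) * (s : ℂ) := by
      rw [← hs', Chars.classInner_def, mul_inv_cancel_left₀ hcard0]
    have h2 : CongrP p (∑ h ∈ SV, F h) (∑ h ∈ SV, (e : ℂ) * conj (θ f h)) := by
      refine congrP_sum _ fun h hh => ?_
      have hv := (Finset.mem_filter.mp hh).2
      by_cases h1 : (h : G) = 1
      · rw [show θ f h = 0 by rw [hθ]; simp [show h = 1 from Subtype.ext h1]]
        simp [hF, hθ, show h = 1 from Subtype.ext h1]
        exact congrP_refl 0
      · have := congrP_mul_left (hθint h) (hψV h hv h1)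
        simp only [hF]
        rwa [mul_comm (conj (θ f h)), mul_comm (conj (θ f h))] at this
    have hsumV : ∑ h ∈ SV, (e : ℂ) * conj (θ f h) = -(e : ℂ) * SV.card := by
      obtain ⟨v, hv⟩ := hnontriv f hf1
      let fV : V →* ℂˣ := (f : H →* ℂˣ).comp (Subgroup.inclusion inf_le_left)
      have hfV : fV ≠ 1 := fun h => hv (DFunLike.congr_fun h v)
      have h3 := PermGroups.sum_hom_apply fV
      rw [if_neg hfV] at h3
      have hbij : ∑ h ∈ SV, ((f : H →* ℂˣ) h : ℂ) = 0 := by
        rw [← h3]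
        refine Finset.sum_bij' (fun h hh => (⟨(h : G), (Finset.mem_filter.mp hh).2⟩ : V))
          (fun v _ => (⟨(v : G), v.2.1⟩ : H)) (fun h hh => Finset.mem_univ _)
          (fun v _ => Finset.mem_filter.mpr ⟨Finset.mem_univ _, v.2⟩) (fun h hh => rfl) (fun v _ => rfl)
          (fun h hh => rfl)
      simp only [hθ, map_sub, map_one]
      rw [← Finset.mul_sum, Finset.sum_sub_distrib, ← map_sum, hbij, map_zero, Finset.sum_const, nsmul_eq_mul]
      ring
    have h4 := congrP_sum_fixed hp hpz SV hfixed (fun _ : H => (1 : ℂ)) (fun _ => isIntegral_one) (fun _ _ => rfl)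
    simp only [Finset.sum_const, Finset.card_univ, nsmul_eq_mul, mul_one, ← Nat.card_eq_fintype_card] at h4
    rw [hscard] at h1
    have h5 := congrP_trans h1 h2
    rw [hsumV] at h5
    have h6 := congrP_mul_left (isIntegral_algebraMap (R := ℤ) (x := s)) h4
    have h7 : CongrP p ((((SV.card : ℤ) * s : ℤ)) : ℂ) (((-(e : ℤ) * SV.card : ℤ)) : ℂ) := by
      refine congrP_trans (congrP_symm ?_) (by push_cast; exact h5)
      push_cast
      simpa [mul_comm] using h6
    have h8 := (congrP_int hp).mp h7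
    rw [show (SV.card : ℤ) * s - -(e : ℤ) * SV.card = (SV.card : ℤ) * (s + e) by ring] at h8
    refine ((Int.Prime.dvd_mul' hp h8).resolve_left fun hd => c.hHp ?_)
    have hd' := Int.natCast_dvd_natCast.mp hd
    refine hd'.trans ?_
    have hc : SV.card = Nat.card V := by
      rw [Nat.card_eq_fintype_card, ← Finset.card_univ]
      exact Finset.card_bij' (fun h hh => (⟨(h : G), (Finset.mem_filter.mp hh).2⟩ : V))
        (fun v _ => (⟨(v : G), v.2.1⟩ : H)) (fun h hh => Finset.mem_univ _)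
        (fun v _ => Finset.mem_filter.mpr ⟨Finset.mem_univ _, v.2⟩) (fun h hh => rfl) (fun v _ => rfl)
    rw [hc]
    exact Subgroup.card_dvd_of_le inf_le_left
  choose! s hs hsd using hS
  -- Cauchy
  set U : H → ℂ := fun h => ∑ f ∈ Γ', (s f : ℂ) * ((f : H →* ℂˣ) h : ℂ) with hU
  set S : ℝ := ∑ f ∈ Γ', (s f : ℝ) with hSdef
  set a : ℝ := ∑ f ∈ Γ', (s f : ℝ) ^ 2 with hadef
  set T' : H → ℂ := fun h => ∑ f ∈ Γ', (s f : ℂ) * θ f h with hT'
  have hH0 : (0 : ℝ) < Nat.card H := Nat.cast_pos.mpr Nat.card_pos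
  have hinnerψ : classInner (fun h : H => ψ h) T' = (a : ℂ) := by
    rw [show T' = ∑ f ∈ Γ', (s f : ℂ) • θ f from funext fun h => by simp [hT', Finset.sum_apply],
      Chars.classInner_sum_right, hadef]
    push_cast
    refine Finset.sum_congr rfl fun f hf => ?_
    rw [Chars.classInner_smul_right, hs f hf, map_intCast, sq]
  have hinnerT : classInner T' T' = ((a + S ^ 2 : ℝ) : ℂ) := by
    have hT : T' = (∑ f ∈ Γ', (s f : ℂ) • (fun h : H => ((f : H →* ℂˣ) h : ℂ))) - (S : ℂ) • fun _ : H => (1 : ℂ) := by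
      funext h
      simp [hT', hθ, hSdef, mul_sub, Finset.sum_apply]
    have horth : ∀ f g : Γ, classInner (fun h : H => ((f : H →* ℂˣ) h : ℂ)) (fun h : H => ((g : H →* ℂˣ) h : ℂ)) =
        if f = g then 1 else 0 := fun f g => by
      rw [Chars.classInner_irr (Chars.isIrrCharacter_hom _) (Chars.isIrrCharacter_hom _)]
      refine if_congr ⟨fun h => Subtype.ext (MonoidHom.ext fun x => Units.ext (congrFun h x)), fun h => h ▸ rfl⟩ rfl rfl
    have hone : (fun _ : H => (1 : ℂ)) = fun h : H => (((1 : Γ) : H →* ℂˣ) h : ℂ) := by funext h; simp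
    set U' := ∑ f ∈ Γ', (s f : ℂ) • (fun h : H => ((f : H →* ℂˣ) h : ℂ)) with hU'
    have hUU : classInner U' U' = (a : ℂ) := by
      rw [hU', Chars.classInner_sum_left, hadef]
      push_cast
      refine Finset.sum_congr rfl fun f hf => ?_
      rw [Chars.classInner_smul_left, Chars.classInner_sum_right,
        Finset.sum_eq_single_of_mem f hf (fun g _ hg => by
          rw [Chars.classInner_smul_right, horth, if_neg (Ne.symm hg), mul_zero]),
        Chars.classInner_smul_right, horth, if_pos rfl, map_intCast, mul_one, sq]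
    have hU1 : classInner U' (fun _ : H => (1 : ℂ)) = 0 := by
      rw [hU', Chars.classInner_sum_left]
      refine Finset.sum_eq_zero fun f hf => ?_
      rw [Chars.classInner_smul_left, hone, horth, if_neg (Finset.ne_of_mem_erase hf), mul_zero]
    have h1U : classInner (fun _ : H => (1 : ℂ)) U' = 0 := by
      rw [← Chars.classInner_conj_symm, hU1, map_zero]
    have h11 : classInner (fun _ : H => (1 : ℂ)) (fun _ : H => (1 : ℂ)) = 1 :=
      Chars.classInner_self_irr Chars.isIrrCharacter_one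
    rw [hT, Chars.classInner_sub_left, Chars.classInner_sub_right, Chars.classInner_sub_right,
      Chars.classInner_smul_right, Chars.classInner_smul_left, Chars.classInner_smul_left,
      Chars.classInner_smul_right, hUU, hU1, h1U, h11, Complex.conj_ofReal]
    push_cast
    ring
  have hTn : ∑ h : H, ‖T' h‖ ^ 2 = (Nat.card H : ℝ) * (a + S ^ 2) := by
    have h := classInner_self_re T'
    rw [hinnerT, Complex.ofReal_re] at h
    rw [h, mul_inv_cancel_left₀ hH0.ne']
    exact Finset.sum_congr rfl fun h _ => (Complex.normSq_eq_norm_sq _).symm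
  have hψT : ‖∑ h : H, ψ h * conj (T' h)‖ = (Nat.card H : ℝ) * a := by
    have h := hinnerψ
    rw [Chars.classInner_def, inv_mul_eq_iff_eq_mul₀ hcard0] at h
    rw [h, norm_mul, Complex.norm_real, Complex.norm_natCast, Real.norm_eq_abs,
      abs_of_nonneg (Finset.sum_nonneg fun f _ => sq_nonneg _)]
  set Pψ : ℝ := ∑ h : H, ‖ψ h‖ ^ 2 with hPψ
  have hcs : ((Nat.card H : ℝ) * a) ^ 2 ≤ Pψ * ((Nat.card H : ℝ) * (a + S ^ 2)) := by
    rw [← hψT, ← hTn]
    calc ‖∑ h : H, ψ h * conj (T' h)‖ ^ 2 ≤ (∑ h : H, ‖ψ h‖ * ‖T' h‖) ^ 2 := by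
          refine pow_le_pow_left₀ (norm_nonneg _) ((norm_sum_le _ _).trans (le_of_eq ?_)) 2
          exact Finset.sum_congr rfl fun h _ => by rw [norm_mul, Complex.norm_conj]
      _ ≤ Pψ * ∑ h : H, ‖T' h‖ ^ 2 := Finset.sum_mul_sq_le_sq_mul_sq _ _ _
  have hSsq : S ^ 2 ≤ (Γ'.card : ℝ) * a := sq_sum_le_card_mul_sum_sq
  have halow : (Γ'.card : ℝ) * ((e : ℝ) - 1) ^ 2 ≤ a := by
    rw [hadef, ← nsmul_eq_mul]
    refine Finset.card_nsmul_le_sum _ _ _ fun f hf => ?_
    have hd := hsd f hf
    by_contra hlt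
    push Not at hlt
    have he3 := c.he3
    have hep := c.hep
    have hlt' : (s f) ^ 2 < ((e : ℤ) - 1) ^ 2 := by exact_mod_cast hlt
    have h1 : -((e : ℤ) - 1) < s f ∧ s f < (e : ℤ) - 1 :=
      abs_lt.mp ((sq_lt_sq.mp hlt').trans_eq (abs_of_nonneg (by omega)))
    have := Int.le_of_dvd (by omega) hd
    omega
  have hPlt : Pψ < C * Nat.card H := by
    refine lt_of_eq_of_lt ?_ hPL
    rw [hPψ]
    have e1 : ∑ h : H, ‖ψ h‖ ^ 2 = ∑ g : G, if g ∈ H then ‖ψ g‖ ^ 2 else 0 := by
      rw [← Finset.sum_filter]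
      exact (Finset.sum_subtype _ (fun g => by simp) fun g => ‖ψ g‖ ^ 2).symm
    have e2 : ∀ F : G → ℝ, ∑ y : L, F y = ∑ g : G, if g ∈ L then F g else 0 := fun F => by
      rw [← Finset.sum_filter]
      exact (Finset.sum_subtype _ (fun g => by simp) F).symm
    rw [e1, e2 fun g => if g ∈ AL then ‖(Nat.card (supportR L g) : ℂ)⁻¹ * ∑ u : supportR L g, (φ (g * u) : ℂ)‖ ^ 2 else 0]
    refine Finset.sum_congr rfl fun g _ => ?_
    by_cases hg : g ∈ AL
    · rw [if_pos (show g ∈ H from hg.1), if_pos (c.hHL hg.1), if_pos hg]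
      simp only [hψ, if_pos hg]
    · have h0 : ψ g = 0 := if_neg hg
      simp [h0, hg]
  set k : ℝ := (Γ'.card : ℝ) with hkdef
  have hkR : (p : ℝ) ≤ k := by rw [hkdef]; exact_mod_cast hk
  have heR : (3 : ℝ) ≤ e := by exact_mod_cast c.he3
  have hsq4 : (4 : ℝ) ≤ ((e : ℝ) - 1) ^ 2 := by nlinarith
  have hp2R : (2 : ℝ) ≤ p := by exact_mod_cast hp.two_le
  have ha0 : 0 < a := lt_of_lt_of_le (by nlinarith) halow
  have hP0 : 0 ≤ Pψ := Finset.sum_nonneg fun h _ => sq_nonneg _
  have hk0 : 0 ≤ k := Nat.cast_nonneg _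
  have hn0 : 0 < (Nat.card H : ℝ) * (Nat.card H : ℝ) := mul_pos hH0 hH0
  have hSa : a + S ^ 2 ≤ a * (1 + k) := by nlinarith only [hSsq, hkdef]
  have hpos : 0 < (Nat.card H : ℝ) * (a * (1 + k)) := mul_pos hH0 (mul_pos ha0 (by linarith))
  have h1 : ((Nat.card H : ℝ) * (Nat.card H : ℝ)) * (a * a) <
      ((Nat.card H : ℝ) * (Nat.card H : ℝ)) * (a * (C * (1 + k))) := by
    calc ((Nat.card H : ℝ) * (Nat.card H : ℝ)) * (a * a) = ((Nat.card H : ℝ) * a) ^ 2 := by ring
      _ ≤ Pψ * ((Nat.card H : ℝ) * (a + S ^ 2)) := hcs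
      _ ≤ Pψ * ((Nat.card H : ℝ) * (a * (1 + k))) :=
        mul_le_mul_of_nonneg_left (mul_le_mul_of_nonneg_left hSa hH0.le) hP0
      _ < C * Nat.card H * ((Nat.card H : ℝ) * (a * (1 + k))) := mul_lt_mul_of_pos_right hPlt hpos
      _ = _ := by ring
  have h3 : a < C * (1 + k) := lt_of_mul_lt_mul_left (lt_of_mul_lt_mul_left h1 hn0.le) ha0.le
  have hp0 : (0 : ℝ) < p := Nat.cast_pos.mpr hp.pos
  have hC0 : 0 ≤ C := by
    by_contra hneg
    have h6 : C * (Nat.card H : ℝ) < 0 := mul_neg_of_neg_of_pos (lt_of_not_ge hneg) hH0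
    linarith
  have h4 : C * (1 + k) * (p : ℝ) ≤ k * (C * (1 + (p : ℝ))) := by
    nlinarith only [mul_le_mul_of_nonneg_left hkR hC0]
  have h5 : C * (1 + k) * (p : ℝ) ≤ (k * ((e : ℝ) - 1) ^ 2) * (p : ℝ) :=
    h4.trans ((mul_le_mul_of_nonneg_left hC hk0).trans_eq (by ring))
  linarith [le_of_mul_le_mul_right h5 hp0, halow, h3, hkdef]

end Cfg

end Cfsg.Agent.OddChar.Frob
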