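import Cfsg.Agent.OddChar.Frob.CharBound
import Cfsg.Agent.OddChar.Frob.HomFixed
import Cfsg.Agent.S1500
import Cfsg.Agent.S1501

/-! The configuration is impossible. -/

set_option autoImplicit false
set_option linter.style.haveILetI false
set_option linter.unusedSectionVars false

open scoped Classical ComplexConjugate

namespace Cfsg.Agent.OddChar.Frob

open Cfsg Chars

universe u

variable {G : Type u} [Group G] [Fintype G]

theorem int_arith_lower {p e : ℕ} {j : ℤ} (he : 2 * e < p) (hd : (p : ℤ) ∣ j) :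
    (e : ℤ) ^ 2 ≤ (j + e) ^ 2 := by
  obtain ⟨k, rfl⟩ := hd
  rcases lt_trichotomy k 0 with hk | rfl | hk
  · have h1 : (p : ℤ) * k ≤ -(p : ℤ) := by nlinarith
    nlinarith
  · simp
  · have h1 : 0 ≤ (p : ℤ) * k := by positivity
    nlinarith

theorem int_arith_dist {p e : ℕ} {s : ℤ} (he : 3 ≤ e) (hep : 2 * e ≤ p + 1) (hd : (p : ℤ) ∣ s + e) :
    ((e : ℤ) - 1) ^ 2 ≤ s ^ 2 := by
  by_contra h
  push Not at h
  have h1 : -((e : ℤ) - 1) < s ∧ s < (e : ℤ) - 1 :=
    abs_lt.mp ((sq_lt_sq.mp h).trans_eq (abs_of_nonneg (by omega)))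
  have := Int.le_of_dvd (by omega) hd
  omega

variable {M L K N H A T : Subgroup G} {z : G} {p e : ℕ}

namespace Cfg

variable (c : Cfg M L K N H A T z p e)
include c

theorem z_ne : z ≠ 1 := fun h => c.hz' (h ▸ one_mem _)

theorem z_mem_L : z ∈ L := c.hAL c.hzA

theorem z_mem_M : z ∈ M := c.hKM c.hzK

theorem not_mem_derived [hp : Fact p.Prime] {w : G} (hw : w ∈ Subgroup.zpowers z) (hw1 : w ≠ 1) :
    w ∉ N := fun h => c.hz' (by
  have hcard : Nat.card (Subgroup.zpowers z) = p := by rw [Nat.card_zpowers, c.hzo]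
  have he : Subgroup.zpowers w = Subgroup.zpowers z := OddLocal.Sigma.zpowers_eq_of_card_prime hcard hw hw1
  exact (Subgroup.zpowers_le.mpr h) (he ▸ Subgroup.mem_zpowers z))

/-- The configuration is impossible. -/
theorem false (hp : p.Prime) : False := by
  haveI := Fact.mk hp
  obtain ⟨X, φ, hX, hφc, hXM, hXL, W, hW0, hW2, hmain⟩ := c.budget
  have hW1 : ∀ a : M, (a : G) ∈ K → (a : G) ∉ N → ∀ u ∈ supportR M (a : G), φ ((a : G) * u) ≠ 0 → 1 ≤ W a := by
    intro a haK haN u hu hne
    obtain ⟨k, hk, hsum⟩ := hW2 a haK haN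
    have hpos : (0 : ℤ) < ∑ v : supportR M (a : G), φ ((a : G) * v) ^ 2 :=
      Finset.sum_pos' (fun v _ => sq_nonneg _) ⟨⟨u, hu⟩, Finset.mem_univ _, by positivity⟩
    rw [← hsum] at hpos
    have hk1 : (1 : ℤ) ≤ k := by
      rcases Int.lt_or_le 0 k with h | h
      · exact h
      · exact absurd hpos (not_lt.mpr (mul_nonpos_of_nonpos_of_nonneg h (Nat.cast_nonneg _)))
    rw [hk]; exact_mod_cast hk1
  have h5 := c.five_le
  have hp2 : p ≠ 2 := by omega
  have he3 := c.he3
  have hep := c.hep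
  have hz1 := c.z_ne
  have hzM := c.z_mem_M
  have hzL := c.z_mem_L
  set V := H ⊓ Subgroup.centralizer ({z} : Set G) with hVdef
  set E : ℕ := Nat.card ↥(M ⊓ L)
  set D := Nat.card N
  set AM : Set G := (K : Set G) \ {1} with hAM
  set AL : Set G := (H : Set G) \ {1} with hAL
  have hint : ∀ g : G, IsIntegral ℤ (φ g : ℂ) := fun g => isIntegral_algebraMap (R := ℤ) (x := φ g)
  have hVz : ∀ v ∈ V, Commute z v := fun v hv =>
    (Subgroup.mem_centralizer_singleton_iff.mp hv.2).symm
  -- the congruence at a product of an element of `K` and a commuting element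
  have hcong : ∀ (t : G), t ∈ K → t ≠ 1 → ∀ n : ℕ, t ^ p ^ n = 1 → ∀ u ∈ supportR M t, ∀ j : ℤ, X u = (j : ℂ) →
      (p : ℤ) ∣ φ (t * u) + e - j := by
    intro t htK ht1 n htn u hu j hj
    obtain ⟨f, hf⟩ := hXM t (c.hKM htK) ⟨htK, ht1⟩ u hu
    have hcomm : Commute u t := Subgroup.mem_centralizer_singleton_iff.mp (c.dM.le_centralizer _ ⟨htK, ht1⟩ hu)
    have h1 := virt_congr hp2 hX hcomm htn
    rw [hj, hcomm.eq, hf] at h1
    have h2 : CongrP p (((φ (t * u) : ℂ) + xi K N M f ⟨t, c.hKM htK⟩) ^ p ^ n)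
        ((φ (t * u) : ℂ) + (e : ℂ)) := by
      refine congrP_trans (congrP_add_pow (hint _) (Chars.isIntegral_of_isCharacter (c.xi_char f) _) n)
        (congrP_add (congrP_int_pow _ n) ?_)
      have h3 := virt_congr (G := M) (p := p) hp2 (virt_of_char (c.xi_char f)) (x := 1) (u := ⟨t, c.hKM htK⟩)
        (n := n) (Commute.one_left _) (Subtype.ext (by simpa using htn))
      rw [one_mul, c.xi_one] at h3
      exact congrP_trans h3 (congrP_nat_pow e n)
    have h4 := congrP_trans (congrP_symm h2) (congrP_trans h1 (congrP_int_pow j n))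
    exact (congrP_int hp).mp (by push_cast; exact h4)
  have hRz : ∀ w ∈ Subgroup.zpowers z, w ≠ 1 → supportR M w = V := c.hR
  -- the congruence on `z^i V`
  have hzv : ∀ w ∈ Subgroup.zpowers z, w ≠ 1 → ∀ v ∈ V, v ≠ 1 → (p : ℤ) ∣ φ (w * v) + e - φ v := by
    intro w hw hw1 v hv hv1
    have hwK : w ∈ K := (Subgroup.zpowers_le.mpr c.hzK) hw
    refine hcong w hwK hw1 1 ?_ v ((hRz w hw hw1).ge hv) _ ?_
    · rw [pow_one]
      exact orderOf_dvd_iff_pow_eq_one.mp ((Subgroup.orderOf_dvd_natCard _ hw).trans (by rw [Nat.card_zpowers, c.hzo]))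
    · have := hXL v ⟨hv.1, hv1⟩ 1 (one_mem _)
      simpa using this
  obtain ⟨d₁, hd₁⟩ := virt_apply_one hX
  have hTpow : ∀ t ∈ T, ∃ n : ℕ, t ^ p ^ n = 1 := fun t ht => by
    obtain ⟨n, hn⟩ := c.hTp ⟨t, ht⟩
    exact ⟨n, congrArg Subtype.val hn⟩
  have hTcong : ∀ t ∈ T, t ≠ 1 → (p : ℤ) ∣ φ t + e - d₁ := fun t ht ht1 => by
    obtain ⟨n, hn⟩ := hTpow t ht
    have := hcong t (c.hTK ht) ht1 n hn 1 (one_mem _) d₁ hd₁
    rwa [mul_one] at this
  have hzcong : (p : ℤ) ∣ φ z + e - d₁ := by
    have := hcong z c.hzK hz1 1 (by rw [pow_one, ← c.hzo, pow_orderOf_eq_one]) 1 (one_mem _) d₁ hd₁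
    rwa [mul_one] at this
  -- real quantities
  set Nr : ℝ := (c.num : ℝ) with hN
  set PL : ℝ := (Nat.card L : ℝ)⁻¹ * ∑ y : L, (if (y : G) ∈ AL then
          ‖(Nat.card (supportR L (y : G)) : ℂ)⁻¹ * ∑ u : supportR L (y : G), (φ ((y : G) * u) : ℂ)‖ ^ 2
          else 0) with hPL
  have hPL0 : 0 ≤ PL := mul_nonneg (by positivity) (Finset.sum_nonneg fun y _ => by
    split_ifs <;> positivity)
  have hNp : ((p : ℝ)) ^ 2 ≤ Nr + 1 := by rw [hN]; exact_mod_cast c.num_ge
  have heR : (3 : ℝ) ≤ e := by exact_mod_cast he3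
  have hepR : 2 * (e : ℝ) ≤ p + 1 := by exact_mod_cast hep
  have h5R : (5 : ℝ) ≤ p := by exact_mod_cast h5
  have hN2e : 0 ≤ Nr - 2 * e := by nlinarith
  have hN0 : 0 < Nr := by nlinarith
  set term : M → ℝ := fun a => if (a : G) ∈ AM then
          (if (a : G) ∈ N then Nr * (((φ a : ℝ) + e) ^ 2 - (e : ℝ) ^ 2)
            else (Nr - 2 * e) * W a) else 0 with hterm
  change ∑ a : M, term a + Nr * (Nat.card M : ℝ) * PL < Nr * (e : ℝ) ^ 2 at hmain
  have hK'K : N ≤ K := c.hNK
  have hterm_ge : ∀ a : M, ((if (a : G) ∈ N then (1 : ℝ) else 0) - if a = 1 then 1 else 0) * -(Nr * (e : ℝ) ^ 2) +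
      (if (a : G) ∈ AM ∧ (a : G) ∉ N ∧ ∃ n : ℕ, (a : G) ^ p ^ n = 1 then (Nr - 2 * e) * W a else 0) ≤ term a := by
    intro a
    by_cases h1 : a = 1
    · subst h1
      simp [hterm, hAM]
    have ha1 : (a : G) ≠ 1 := fun h => h1 (Subtype.ext h)
    by_cases hK' : (a : G) ∈ N
    · have ha : (a : G) ∈ AM := ⟨hK'K hK', ha1⟩
      simp only [hterm, if_pos ha, if_pos hK', if_neg h1]
      rw [if_neg (show ¬((a : G) ∈ AM ∧ (a : G) ∉ N ∧ ∃ n : ℕ, (a : G) ^ p ^ n = 1) from fun h => h.2.1 hK'), add_zero]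
      have := mul_nonneg hN0.le (sq_nonneg ((φ a : ℝ) + e))
      nlinarith only [this]
    · simp only [hterm, if_neg hK', if_neg h1]
      by_cases ha : (a : G) ∈ AM
      · simp only [if_pos ha, if_neg (show ¬(a = 1) from h1)]
        split_ifs <;> linarith [mul_nonneg hN2e (hW0 a)]
      · simp [ha]
  set G1 : ℝ := ∑ a : M, if (a : G) ∈ AM ∧ (a : G) ∉ N ∧ ∃ n : ℕ, (a : G) ^ p ^ n = 1 then (Nr - 2 * e) * W a else 0 with hG1
  have hG10 : 0 ≤ G1 := Finset.sum_nonneg fun a _ => by
    split_ifs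
    · exact mul_nonneg hN2e (hW0 a)
    · exact le_rfl
  have hK'M : N ≤ M := hK'K.trans c.hKM
  have hcrude : G1 + Nr * (Nat.card M : ℝ) * PL < Nr * ((e : ℝ) ^ 2 * D) := by
    have h := Finset.sum_le_sum fun a (_ : a ∈ (Finset.univ : Finset M)) => hterm_ge a
    rw [Finset.sum_add_distrib, ← Finset.sum_mul, Finset.sum_sub_distrib, sum_subgroup_ite hK'M,
      Finset.sum_ite_eq', if_pos (Finset.mem_univ _)] at h
    change ((D : ℝ) - 1) * _ + G1 ≤ _ at h
    nlinarith
  have hTM : T ≤ M := c.hTK.trans c.hKM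
  have hD0 : (0 : ℝ) < D := Nat.cast_pos.mpr Nat.card_pos
  -- the budget
  have hM : (Nat.card M : ℝ) = e * Nat.card K := by exact_mod_cast c.hindex.symm
  have hCe : (e : ℝ) * (1 + (p : ℝ)) ≤ (p : ℝ) * ((e : ℝ) - 1) ^ 2 := by
    nlinarith [mul_le_mul_of_nonneg_left (show (e : ℝ) + 1 ≤ ((e : ℝ) - 1) ^ 2 by nlinarith) (Nat.cast_nonneg (α := ℝ) p)]
  obtain ⟨Bd, C, hbud, hBdE, hCle, hC, hz0⟩ : ∃ Bd C : ℝ, G1 + Nr * (Nat.card M : ℝ) * PL < Nr * Bd ∧
      (E : ℝ) * Bd ≤ C * (Nat.card M : ℝ) ∧ C ≤ 3 * e ∧ C * (1 + (p : ℝ)) ≤ (p : ℝ) * ((e : ℝ) - 1) ^ 2 ∧ (C = e ∨ (p : ℤ) ∣ φ z) := by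
    rcases c.hcase with hcase | ⟨h2e, hcase, hNb⟩ | ⟨hbr, hcase, hDe, hTsize, hNTbot, hcom⟩
    · refine ⟨(e : ℝ) ^ 2 * D, e, hcrude, ?_, by linarith, hCe, Or.inl rfl⟩
      have h : (E : ℝ) * D ≤ Nat.card K := by exact_mod_cast hcase
      rw [hM]
      nlinarith [mul_le_mul_of_nonneg_left h (sq_nonneg (e : ℝ))]
    · obtain ⟨Nb, hNbN, hNbT, hNbp, hcomb, hdec, hsize⟩ := hNb
      obtain ⟨WT, hWT⟩ : ∃ WT : Subgroup G, WT = N ⊓ T := ⟨_, rfl⟩
      rw [← hWT] at hdec hsize
      have hWN : WT ≤ N := hWT ▸ inf_le_left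
      have hWTT : WT ≤ T := hWT ▸ inf_le_right
      set D' := Nat.card WT
      have hD'0 : (0 : ℝ) < D' := Nat.cast_pos.mpr Nat.card_pos
      set Γ : ℝ := if (p : ℤ) ∣ φ z then 0 else (e : ℝ) ^ 2 with hΓ
      have hbot : ∀ b ∈ Nb, b ∈ T → b = 1 := fun b hb hbT => Subgroup.mem_bot.mp (hNbT.le ⟨hb, hbT⟩)
      -- the congruence on the cosets of `T`
      have hcb : ∀ b ∈ Nb, b ≠ 1 → ∀ t ∈ T, (p : ℤ) ∣ φ (b * t) - φ b := by
        intro b hb hb1 t ht
        have hbN := hNbN hb
        have hK : b * t ∈ K := K.mul_mem (hK'K hbN) (c.hTK ht)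
        have hm1 : b * t ≠ 1 := fun h => hb1 (hbot b hb (by
          rw [eq_inv_of_mul_eq_one_left h]; exact T.inv_mem ht))
        obtain ⟨f, hf⟩ := hXM _ (c.hKM hK) ⟨hK, hm1⟩ 1 (one_mem _)
        obtain ⟨f', hf'⟩ := hXM b (c.hKM (hK'K hbN)) ⟨hK'K hbN, hb1⟩ 1 (one_mem _)
        obtain ⟨n, hn⟩ := hTpow t ht
        rw [mul_one] at hf hf'
        rw [c.xi_derived f' hbN] at hf'
        have h1 := virt_congr hp2 hX (hcomb b hb t ht) hn
        rw [hf, hf', show (φ b : ℂ) + (e : ℂ) = ((φ b + e : ℤ) : ℂ) by push_cast; ring] at h1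
        have h2 := virt_congr (G := M) (p := p) hp2 (virt_of_char (c.xi_char f))
          (x := ⟨b, c.hKM (hK'K hbN)⟩) (u := ⟨t, c.hKM (c.hTK ht)⟩) (n := n)
          (Subtype.ext (hcomb b hb t ht).eq) (Subtype.ext (by simpa using hn))
        rw [c.xi_derived f (show ((⟨b, c.hKM (hK'K hbN)⟩ : M) : G) ∈ N from hbN)] at h2
        have h3 : CongrP p (((φ (b * t) : ℂ) + xi K N M f ⟨b * t, c.hKM hK⟩) ^ p ^ n)
            ((φ (b * t) + e : ℤ) : ℂ) := by
          refine congrP_trans (congrP_add_pow (hint _) (Chars.isIntegral_of_isCharacter (c.xi_char f) _) n) ?_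
          push_cast
          exact congrP_add (congrP_int_pow _ n) (congrP_trans h2 (congrP_nat_pow e n))
        have h4 := (congrP_int hp).mp (congrP_trans (congrP_symm h3) (congrP_trans h1 (congrP_int_pow _ n)))
        simpa using h4
      set bad : Finset M := Finset.univ.filter fun a => (a : G) ∈ Nb ∧ a ≠ 1 ∧ ¬ (p : ℤ) ∣ φ a with hbad
      set TT : Finset M := Finset.univ.filter fun a => (a : G) ∈ T ∧ (a : G) ∉ N with hTT
      set WW : Finset M := Finset.univ.filter fun a => (a : G) ∈ WT with hWW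
      set img : Finset M := (bad ×ˢ TT).image fun x => x.1 * x.2 with himg
      set badN : Finset M := (bad ×ˢ WW).image fun x => x.1 * x.2 with hbadN
      have hinj : ∀ {x y : M × M}, (x.1 : G) ∈ Nb → (y.1 : G) ∈ Nb → (x.2 : G) ∈ T → (y.2 : G) ∈ T →
          x.1 * x.2 = y.1 * y.2 → x = y := by
        intro x y hx hy hx2 hy2 hxy
        have h2 : (x.1 : G) * x.2 = y.1 * y.2 := congrArg Subtype.val hxy
        have h3 : ((y.1 : G))⁻¹ * x.1 = y.2 * (x.2 : G)⁻¹ := by
          calc ((y.1 : G))⁻¹ * x.1 = (y.1 : G)⁻¹ * ((x.1 : G) * x.2) * (x.2 : G)⁻¹ := by group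
            _ = y.2 * (x.2 : G)⁻¹ := by rw [h2]; group
        have h4 := hbot _ (Nb.mul_mem (Nb.inv_mem hy) hx) (h3 ▸ T.mul_mem hy2 (T.inv_mem hx2))
        have h5 : x.1 = y.1 := Subtype.ext (inv_mul_eq_one.mp h4).symm
        refine Prod.ext h5 (Subtype.ext (mul_left_cancel (a := (y.1 : G)) ?_))
        rwa [h5] at h2
      have himgc : img.card = bad.card * TT.card := by
        rw [himg, ← Finset.card_product]
        refine Finset.card_image_of_injOn fun x hx y hy hxy => ?_
        simp only [Finset.coe_product, Set.mem_prod, Finset.mem_coe, hbad, hTT, Finset.mem_filter,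
          Finset.mem_univ, true_and] at hx hy
        exact hinj hx.1.1 hy.1.1 hx.2.1 hy.2.1 hxy
      have hbadc : badN.card = bad.card * WW.card := by
        rw [hbadN, ← Finset.card_product]
        refine Finset.card_image_of_injOn fun x hx y hy hxy => ?_
        simp only [Finset.coe_product, Set.mem_prod, Finset.mem_coe, hbad, hWW, Finset.mem_filter,
          Finset.mem_univ, true_and] at hx hy
        exact hinj hx.1.1 hy.1.1 (hWTT hx.2) (hWTT hy.2) hxy
      have hWWc : (WW.card : ℝ) = D' := by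
        rw [hWW, Finset.natCast_card_filter, sum_subgroup_ite (hWTT.trans hTM)]
      have hTTc : (TT.card : ℝ) = (Nat.card T : ℝ) - D' := by
        rw [hTT, Finset.natCast_card_filter, ← sum_subgroup_ite hTM,
          show (D' : ℝ) = _ from (sum_subgroup_ite (hWTT.trans hTM)).symm, ← Finset.sum_sub_distrib]
        refine Finset.sum_congr rfl fun a _ => ?_
        by_cases hT : (a : G) ∈ T
        · by_cases hN' : (a : G) ∈ N
          · simp [hT, hN', hWT]
          · simp [hT, hN', hWT]
        · simp [hT, hWT]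
      have hpt : ∀ a : M, (((if (a : G) ∈ WT then (1 : ℝ) else 0) - if a = 1 then 1 else 0) * -(Nr * Γ) +
          (if a ∈ badN then -(Nr * (e : ℝ) ^ 2) else 0) + (if a ∈ img then Nr - 2 * e else 0)) +
          (if (a : G) ∈ AM ∧ (a : G) ∉ N ∧ ∃ n : ℕ, (a : G) ^ p ^ n = 1 then (Nr - 2 * e) * W a else 0) ≤ term a := by
        intro a
        by_cases himga : a ∈ img
        · obtain ⟨⟨b, t⟩, hbt, rfl⟩ := Finset.mem_image.mp himga
          simp only [Finset.mem_product, hbad, hTT, Finset.mem_filter, Finset.mem_univ, true_and] at hbt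
          obtain ⟨⟨hbNb, hb1, hbd⟩, htT, htN⟩ := hbt
          have hbN := hNbN hbNb
          have hb1' : (b : G) ≠ 1 := fun h => hb1 (Subtype.ext h)
          have hnN : (b : G) * t ∉ N := fun h => htN (by simpa using N.mul_mem (N.inv_mem hbN) h)
          have hK : (b : G) * t ∈ K := K.mul_mem (hK'K hbN) (c.hTK htT)
          have hm1 : b * t ≠ 1 := fun h => hnN (by
            rw [show (b : G) * t = ((b * t : M) : G) from rfl, h]; exact one_mem _)
          have hnp : ¬ ∃ n : ℕ, ((b * t : M) : G) ^ p ^ n = 1 := by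
            rintro ⟨n, hn⟩
            obtain ⟨n', hn'⟩ := hTpow _ htT
            have hb : (b : G) ^ p ^ (n + n') = 1 := by
              have h1 : ((b : G) * t) ^ p ^ (n + n') = 1 := by
                rw [pow_add, pow_mul, show ((b : G) * t) ^ p ^ n = 1 from hn, one_pow]
              rw [(hcomb b hbNb t htT).mul_pow, show (t : G) ^ p ^ (n + n') = 1 by
                rw [pow_add, mul_comm, pow_mul, hn', one_pow], mul_one] at h1
              exact h1
            obtain ⟨i, -, hi⟩ := (Nat.dvd_prime_pow hp).mp (orderOf_dvd_of_pow_eq_one hb)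
            have hpN : p ∣ Nat.card Nb := by
              rcases Nat.eq_zero_or_pos i with rfl | hi0
              · exact absurd (orderOf_eq_one_iff.mp (by rw [hi, pow_zero])) hb1'
              · exact (dvd_pow_self p hi0.ne').trans (hi ▸ Subgroup.orderOf_dvd_natCard Nb hbNb)
            have := Nat.le_of_dvd Nat.card_pos hpN
            omega
          have hW : 1 ≤ W (b * t) := hW1 _ hK hnN 1 (one_mem _) fun h0 => hbd (by
            rw [mul_one] at h0
            have h1 := hcb b hbNb hb1' t htT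
            rw [show (b : G) * t = ((b * t : M) : G) from rfl, h0] at h1
            simpa using h1)
          have hnb : b * t ∉ badN := fun h => by
            obtain ⟨⟨b', w⟩, hbw, he'⟩ := Finset.mem_image.mp h
            simp only [Finset.mem_product, hbad, hWW, Finset.mem_filter, Finset.mem_univ, true_and] at hbw
            exact hnN (by
              rw [show (b : G) * t = ((b * t : M) : G) from rfl, ← he']
              exact N.mul_mem (hNbN hbw.1.1) (hWN hbw.2))
          simp only [hterm, if_pos himga, if_neg hnb, if_neg hm1,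
            if_neg (show ¬((b * t : M) : G) ∈ WT from fun h => hnN (hWN h)),
            if_neg (show ¬((b * t : M) : G) ∈ N from hnN),
            if_pos (show ((b * t : M) : G) ∈ AM from ⟨hK, fun h => hm1 (Subtype.ext h)⟩)]
          rw [if_neg (fun h => hnp h.2.2)]
          nlinarith
        rw [if_neg himga, add_zero]
        by_cases h1 : a = 1
        · subst h1
          have h1b : (1 : M) ∉ badN := fun h => by
            obtain ⟨⟨b', w⟩, hbw, he'⟩ := Finset.mem_image.mp h
            simp only [Finset.mem_product, hbad, hWW, Finset.mem_filter, Finset.mem_univ, true_and] at hbw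
            have h2 : (b' : G) * w = 1 := congrArg Subtype.val he'
            exact hbw.1.2.1 (Subtype.ext (hbot _ hbw.1.1 (by
              rw [eq_inv_of_mul_eq_one_left h2]; exact T.inv_mem (hWTT hbw.2))))
          simp [hterm, hAM, h1b]
        have ha1 : (a : G) ≠ 1 := fun h => h1 (Subtype.ext h)
        by_cases hK' : (a : G) ∈ N
        · have ha : (a : G) ∈ AM := ⟨hK'K hK', ha1⟩
          simp only [hterm, if_pos ha, if_pos hK', if_neg h1]
          rw [if_neg (show ¬((a : G) ∈ AM ∧ (a : G) ∉ N ∧ ∃ n : ℕ, (a : G) ^ p ^ n = 1) from fun h => h.2.1 hK'), add_zero]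
          have h2 := mul_nonneg hN0.le (sq_nonneg ((φ a : ℝ) + e))
          have hsq : (p : ℤ) ∣ φ a → 0 ≤ Nr * (((φ a : ℝ) + e) ^ 2 - (e : ℝ) ^ 2) := fun hd =>
            mul_nonneg hN0.le (sub_nonneg.mpr (by exact_mod_cast int_arith_lower h2e hd))
          obtain ⟨w, hw, b, hb, hwb⟩ := hdec _ hK'
          by_cases hb1 : b = 1
          · rw [hb1, mul_one] at hwb
            have haW : (a : G) ∈ WT := hwb ▸ hw
            have hab : a ∉ badN := fun h => by
              obtain ⟨⟨b', w'⟩, hbw, he'⟩ := Finset.mem_image.mp h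
              simp only [Finset.mem_product, hbad, hWW, Finset.mem_filter, Finset.mem_univ, true_and] at hbw
              have h3 : (b' : G) * w' = a := congrArg Subtype.val he'
              exact hbw.1.2.1 (Subtype.ext (hbot _ hbw.1.1 (by
                rw [eq_mul_inv_of_mul_eq h3]; exact T.mul_mem (hWTT haW) (T.inv_mem (hWTT hbw.2)))))
            rw [if_pos haW, if_neg hab]
            by_cases hzd : (p : ℤ) ∣ φ z
            · have hd : (p : ℤ) ∣ φ a := by
                have h3 := dvd_add (dvd_sub (hTcong _ (hWTT haW) ha1) hzcong) hzd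
                simpa using h3
              rw [hΓ, if_pos hzd]
              simpa using hsq hd
            · rw [hΓ, if_neg hzd]
              nlinarith only [h2]
          · have haW : (a : G) ∉ WT := fun h => hb1 (hbot b hb (by
              rw [eq_inv_mul_of_mul_eq hwb.symm]; exact T.mul_mem (T.inv_mem (hWTT hw)) (hWTT h)))
            rw [if_neg haW]
            have hab' : (a : G) = b * w := by rw [hwb, (hcomb b hb w (hWTT hw)).eq]
            by_cases hab : a ∈ badN
            · rw [if_pos hab]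
              nlinarith only [h2]
            · rw [if_neg hab]
              have hd : (p : ℤ) ∣ φ b := by
                by_contra hd
                refine hab (Finset.mem_image.mpr ⟨(⟨b, hK'M (hNbN hb)⟩, ⟨w, hTM (hWTT hw)⟩), ?_, Subtype.ext hab'.symm⟩)
                simp only [Finset.mem_product, hbad, hWW, Finset.mem_filter, Finset.mem_univ, true_and]
                exact ⟨⟨hb, fun h => hb1 (congrArg Subtype.val h), hd⟩, hw⟩
              have hd' : (p : ℤ) ∣ φ a := by
                rw [hab']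
                simpa using dvd_add (hcb b hb hb1 w (hWTT hw)) hd
              simpa using hsq hd'
        · have hab : a ∉ badN := fun h => by
            obtain ⟨⟨b', w'⟩, hbw, he'⟩ := Finset.mem_image.mp h
            simp only [Finset.mem_product, hbad, hWW, Finset.mem_filter, Finset.mem_univ, true_and] at hbw
            exact hK' (he' ▸ N.mul_mem (hNbN hbw.1.1) (hWN hbw.2))
          simp only [hterm, if_neg hK', if_neg h1, if_neg hab, if_neg (fun h => hK' (hWN h) : (a : G) ∉ WT)]
          by_cases ha : (a : G) ∈ AM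
          · simp only [if_pos ha]
            split_ifs <;> linarith [mul_nonneg hN2e (hW0 a)]
          · simp [ha]
      have hsum := Finset.sum_le_sum fun a (_ : a ∈ (Finset.univ : Finset M)) => hpt a
      rw [Finset.sum_add_distrib, Finset.sum_add_distrib, Finset.sum_add_distrib, ← Finset.sum_mul,
        Finset.sum_sub_distrib, sum_subgroup_ite (hWTT.trans hTM), Finset.sum_ite_eq', if_pos (Finset.mem_univ _),
        Finset.sum_ite_mem, Finset.sum_ite_mem, Finset.univ_inter, Finset.univ_inter, Finset.sum_const,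
        Finset.sum_const, nsmul_eq_mul, nsmul_eq_mul, himgc, hbadc, Nat.cast_mul, Nat.cast_mul, hTTc, hWWc] at hsum
      change ((D' : ℝ) - 1) * -(Nr * Γ) + _ + _ + G1 ≤ _ at hsum
      have hTsize : (p : ℝ) ^ 2 * D' ≤ Nat.card T := by exact_mod_cast hsize
      have hfac : Nr * (e : ℝ) ^ 2 ≤ (Nr - 2 * e) * ((p : ℝ) ^ 2 - 1) := by
        have h2 : 4 * (e : ℝ) ^ 2 ≤ ((p : ℝ) + 1) ^ 2 := by nlinarith
        have h3 : (e : ℝ) ^ 2 + 2 * e ≤ (p : ℝ) ^ 2 - 1 := by nlinarith
        have h4 : 2 * (e : ℝ) * ((p : ℝ) ^ 2 - 1) ≤ 2 * e * Nr := by nlinarith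
        nlinarith
      have hcompT : Nr * (e : ℝ) ^ 2 * D' ≤ (Nr - 2 * e) * ((Nat.card T : ℝ) - D') :=
        (mul_le_mul_of_nonneg_right hfac hD'0.le).trans (by
          rw [mul_assoc]
          exact mul_le_mul_of_nonneg_left (by linarith) hN2e)
      have hcomp := mul_le_mul_of_nonneg_left hcompT (Nat.cast_nonneg bad.card : (0 : ℝ) ≤ bad.card)
      have hbudget : G1 + Nr * (Nat.card M : ℝ) * PL < Nr * ((e : ℝ) ^ 2 + ((D' : ℝ) - 1) * Γ) := by
        nlinarith
      have hzdvd : (p : ℤ) ∣ φ z := by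
        by_contra hnd
        rw [hΓ, if_neg hnd] at hbudget
        have hlow : (Nr - 2 * e) * ((Nat.card T : ℝ) - D') ≤ G1 := by
          rw [← sum_subgroup_ite hTM, show (D' : ℝ) = _ from (sum_subgroup_ite (hWTT.trans hTM)).symm,
            ← Finset.sum_sub_distrib, Finset.mul_sum]
          refine Finset.sum_le_sum fun a _ => ?_
          by_cases haW : (a : G) ∈ WT
          · rw [if_pos (hWTT haW), if_pos haW, sub_self, mul_zero]
            split_ifs
            · exact mul_nonneg hN2e (hW0 a)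
            · exact le_rfl
          rw [if_neg haW, sub_zero]
          by_cases hT : (a : G) ∈ T
          · have hK' : (a : G) ∉ N := fun h => haW (hWT.symm ▸ ⟨h, hT⟩)
            have ha1 : (a : G) ≠ 1 := fun h => hK' (h ▸ one_mem _)
            rw [if_pos hT, if_pos ⟨⟨c.hTK hT, ha1⟩, hK', hTpow _ hT⟩]
            refine mul_le_mul_of_nonneg_left (hW1 a (c.hTK hT) hK' 1 (one_mem _) fun h0 => ?_) hN2e
            rw [mul_one] at h0
            refine hnd ?_
            have h1 := dvd_sub hzcong (hTcong _ hT ha1)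
            rw [h0] at h1
            simpa using h1
          · rw [if_neg hT, mul_zero]
            split_ifs
            · exact mul_nonneg hN2e (hW0 a)
            · exact le_rfl
        have h3 : 0 ≤ Nr * (Nat.card M : ℝ) * PL := by positivity
        nlinarith
      refine ⟨(e : ℝ) ^ 2, e, ?_, ?_, by linarith, hCe, Or.inl rfl⟩
      · rw [hΓ, if_pos hzdvd] at hbudget
        simpa using hbudget
      · have h : (E : ℝ) ≤ Nat.card K := by exact_mod_cast hcase
        rw [hM]
        nlinarith [mul_le_mul_of_nonneg_left h (sq_nonneg (e : ℝ))]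
    -- the negative values on `N` are compensated by the cosets of `T`
    · set Δ : ℝ := if 2 * e < p then 0 else (p : ℝ) with hΔ
      have hΔ0 : 0 ≤ Δ := by rw [hΔ]; split_ifs <;> positivity
      set bad : Finset M := Finset.univ.filter fun a => (a : G) ∈ N ∧ a ≠ 1 ∧ ¬ (p : ℤ) ∣ φ a with hbad
      set TT : Finset M := Finset.univ.filter fun a => (a : G) ∈ T ∧ a ≠ 1 with hTT
      set img : Finset M := (bad ×ˢ TT).image fun x => x.1 * x.2 with himg
      have himgc : img.card = bad.card * TT.card := by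
        rw [himg, ← Finset.card_product]
        refine Finset.card_image_of_injOn fun x hx y hy hxy => ?_
        simp only [Finset.coe_product, Set.mem_prod, Finset.mem_coe, hbad, hTT, Finset.mem_filter,
          Finset.mem_univ, true_and] at hx hy
        have h1 : ((y.1 : G))⁻¹ * x.1 = y.2 * (x.2 : G)⁻¹ := by
          have h2 : (x.1 : G) * x.2 = y.1 * y.2 := congrArg Subtype.val hxy
          calc ((y.1 : G))⁻¹ * x.1 = (y.1 : G)⁻¹ * ((x.1 : G) * x.2) * (x.2 : G)⁻¹ := by group
            _ = y.2 * (x.2 : G)⁻¹ := by rw [h2]; group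
        have h3 : ((y.1 : G))⁻¹ * x.1 ∈ N ⊓ T :=
          ⟨N.mul_mem (N.inv_mem hy.1.1) hx.1.1, h1 ▸ T.mul_mem hy.2.1 (T.inv_mem hx.2.1)⟩
        rw [hNTbot, Subgroup.mem_bot] at h3
        have h4 : x.1 = y.1 := Subtype.ext (inv_mul_eq_one.mp h3).symm
        refine Prod.ext h4 (Subtype.ext (mul_left_cancel (a := (y.1 : G)) ?_))
        have h2 : (x.1 : G) * x.2 = y.1 * y.2 := congrArg Subtype.val hxy
        rwa [h4] at h2
      have hTTc : (TT.card : ℝ) = (Nat.card T : ℝ) - 1 := by
        have h1 : TT = (Finset.univ.filter fun a : M => (a : G) ∈ T).erase 1 := by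
          ext a; simp [hTT, and_comm]
        rw [h1, Finset.card_erase_of_mem (by simp), Nat.cast_sub (Finset.card_pos.mpr ⟨1, by simp⟩), Nat.cast_one,
          Finset.natCast_card_filter, sum_subgroup_ite hTM]
      have hpt : ∀ a : M, (((if (a : G) ∈ N then (1 : ℝ) else 0) - if a = 1 then 1 else 0) * -(Nr * Δ) +
          (if a ∈ bad then -(Nr * (e : ℝ) ^ 2) else 0) + (if a ∈ img then Nr - 2 * e else 0)) +
          (if (a : G) ∈ AM ∧ (a : G) ∉ N ∧ ∃ n : ℕ, (a : G) ^ p ^ n = 1 then (Nr - 2 * e) * W a else 0) ≤ term a := by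
        intro a
        by_cases himga : a ∈ img
        · obtain ⟨⟨b, t⟩, hbt, rfl⟩ := Finset.mem_image.mp himga
          simp only [Finset.mem_product, hbad, hTT, Finset.mem_filter, Finset.mem_univ, true_and] at hbt
          obtain ⟨⟨hbN, hb1, hbd⟩, htT, ht1⟩ := hbt
          have hb1' : (b : G) ≠ 1 := fun h => hb1 (Subtype.ext h)
          have hnN : (b : G) * t ∉ N := fun h => ht1 (Subtype.ext (Subgroup.mem_bot.mp (hNTbot.le
            ⟨by simpa using N.mul_mem (N.inv_mem hbN) h, htT⟩)))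
          have hK : (b : G) * t ∈ K := K.mul_mem (hK'K hbN) (c.hTK htT)
          have hm1 : b * t ≠ 1 := fun h => hnN (by
            rw [show (b : G) * t = ((b * t : M) : G) from rfl, h]; exact one_mem _)
          have hnp : ¬ ∃ n : ℕ, ((b * t : M) : G) ^ p ^ n = 1 := by
            rintro ⟨n, hn⟩
            obtain ⟨n', hn'⟩ := hTpow _ htT
            have hb : (b : G) ^ p ^ (n + n') = 1 := by
              have h1 : ((b : G) * t) ^ p ^ (n + n') = 1 := by
                rw [pow_add, pow_mul, show ((b : G) * t) ^ p ^ n = 1 from hn, one_pow]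
              rw [(hcom b hbN t htT).mul_pow, show (t : G) ^ p ^ (n + n') = 1 by
                rw [pow_add, mul_comm, pow_mul, hn', one_pow], mul_one] at h1
              exact h1
            obtain ⟨i, -, hi⟩ := (Nat.dvd_prime_pow hp).mp (orderOf_dvd_of_pow_eq_one hb)
            have hpN : p ∣ Nat.card N := by
              rcases Nat.eq_zero_or_pos i with rfl | hi0
              · exact absurd (orderOf_eq_one_iff.mp (by rw [hi, pow_zero])) hb1'
              · exact (dvd_pow_self p hi0.ne').trans (hi ▸ Subgroup.orderOf_dvd_natCard N hbN)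
            have := Nat.le_of_dvd Nat.card_pos hpN
            omega
          have hW : 1 ≤ W (b * t) := hW1 _ hK hnN 1 (one_mem _) fun h0 => hbd (by
            rw [mul_one] at h0
            obtain ⟨f, hf⟩ := hXM _ (b * t).2 ⟨hK, fun h => hm1 (Subtype.ext h)⟩ 1 (one_mem _)
            obtain ⟨f', hf'⟩ := hXM b b.2 ⟨hK'K hbN, hb1'⟩ 1 (one_mem _)
            obtain ⟨n, hn⟩ := hTpow _ htT
            rw [mul_one] at hf hf'
            rw [h0, Int.cast_zero, zero_add] at hf
            rw [c.xi_derived f' hbN] at hf'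
            have h1 := virt_congr hp2 hX (hcom b hbN t htT) hn
            rw [show (b : G) * t = ((b * t : M) : G) from rfl, hf, hf'] at h1
            have h2 := virt_congr (G := M) (p := p) hp2 (virt_of_char (c.xi_char f)) (x := b) (u := t) (n := n)
              (Subtype.ext (hcom b hbN t htT).eq) (Subtype.ext (by simpa using hn))
            rw [c.xi_derived f hbN] at h2
            have h3 := congrP_trans (congrP_symm h2) h1
            rw [show (φ (b : G) : ℂ) + (e : ℂ) = ((φ (b : G) + e : ℤ) : ℂ) by push_cast; ring,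
              show (e : ℂ) = ((e : ℤ) : ℂ) by push_cast; rfl] at h3
            have h4 := (congrP_int hp).mp
              (congrP_trans (congrP_symm (congrP_int_pow (e : ℤ) n)) (congrP_trans h3 (congrP_int_pow _ n)))
            have h5 := dvd_neg.mpr h4
            simpa using h5)
          have hnb : b * t ∉ bad := by simp [hbad, hnN]
          simp only [hterm, if_pos himga, if_neg hnb, if_neg hm1,
            if_neg (show ¬((b * t : M) : G) ∈ N from hnN),
            if_pos (show ((b * t : M) : G) ∈ AM from ⟨hK, fun h => hm1 (Subtype.ext h)⟩)]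
          rw [if_neg (fun h => hnp h.2.2)]
          nlinarith
        rw [if_neg himga, add_zero]
        by_cases h1 : a = 1
        · subst h1
          simp [hterm, hAM, hbad]
        have ha1 : (a : G) ≠ 1 := fun h => h1 (Subtype.ext h)
        by_cases hK' : (a : G) ∈ N
        · have ha : (a : G) ∈ AM := ⟨hK'K hK', ha1⟩
          simp only [hterm, if_pos ha, if_pos hK', if_neg h1]
          rw [if_neg (show ¬((a : G) ∈ AM ∧ (a : G) ∉ N ∧ ∃ n : ℕ, (a : G) ^ p ^ n = 1) from fun h => h.2.1 hK'), add_zero]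
          by_cases hb : a ∈ bad
          · rw [if_pos hb]
            have h2 := mul_nonneg hN0.le (sq_nonneg ((φ a : ℝ) + e))
            have h3 := mul_nonneg hN0.le hΔ0
            nlinarith only [h2, h3]
          · rw [if_neg hb]
            have hd : (p : ℤ) ∣ φ a := by
              by_contra hd
              exact hb (by simp [hbad, hK', h1, hd])
            have h2 : -Δ ≤ ((φ a : ℝ) + e) ^ 2 - (e : ℝ) ^ 2 := by
              by_cases h2e : 2 * e < p
              · rw [hΔ, if_pos h2e]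
                have h3 : (e : ℤ) ^ 2 ≤ (φ a + e) ^ 2 := int_arith_lower h2e hd
                have h4 : (e : ℝ) ^ 2 ≤ ((φ a : ℝ) + e) ^ 2 := by exact_mod_cast h3
                linarith
              · rw [hΔ, if_neg h2e]
                obtain ⟨j, hj⟩ := hd
                have h3 : -(p : ℤ) ≤ (φ a + e) ^ 2 - (e : ℤ) ^ 2 := by
                  rw [hj]
                  have hep' : 2 * (e : ℤ) ≤ p + 1 := by exact_mod_cast hep
                  rcases le_or_gt 0 j with h | h
                  · nlinarith [mul_nonneg (Int.natCast_nonneg p) h]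
                  · rcases (show j ≤ -2 ∨ j = -1 by omega) with h' | h'
                    · nlinarith [mul_le_mul_of_nonpos_right (show (p : ℤ) * j + 2 * e ≤ 0 by nlinarith) (show (p : ℤ) * j ≤ 0 by nlinarith)]
                    · subst h'; nlinarith
                exact_mod_cast h3
            nlinarith only [mul_le_mul_of_nonneg_left h2 hN0.le]
        · have hb : a ∉ bad := by simp [hbad, hK']
          simp only [hterm, if_neg hK', if_neg h1, if_neg hb]
          by_cases ha : (a : G) ∈ AM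
          · simp only [if_pos ha]
            split_ifs <;> linarith [mul_nonneg hN2e (hW0 a)]
          · simp [ha]
      have hsum := Finset.sum_le_sum fun a (_ : a ∈ (Finset.univ : Finset M)) => hpt a
      rw [Finset.sum_add_distrib, Finset.sum_add_distrib, Finset.sum_add_distrib, ← Finset.sum_mul,
        Finset.sum_sub_distrib, sum_subgroup_ite hK'M, Finset.sum_ite_eq', if_pos (Finset.mem_univ _),
        Finset.sum_ite_mem, Finset.sum_ite_mem, Finset.univ_inter, Finset.univ_inter, Finset.sum_const,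
        Finset.sum_const, nsmul_eq_mul, nsmul_eq_mul, himgc, Nat.cast_mul, hTTc] at hsum
      change ((D : ℝ) - 1) * -(Nr * Δ) + _ + _ + G1 ≤ _ at hsum
      have hcomp : 0 ≤ (Nr - 2 * e) * ((Nat.card T : ℝ) - 1) - Nr * (e : ℝ) ^ 2 := by
        have hT2 : (p : ℝ) ^ 2 ≤ Nat.card T := by exact_mod_cast hTsize
        have h1 : (Nr - 2 * e) * ((p : ℝ) ^ 2 - 1) ≤ (Nr - 2 * e) * ((Nat.card T : ℝ) - 1) :=
          mul_le_mul_of_nonneg_left (by linarith) hN2e
        have h2 : 4 * (e : ℝ) ^ 2 ≤ ((p : ℝ) + 1) ^ 2 := by nlinarith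
        have h3 : (e : ℝ) ^ 2 + 2 * e ≤ (p : ℝ) ^ 2 - 1 := by nlinarith
        have h4 : 2 * (e : ℝ) * ((p : ℝ) ^ 2 - 1) ≤ 2 * e * Nr := by nlinarith
        nlinarith
      have hbadc := mul_nonneg (Nat.cast_nonneg bad.card : (0 : ℝ) ≤ bad.card) hcomp
      have hbudget : G1 + Nr * (Nat.card M : ℝ) * PL < Nr * ((e : ℝ) ^ 2 + ((D : ℝ) - 1) * Δ) := by
        nlinarith
      have hEK : (E : ℝ) ≤ Nat.card K := by exact_mod_cast hcase
      have hDe' : (D : ℝ) ≤ e := by exact_mod_cast hDe
      by_cases h2e : 2 * e < p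
      · refine ⟨(e : ℝ) ^ 2, e, ?_, ?_, by linarith, hCe, Or.inl rfl⟩
        · rw [hΔ, if_pos h2e] at hbudget
          linarith
        · rw [hM]
          nlinarith [mul_le_mul_of_nonneg_left hEK (sq_nonneg (e : ℝ))]
      · have he7 : (7 : ℝ) ≤ e := by exact_mod_cast hbr.resolve_left h2e
        have hzdvd : (p : ℤ) ∣ φ z := by
          by_contra hnd
          have hlowT : (Nr - 2 * e) * ((Nat.card T : ℝ) - 1) ≤ G1 := by
            have key : ∑ a : M, ((if (a : G) ∈ T then (1 : ℝ) else 0) - if a = 1 then 1 else 0) = (Nat.card T : ℝ) - 1 := by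
              rw [Finset.sum_sub_distrib, sum_subgroup_ite hTM, Finset.sum_ite_eq', if_pos (Finset.mem_univ _)]
            rw [← key, Finset.mul_sum]
            refine Finset.sum_le_sum fun a _ => ?_
            by_cases hT : (a : G) ∈ T
            · by_cases h1 : a = 1
              · subst h1
                rw [if_pos hT, if_pos rfl, sub_self, mul_zero]
                split_ifs
                · exact mul_nonneg hN2e (hW0 1)
                · exact le_rfl
              have ha1 : (a : G) ≠ 1 := fun h => h1 (Subtype.ext h)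
              have hK' : (a : G) ∉ N := fun h => ha1 (Subgroup.mem_bot.mp (hNTbot.le ⟨h, hT⟩))
              rw [if_pos hT, if_neg h1, sub_zero, if_pos ⟨⟨c.hTK hT, ha1⟩, hK', hTpow _ hT⟩]
              refine mul_le_mul_of_nonneg_left (hW1 a (c.hTK hT) hK' 1 (one_mem _) fun h0 => ?_) hN2e
              rw [mul_one] at h0
              refine hnd ?_
              have h1' := dvd_sub hzcong (hTcong _ hT ha1)
              rw [h0] at h1'
              simpa using h1'
            · rw [if_neg hT, if_neg (fun h : a = 1 => hT (by rw [h]; exact one_mem _)), sub_zero, mul_zero]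
              split_ifs
              · exact mul_nonneg hN2e (hW0 a)
              · exact le_rfl
          rw [hΔ, if_neg h2e] at hbudget
          have hp2e : (p : ℝ) = 2 * e - 1 := by
            have hpo := Nat.odd_iff.mp (hp.odd_of_ne_two hp2)
            have : (p : ℕ) + 1 = 2 * e := by omega
            have : (p : ℝ) + 1 = 2 * e := by exact_mod_cast this
            linarith
          have hT2 : (p : ℝ) ^ 2 ≤ Nat.card T := by exact_mod_cast hTsize
          have h5 : 0 ≤ Nr * (Nat.card M : ℝ) * PL := by positivity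
          have h6 : (Nr - 2 * e) * ((p : ℝ) ^ 2 - 1) ≤ G1 :=
            le_trans (mul_le_mul_of_nonneg_left (by linarith) hN2e) hlowT
          have h7 : ((D : ℝ) - 1) * p ≤ ((e : ℝ) - 1) * p := mul_le_mul_of_nonneg_right (by linarith) (Nat.cast_nonneg _)
          have h8 : (Nr - 2 * e) * ((p : ℝ) ^ 2 - 1) < Nr * ((e : ℝ) ^ 2 + ((e : ℝ) - 1) * p) := by
            nlinarith [mul_le_mul_of_nonneg_left h7 hN0.le]
          rw [hp2e] at h8 hNp
          nlinarith [mul_nonneg hN0.le (sq_nonneg ((e : ℝ) - 7))]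
        refine ⟨3 * (e : ℝ) ^ 2, 3 * e, ?_, ?_, le_rfl, ?_, Or.inr hzdvd⟩
        · rw [hΔ, if_neg h2e] at hbudget
          have hp2e : (p : ℝ) ≤ 2 * e := by exact_mod_cast (show p ≤ 2 * e by omega)
          have h5 : ((D : ℝ) - 1) * p ≤ 2 * (e : ℝ) ^ 2 := by nlinarith
          nlinarith [mul_le_mul_of_nonneg_left h5 hN0.le]
        · rw [hM]
          nlinarith [mul_le_mul_of_nonneg_left hEK (sq_nonneg (e : ℝ))]
        · have h6 : 0 ≤ ((p : ℝ) - 2) * ((e : ℝ) - 7) := mul_nonneg (by linarith) (by linarith)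
          nlinarith
  have hE0 : (0 : ℝ) < E := Nat.cast_pos.mpr Nat.card_pos
  have hM0 : (0 : ℝ) < Nat.card M := Nat.cast_pos.mpr Nat.card_pos
  -- Step 2
  have hphi : ∀ v ∈ V, v ≠ 1 → (p : ℤ) ∣ φ v - e := by
    intro v hv hv1
    have hzv1 := hzv z (Subgroup.mem_zpowers z) hz1 v hv hv1
    suffices h : (p : ℤ) ∣ φ (z * v) by
      have := dvd_sub h hzv1
      rwa [show φ (z * v) - (φ (z * v) + e - φ v) = φ v - e by ring] at this
    by_contra hnd
    set Z : Finset M := Finset.univ.filter fun a =>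
      ∃ m ∈ M, m⁻¹ * (a : G) * m ∈ Subgroup.zpowers z ∧ (a : G) ≠ 1 with hZ
    obtain ⟨fac, hfac, hfacC⟩ : ∃ fac : ℤ, (fac = 1 ∨ (fac = p ∧ (p : ℤ) ∣ φ z)) ∧ (C = e ∨ fac = p) := by
      rcases hz0 with h | h
      · exact ⟨1, Or.inl rfl, Or.inl h⟩
      · exact ⟨p, Or.inr ⟨rfl, h⟩, Or.inr rfl⟩
    have hlow : (Nr - 2 * e) * ((fac : ℝ) * (Z.card : ℝ)) ≤ G1 := by
      rw [hZ, Finset.natCast_card_filter, Finset.mul_sum, Finset.mul_sum]
      refine Finset.sum_le_sum fun a _ => ?_
      by_cases ha : ∃ m ∈ M, m⁻¹ * (a : G) * m ∈ Subgroup.zpowers z ∧ (a : G) ≠ 1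
      swap
      · rw [if_neg ha, mul_zero, mul_zero]
        split_ifs
        · exact mul_nonneg hN2e (hW0 a)
        · exact le_rfl
      rw [if_pos ha, mul_one]
      obtain ⟨m, hm, hw, ha1⟩ := ha
      set w := m⁻¹ * (a : G) * m with hwdef
      have hw1 : w ≠ 1 := fun h => ha1 (by
        rw [show (a : G) = m * w * m⁻¹ by rw [hwdef]; group, h]; group)
      have hae : (a : G) = m * w * m⁻¹ := by rw [hwdef]; group
      have hwK : w ∈ K := (Subgroup.zpowers_le.mpr c.hzK) hw
      have haK : (a : G) ∈ K := by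
        rw [hae]; exact (Subgroup.mem_normalizer_iff.mp (c.hKn hm) w).mp hwK
      have haK' : (a : G) ∉ N := fun h => c.not_mem_derived hw hw1 (by
        have := (Subgroup.mem_normalizer_iff.mp (inv_mem (c.hNn hm)) _).mp h
        rwa [inv_inv] at this)
      have hwp : w ^ p = 1 := orderOf_dvd_iff_pow_eq_one.mp
        ((Subgroup.orderOf_dvd_natCard _ hw).trans (by rw [Nat.card_zpowers, c.hzo]))
      rw [if_pos ⟨⟨haK, ha1⟩, haK', 1, by
        rw [pow_one, hae, conj_pow, hwp, mul_one, mul_inv_cancel]⟩]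
      refine mul_le_mul_of_nonneg_left ?_ hN2e
      have huR : m * v * m⁻¹ ∈ supportR M (a : G) := by
        rw [hae]
        exact dade_conj_mem_H c.dM ⟨hwK, hw1⟩ hm ((hRz w hw hw1).ge hv)
      have hwv : φ (w * v) ≠ 0 := fun h0 => hnd (by
        have h1 := hzv w hw hw1 v hv hv1
        rw [h0] at h1
        have := dvd_sub hzv1 h1
        rwa [show φ (z * v) + e - φ v - (0 + e - φ v) = φ (z * v) by ring] at this)
      have hW1' := hW1 a haK haK' (m * v * m⁻¹) huR (by
        rw [show (a : G) * (m * v * m⁻¹) = m * (w * v) * m⁻¹ by rw [hae]; group, hφc]; exact hwv)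
      rcases hfac with rfl | ⟨rfl, hzd⟩
      · rw [Int.cast_one]; exact hW1'
      obtain ⟨k, hk, hsum⟩ := hW2 a haK haK'
      -- `p` divides the mean of the squares
      have hR : supportR M w = V := hRz w hw hw1
      let F : V → supportR M (a : G) := fun u =>
        ⟨m * (u : G) * m⁻¹, by rw [hae]; exact dade_conj_mem_H c.dM ⟨hwK, hw1⟩ hm (hR.ge u.2)⟩
      have hcardR : Nat.card V = Nat.card (supportR M (a : G)) := by
        rw [hae, dade_card_conj c.dM ⟨hwK, hw1⟩ hm, hR]
      have hF : Function.Bijective F := (Nat.bijective_iff_injective_and_card F).mpr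
        ⟨fun u u' h => Subtype.ext (mul_left_cancel (mul_right_cancel (congrArg Subtype.val h))), hcardR⟩
      have hsum' : k * (Nat.card V : ℤ) = ∑ u : V, φ (w * u) ^ 2 := by
        rw [hcardR, hsum]
        refine (Fintype.sum_bijective F hF _ _ fun u => ?_).symm
        show φ (w * u) ^ 2 = φ ((a : G) * (m * (u : G) * m⁻¹)) ^ 2
        rw [show (a : G) * (m * (u : G) * m⁻¹) = m * (w * u) * m⁻¹ by rw [hae]; group, hφc]
      haveI : IsMulCommutative A := c.hAc
      have hwA : w ∈ A := (Subgroup.zpowers_le.mpr c.hzA) hw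
      have hcz : ∀ a' : A, (a' : G) * z = z * a' := fun a' => congrArg Subtype.val (mul_comm' a' ⟨z, c.hzA⟩)
      have hcw : ∀ a' : A, (a' : G) * w = w * a' := fun a' => congrArg Subtype.val (mul_comm' a' ⟨w, hwA⟩)
      have hAV : ∀ (a' : A) (u : V), (a' : G) * u * (a' : G)⁻¹ ∈ V := fun a' u => by
        refine ⟨(Subgroup.mem_normalizer_iff.mp (c.hLn (c.hAL a'.2)) _).mp u.2.1,
          Subgroup.mem_centralizer_singleton_iff.mpr ?_⟩
        have h1 := ((show Commute (u : G) z from Subgroup.mem_centralizer_singleton_iff.mp u.2.2).map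
          (MulAut.conj (a' : G))).eq
        simp only [MulAut.conj_apply] at h1
        rwa [show (a' : G) * z * (a' : G)⁻¹ = z by rw [hcz a', mul_inv_cancel_right]] at h1
      letI : MulAction A V :=
        { smul := fun a' u => ⟨a' * u * (a' : G)⁻¹, hAV a' u⟩
          one_smul := fun u => Subtype.ext (show ((1 : A) : G) * u * _ = u by simp)
          mul_smul := fun x y u => Subtype.ext (show ((x * y : A) : G) * u * _ =
            (x : G) * ((y : G) * u * (y : G)⁻¹) * (x : G)⁻¹ by simp [mul_assoc]) }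
      have hfixed : ∀ u : V, u ∈ ({1} : Finset V) ↔ ∀ a' : A, a' • u = u := by
        intro u
        rw [Finset.mem_singleton]
        constructor
        · rintro rfl a'
          exact Subtype.ext (show (a' : G) * ((1 : V) : G) * _ = _ by simp)
        · intro h
          have h1 : (u : G) ∈ H ⊓ Subgroup.centralizer (A : Set G) := ⟨u.2.1, Subgroup.mem_centralizer_iff.mpr
            fun x hx => mul_inv_eq_iff_eq_mul.mp
              (show x * (u : G) * x⁻¹ = u from congrArg Subtype.val (h ⟨x, hx⟩))⟩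
          rw [c.hAfix, Subgroup.mem_bot] at h1
          exact Subtype.ext h1
      have hinv : ∀ (a' : A) (u : V), ((φ (w * (a' • u : V)) ^ 2 : ℤ) : ℂ) = ((φ (w * u) ^ 2 : ℤ) : ℂ) := fun a' u => by
        rw [show w * ((a' • u : V) : G) = (a' : G) * (w * u) * (a' : G)⁻¹ from
          show w * ((a' : G) * u * (a' : G)⁻¹) = _ by rw [← mul_assoc, ← mul_assoc, ← hcw a']; group, hφc]
      have hs1 := congrP_sum_fixed hp c.hAp {1} hfixed (fun u : V => ((φ (w * u) ^ 2 : ℤ) : ℂ))
        (fun u => isIntegral_algebraMap (R := ℤ) (x := φ (w * u) ^ 2)) hinv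
      have hs2 := congrP_sum_fixed hp c.hAp {1} hfixed (fun _ : V => (1 : ℂ)) (fun _ => isIntegral_one) (fun _ _ => rfl)
      simp only [Finset.sum_singleton, Finset.sum_const, Finset.card_univ, nsmul_eq_mul, mul_one,
        ← Nat.card_eq_fintype_card, OneMemClass.coe_one, Finset.card_singleton, Nat.cast_one] at hs1 hs2
      rw [← Int.cast_sum, ← hsum'] at hs1
      have h7 := (congrP_int hp).mp hs1
      have h8 : (p : ℤ) ∣ (Nat.card V : ℤ) - 1 :=
        (congrP_int hp).mp (by push_cast; exact hs2)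
      have hφw : (p : ℤ) ∣ φ w := by
        have h9 : (p : ℤ) ∣ φ w + e - d₁ := by
          have := hcong w hwK hw1 1 (by rwa [pow_one]) 1 (one_mem _) d₁ hd₁
          rwa [mul_one] at this
        have h10 := dvd_sub h9 hzcong
        rw [show φ w + (e : ℤ) - d₁ - (φ z + e - d₁) = φ w - φ z by ring] at h10
        simpa using dvd_add h10 hzd
      have hpk : (p : ℤ) ∣ k := by
        have h10 : (p : ℤ) ∣ φ w ^ 2 := hφw.trans (dvd_pow_self _ two_ne_zero)
        have h11 := dvd_add h7 h10
        rw [sub_add_cancel] at h11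
        have h12 := dvd_sub h11 (dvd_mul_of_dvd_right h8 k)
        rwa [show k * (Nat.card V : ℤ) - k * ((Nat.card V : ℤ) - 1) = k by ring] at h12
      have hk1 : (1 : ℤ) ≤ k := by rw [hk] at hW1'; exact_mod_cast hW1'
      have := Int.le_of_dvd (by omega) hpk
      rw [hk, Int.cast_natCast]
      exact_mod_cast this
    have hcount : (p - 1) * Nat.card M ≤ E * Z.card := by
      set P : Finset (M × G) := (Finset.univ : Finset M) ×ˢ
        ((Finset.univ : Finset G).filter fun w => w ∈ Subgroup.zpowers z ∧ w ≠ 1) with hP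
      have hPc : P.card = Nat.card M * (p - 1) := by
        rw [hP, Finset.card_product, Finset.card_univ, ← Nat.card_eq_fintype_card]
        congr 1
        have h1 : ((Finset.univ : Finset G).filter fun w => w ∈ Subgroup.zpowers z ∧ w ≠ 1) =
            ((Finset.univ : Finset G).filter fun w => w ∈ Subgroup.zpowers z).erase 1 := by
          ext w; simp [and_comm]
        rw [h1, Finset.card_erase_of_mem (by simp), ← c.hzo, ← Nat.card_zpowers z, Nat.card_eq_fintype_card,
          Fintype.card_subtype]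
      rw [mul_comm, ← hPc]
      let F : M × G → M := fun x => if h : (x.1 : G) * x.2 * (x.1 : G)⁻¹ ∈ M then ⟨_, h⟩ else 1
      have hFmem : ∀ x ∈ P, (F x : G) = (x.1 : G) * x.2 * (x.1 : G)⁻¹ := fun x hx => by
        have hw := (Finset.mem_filter.mp (Finset.mem_product.mp hx).2).2.1
        have : (x.1 : G) * x.2 * (x.1 : G)⁻¹ ∈ M :=
          M.mul_mem (M.mul_mem x.1.2 ((Subgroup.zpowers_le.mpr hzM) hw)) (M.inv_mem x.1.2)
        simp [F, this]
      refine (Finset.card_le_mul_card_image_of_maps_to (f := F) (t := Z) (fun x hx => ?_) E fun a _ => ?_)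
      · obtain ⟨-, hw⟩ := Finset.mem_product.mp hx
        obtain ⟨hw, hw1⟩ := (Finset.mem_filter.mp hw).2
        refine Finset.mem_filter.mpr ⟨Finset.mem_univ _, (x.1 : G), x.1.2, ?_, ?_⟩
        · rw [hFmem x hx, show (x.1 : G)⁻¹ * ((x.1 : G) * x.2 * (x.1 : G)⁻¹) * (x.1 : G) = x.2 by group]
          exact hw
        · rw [hFmem x hx]
          exact fun h => hw1 (conj_eq_one_iff.mp h)
      · rcases (P.filter fun x => F x = a).eq_empty_or_nonempty with h0 | ⟨x0, hx0⟩
        · rw [h0, Finset.card_empty]; exact Nat.zero_le _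
        rw [Finset.mem_filter] at hx0
        refine le_trans (Finset.card_le_card_of_injOn (fun x => (x0.1 : G)⁻¹ * (x.1 : G))
          (t := (Finset.univ : Finset G).filter fun g => g ∈ M ⊓ L) (fun x hx => ?_) ?_) (le_of_eq ?_)
        · rw [Finset.coe_filter, Set.mem_setOf_eq] at hx
          simp only [Finset.coe_filter, Set.mem_setOf_eq, Finset.mem_univ, true_and]
          have hmem : (x0.1 : G)⁻¹ * (x.1 : G) ∈ M := M.mul_mem (M.inv_mem x0.1.2) x.1.2
          refine ⟨hmem, c.hNz _ hmem ?_⟩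
          obtain ⟨hw, hw1⟩ := (Finset.mem_filter.mp (Finset.mem_product.mp hx.1).2).2
          obtain ⟨hw0, hw01⟩ := (Finset.mem_filter.mp (Finset.mem_product.mp hx0.1).2).2
          have heq : (x.1 : G) * x.2 * (x.1 : G)⁻¹ = (x0.1 : G) * x0.2 * (x0.1 : G)⁻¹ := by
            rw [← hFmem x hx.1, ← hFmem x0 hx0.1, hx.2, hx0.2]
          set g := (x0.1 : G)⁻¹ * (x.1 : G) with hg
          have hgw : g * x.2 * g⁻¹ = x0.2 := by
            calc g * x.2 * g⁻¹ = (x0.1 : G)⁻¹ * ((x.1 : G) * x.2 * (x.1 : G)⁻¹) * x0.1 := by rw [hg]; group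
              _ = x0.2 := by rw [heq]; group
          have hcard : Nat.card (Subgroup.zpowers z) = p := by rw [Nat.card_zpowers, c.hzo]
          refine OddLocal.Sigma.cj_eq_iff.mp ?_
          conv_lhs => rw [← OddLocal.Sigma.zpowers_eq_of_card_prime hcard hw hw1]
          rw [OddLocal.Sigma.cj, MonoidHom.map_zpowers]
          simp only [MulEquiv.coe_toMonoidHom, MulAut.conj_apply, hgw]
          exact OddLocal.Sigma.zpowers_eq_of_card_prime hcard hw0 hw01
        · intro x hx y hy hxy
          rw [Finset.coe_filter, Set.mem_setOf_eq] at hx hy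
          have h1 : (x.1 : G) = y.1 := mul_left_cancel hxy
          refine Prod.ext (Subtype.ext h1) ?_
          have heq : (x.1 : G) * x.2 * (x.1 : G)⁻¹ = (y.1 : G) * y.2 * (y.1 : G)⁻¹ := by
            rw [← hFmem x hx.1, ← hFmem y hy.1, hx.2, hy.2]
          rw [← h1] at heq
          exact mul_left_cancel (mul_right_cancel heq)
        · show _ = Nat.card ↥(M ⊓ L)
          rw [Nat.card_eq_fintype_card, Fintype.card_subtype]
    have hc : ((p : ℝ) - 1) * Nat.card M ≤ E * (Z.card : ℝ) := by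
      have h : (((p - 1) * Nat.card M : ℕ) : ℝ) ≤ ((E * Z.card : ℕ) : ℝ) := by exact_mod_cast hcount
      rw [Nat.cast_mul, Nat.cast_mul, Nat.cast_sub hp.one_le, Nat.cast_one] at h
      exact h
    have hfac0 : (0 : ℝ) ≤ fac := by
      rcases hfac with h | ⟨h, -⟩ <;> rw [h] <;> simp
    have h1 : (Nr - 2 * e) * (fac : ℝ) * ((p : ℝ) - 1) * Nat.card M < Nr * C * Nat.card M := by
      have h2 : (Nr - 2 * e) * (fac : ℝ) * (((p : ℝ) - 1) * Nat.card M) ≤
          (Nr - 2 * e) * (fac : ℝ) * (E * (Z.card : ℝ)) :=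
        mul_le_mul_of_nonneg_left hc (mul_nonneg hN2e hfac0)
      have h3 : (E : ℝ) * ((Nr - 2 * e) * ((fac : ℝ) * (Z.card : ℝ))) ≤ E * G1 :=
        mul_le_mul_of_nonneg_left hlow hE0.le
      have h4 : (E : ℝ) * (G1 + Nr * (Nat.card M : ℝ) * PL) < E * (Nr * Bd) := mul_lt_mul_of_pos_left hbud hE0
      have h6 : 0 ≤ (E : ℝ) * (Nr * (Nat.card M : ℝ) * PL) := by positivity
      have h7 : Nr * ((E : ℝ) * Bd) ≤ Nr * (C * (Nat.card M : ℝ)) := mul_le_mul_of_nonneg_left hBdE hN0.le
      nlinarith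
    have h4 := lt_of_mul_lt_mul_right h1 hM0.le
    rcases hfacC with rfl | rfl
    · have hfac1 : (1 : ℝ) ≤ fac := by
        rcases hfac with h | ⟨h, -⟩ <;> rw [h] <;> push_cast <;> linarith
      have h5 : (Nr - 2 * e) * 1 * ((p : ℝ) - 1) ≤ (Nr - 2 * e) * (fac : ℝ) * ((p : ℝ) - 1) :=
        mul_le_mul_of_nonneg_right (mul_le_mul_of_nonneg_left hfac1 hN2e) (by linarith)
      have h8 : 2 * (e : ℝ) * ((p : ℝ) - 1) ≤ Nr := by nlinarith
      nlinarith
    · push_cast at h4
      have h8 : Nr * C ≤ Nr * (3 * e) := mul_le_mul_of_nonneg_left hCle hN0.le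
      have h9 : 2 * (e : ℝ) * (p * ((p : ℝ) - 1)) ≤ ((p : ℝ) + 1) * (p * ((p : ℝ) - 1)) :=
        mul_le_mul_of_nonneg_right hepR (mul_nonneg (Nat.cast_nonneg _) (by linarith))
      have h10 : ((p : ℝ) + 1) * (p * ((p : ℝ) - 1)) ≤ p * Nr := by nlinarith
      nlinarith [mul_nonneg hN0.le (mul_nonneg (sub_nonneg.mpr h5R) (sub_nonneg.mpr h5R))]
  -- the inequality on `L`
  have hPLlt : ∑ y : L, (if (y : G) ∈ AL then
      ‖(Nat.card (supportR L (y : G)) : ℂ)⁻¹ * ∑ u : supportR L (y : G), (φ ((y : G) * u) : ℂ)‖ ^ 2 else 0) <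
      C * Nat.card H := by
    set S := ∑ y : L, (if (y : G) ∈ AL then
      ‖(Nat.card (supportR L (y : G)) : ℂ)⁻¹ * ∑ u : supportR L (y : G), (φ ((y : G) * u) : ℂ)‖ ^ 2 else 0)
    have hL : (Nat.card L : ℝ) = Nat.card H * E := by exact_mod_cast c.hcardL
    have hH0 : (0 : ℝ) < Nat.card H := Nat.cast_pos.mpr Nat.card_pos
    have h4 : (E : ℝ) * (G1 + Nr * (Nat.card M : ℝ) * PL) < E * (Nr * Bd) := mul_lt_mul_of_pos_left hbud hE0
    have h5 : 0 ≤ (E : ℝ) * G1 := by positivity
    have h7 : Nr * ((E : ℝ) * Bd) ≤ Nr * (C * (Nat.card M : ℝ)) := mul_le_mul_of_nonneg_left hBdE hN0.le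
    have h8 : (Nr * Nat.card M) * ((E : ℝ) * PL) < (Nr * Nat.card M) * C := by nlinarith
    have h9 := lt_of_mul_lt_mul_left h8 (by positivity)
    have h10 : S = (Nat.card H : ℝ) * ((E : ℝ) * PL) := by
      rw [hPL, hL]
      field_simp
    rw [h10, mul_comm C]
    exact mul_lt_mul_of_pos_left h9 hH0
  exact c.bessel hp hX hφc hXL hphi hC hPLlt

end Cfg

end Cfsg.Agent.OddChar.Frob
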