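import Cfsg.Agent.OddChar.Frob.CharTools
import Cfsg.Agent.OddChar.FrobSetup
import Cfsg.Agent.OddChar.DadeSum
import Cfsg.Agent.OddChar.IrrCoherence
import Cfsg.Agent.S1500
import Cfsg.Agent.S1501
import Cfsg.Agent.OddLocal.Sigma.QStructure
import Cfsg.Prelude.Def_OddOrderLocal

/-! The family of characters of `G` attached to the linear characters of the kernel of `M`. -/

set_option autoImplicit false
set_option linter.style.haveILetI false
set_option linter.unusedSectionVars false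

open scoped Classical ComplexConjugate

namespace Cfsg.Agent.OddChar.Frob

open Cfsg

universe u

variable {G : Type u} [Group G] [Fintype G]

/-- The configuration: a kernel `K` of `M` with a subgroup `N` containing `K'`, an element `z` of it, and the
subgroup `L` with kernel `H`. -/
structure Cfg (M L K N H A T : Subgroup G) (z : G) (p e : ℕ) : Prop where
  hKM : K ≤ M
  hKn : M ≤ Subgroup.normalizer (K : Set G)
  hNn : M ≤ Subgroup.normalizer (N : Set G)
  hNK : N ≤ K
  hK'N : ⁅K, K⁆ ≤ N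
  hbig : p ^ 2 * Nat.card N ≤ Nat.card K
  hTK : T ≤ K
  hTp : IsPGroup p T
  hindex : e * Nat.card K = Nat.card M
  he3 : 3 ≤ e
  hep : 2 * e ≤ p + 1
  hfpf : ∀ g ∈ M, g ∉ K → ∀ x ∈ K, g * x * g⁻¹ * x⁻¹ ∈ N → x ∈ N
  dM : DadeHypothesis ((K : Set G) \ {1}) M (supportR M)
  dL : DadeHypothesis ((H : Set G) \ {1}) L (supportR L)
  disj : ∀ g ∈ dadeSupport ((H : Set G) \ {1}) (supportR L), g ∉ dadeSupport ((K : Set G) \ {1}) (supportR M)
  hNR : ∀ w ∈ N, w ≠ 1 → supportR M w = ⊥
  hzK : z ∈ K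
  hzo : orderOf z = p
  hz' : z ∉ N
  hHL : H ≤ L
  hLn : L ≤ Subgroup.normalizer (H : Set G)
  hzA : z ∈ A
  hAp : IsPGroup p A
  hAc : IsMulCommutative A
  hAL : A ≤ L
  hAfix : H ⊓ Subgroup.centralizer (A : Set G) = ⊥
  hHp : ¬ p ∣ Nat.card H
  hR : ∀ w ∈ Subgroup.zpowers z, w ≠ 1 → supportR M w = H ⊓ Subgroup.centralizer ({z} : Set G)
  hV : ¬ H ⊓ Subgroup.centralizer ({z} : Set G) ≤ ⁅H, H⁆
  hNz : ∀ m ∈ M, m ∈ Subgroup.normalizer (Subgroup.zpowers z : Set G) → m ∈ L
  hcardL : Nat.card L = Nat.card H * Nat.card ↥(M ⊓ L)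
  hcase : Nat.card ↥(M ⊓ L) * Nat.card N ≤ Nat.card K ∨
    (2 * e < p ∧ Nat.card ↥(M ⊓ L) ≤ Nat.card K ∧ ∃ Nb : Subgroup G, Nb ≤ N ∧ Nb ⊓ T = ⊥ ∧ Nat.card Nb < p ∧
      (∀ b ∈ Nb, ∀ a ∈ T, Commute b a) ∧ (∀ a ∈ N, ∃ w ∈ N ⊓ T, ∃ b ∈ Nb, a = w * b) ∧
      p ^ 2 * Nat.card ↥(N ⊓ T) ≤ Nat.card T) ∨
    ((2 * e < p ∨ 7 ≤ e) ∧ Nat.card ↥(M ⊓ L) ≤ Nat.card K ∧ Nat.card N ≤ e ∧ p ^ 2 ≤ Nat.card T ∧ N ⊓ T = ⊥ ∧
      ∀ b ∈ N, ∀ a ∈ T, Commute b a)

/-- The copy of `N` in the kernel. -/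
abbrev nsub (K N M : Subgroup G) : Subgroup ↥(K.subgroupOf M) := (N.subgroupOf M).subgroupOf (K.subgroupOf M)

/-- The abelian quotient of the kernel. -/
abbrev Qt (K N M : Subgroup G) : Type u :=
  Abelianization ↥(K.subgroupOf M) ⧸ (nsub K N M).map Abelianization.of

/-- The projection to the abelian quotient. -/
def proj (K N M : Subgroup G) : ↥(K.subgroupOf M) →* Qt K N M :=
  (QuotientGroup.mk' _).comp Abelianization.of

/-- The linear characters of the kernel that are trivial on `N`. -/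
abbrev Lin (K N M : Subgroup G) : Type u := Qt K N M →* ℂˣ

/-- The induced character. -/
noncomputable def xi (K N M : Subgroup G) (f : Lin K N M) : M → ℂ :=
  indFun (K.subgroupOf M) (fun x => (f (proj K N M x) : ℂ))

noncomputable instance instFintypeLin (K N M : Subgroup G) : Fintype (Lin K N M) := by
  haveI : Finite (Abelianization ↥(K.subgroupOf M)) := Finite.of_surjective _ QuotientGroup.mk_surjective
  haveI : Finite (Qt K N M) := Finite.of_surjective _ QuotientGroup.mk_surjective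
  haveI : Finite (Lin K N M) :=
    Nat.finite_of_card_ne_zero (by rw [CommGroup.card_monoidHom_of_hasEnoughRootsOfUnity]; exact Nat.card_pos.ne')
  exact Fintype.ofFinite _

theorem proj_surjective (K N M : Subgroup G) : Function.Surjective (proj K N M) :=
  (QuotientGroup.mk'_surjective _).comp QuotientGroup.mk_surjective

variable {M L K N H A T : Subgroup G} {z : G} {p e : ℕ}

theorem mem_commutator_sub (hKM : K ≤ M) (x : ↥(K.subgroupOf M)) :
    x ∈ commutator ↥(K.subgroupOf M) ↔ ((x : M) : G) ∈ ⁅K, K⁆ := by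
  set ι : ↥(K.subgroupOf M) →* G := M.subtype.comp (K.subgroupOf M).subtype
  have hι : Function.Injective ι := M.subtype_injective.comp (K.subgroupOf M).subtype_injective
  have hrange : (⊤ : Subgroup ↥(K.subgroupOf M)).map ι = K := by
    rw [← Subgroup.map_map, ← MonoidHom.range_eq_map, Subgroup.range_subtype,
      Subgroup.map_subgroupOf_eq_of_le hKM]
  rw [← Subgroup.mem_map_iff_mem hι (x := x), commutator_def, Subgroup.map_commutator, hrange]
  rfl

theorem sum_lin (a : Qt K N M) :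
    ∑ f : Lin K N M, (f a : ℂ) = if a = 1 then (Nat.card (Qt K N M) : ℂ) else 0 := by
  haveI : Finite (Abelianization ↥(K.subgroupOf M)) := Finite.of_surjective _ QuotientGroup.mk_surjective
  haveI : Finite (Qt K N M) := Finite.of_surjective _ QuotientGroup.mk_surjective
  have hb : commutator (Qt K N M) = ⊥ := le_bot_iff.mp (Subgroup.commutator_le.mpr fun x _ y _ => by
    rw [Subgroup.mem_bot, commutatorElement_eq_one_iff_mul_comm]; exact mul_comm x y)
  have h := sum_hom_eq a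
  simp only [hb, Subgroup.mem_bot, Subgroup.index_bot] at h
  convert h

namespace Cfg

variable (c : Cfg M L K N H A T z p e)
include c

theorem normal_sub : (K.subgroupOf M).Normal := Subgroup.normal_subgroupOf_of_le_normalizer c.hKn

theorem index_eq : (K.subgroupOf M).index = e := by
  have h := (K.subgroupOf M).index_mul_card
  rw [Agent.Core.card_subgroupOf c.hKM, ← c.hindex] at h
  exact Nat.eq_of_mul_eq_mul_right Nat.card_pos h

theorem proj_eq_one {x : ↥(K.subgroupOf M)} : proj K N M x = 1 ↔ ((x : M) : G) ∈ N := by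
  rw [proj, MonoidHom.comp_apply, QuotientGroup.mk'_apply, QuotientGroup.eq_one_iff]
  constructor
  · rintro ⟨y, hy, he⟩
    have h1 : y⁻¹ * x ∈ commutator ↥(K.subgroupOf M) :=
      (QuotientGroup.eq (s := commutator ↥(K.subgroupOf M))).mp he
    have h2 := c.hK'N ((mem_commutator_sub c.hKM _).mp h1)
    have h3 : ((y : M) : G) ∈ N := hy
    simpa using N.mul_mem h3 h2
  · exact fun hx => ⟨x, hx, rfl⟩

theorem card_quot : Nat.card (Qt K N M) * Nat.card N = Nat.card K := by
  have h := (proj K N M).ker.index_mul_card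
  rw [Agent.Core.card_subgroupOf c.hKM, Subgroup.index_ker, (proj K N M).range_eq_top.mpr (proj_surjective K N M),
    Nat.card_congr Subgroup.topEquiv.toEquiv] at h
  rw [← h]
  congr 1
  have he : (proj K N M).ker = nsub K N M := by
    ext x
    rw [MonoidHom.mem_ker, c.proj_eq_one]
    rfl
  rw [he, Agent.Core.card_subgroupOf (H := N.subgroupOf M) (fun x hx => c.hNK hx),
    Agent.Core.card_subgroupOf (c.hNK.trans c.hKM)]

theorem big_quot : p ^ 2 ≤ Nat.card (Qt K N M) :=
  Nat.le_of_mul_le_mul_right (c.hbig.trans c.card_quot.ge) Nat.card_pos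

theorem five_le : 5 ≤ p := by have := c.he3; have := c.hep; omega

theorem xi_one (f : Lin K N M) : xi K N M f 1 = e := by
  rw [xi, Chars.indFun_apply_one, c.index_eq]; simp

theorem xi_off (f : Lin K N M) {a : M} (ha : (a : G) ∉ K) : xi K N M f a = 0 := by
  haveI := c.normal_sub
  exact Chars.indFun_of_not_mem_normal _ _ fun h => ha (Subgroup.mem_subgroupOf.mp h)

theorem xi_char (f : Lin K N M) : IsCharacter M (xi K N M f) :=
  Chars.isCharacter_indFun _ (Chars.isCharacter_hom (f.comp (proj K N M)))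

/-- On `N` the induced characters are constant. -/
theorem xi_derived (f : Lin K N M) {a : M} (ha : (a : G) ∈ N) : xi K N M f a = e := by
  haveI := c.normal_sub
  have haK : a ∈ K.subgroupOf M := Subgroup.mem_subgroupOf.mpr (c.hNK ha)
  rw [xi, show a = ((⟨a, haK⟩ : ↥(K.subgroupOf M)) : M) from rfl, Chars.indFun_coe_normal]
  have h1 : ∀ x : M, f (proj K N M ⟨x⁻¹ * a * x, c.normal_sub.conj_mem' a haK x⟩) = 1 := fun x => by
    rw [c.proj_eq_one.mpr, map_one]
    simpa using (Subgroup.mem_normalizer_iff.mp (inv_mem (c.hNn x.2)) _).mp ha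
  simp only [h1, Units.val_one, Finset.sum_const, Finset.card_univ, nsmul_eq_mul, mul_one,
    ← Nat.card_eq_fintype_card, Agent.Core.card_subgroupOf c.hKM, ← c.hindex]
  push_cast
  field_simp

/-- The sum over all linear characters. -/
theorem sum_xi {a : M} (haK : (a : G) ∈ K) :
    ∑ f : Lin K N M, xi K N M f a =
      if (a : G) ∈ N then (Nat.card (Qt K N M) : ℂ) * e else 0 := by
  haveI := c.normal_sub
  have hm : a ∈ K.subgroupOf M := Subgroup.mem_subgroupOf.mpr haK
  simp only [xi]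
  rw [Finset.sum_congr rfl fun f _ => Chars.indFun_coe_normal (K.subgroupOf M)
    (fun x => (f (proj K N M x) : ℂ)) (⟨a, hm⟩ : ↥(K.subgroupOf M))]
  rw [← Finset.mul_sum, Finset.sum_comm]
  simp only [sum_lin, c.proj_eq_one]
  have hiff : ∀ x : M, ((x⁻¹ * a * x : M) : G) ∈ N ↔ (a : G) ∈ N := fun x => by
    simpa using (Subgroup.mem_normalizer_iff.mp (inv_mem (c.hNn x.2)) (a : G)).symm
  simp only [hiff]
  split_ifs with h
  · rw [Finset.sum_const, Finset.card_univ, nsmul_eq_mul, ← Nat.card_eq_fintype_card,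
      Agent.Core.card_subgroupOf c.hKM, ← c.hindex]
    push_cast
    field_simp
  · simp

/-- A nontrivial linear character of the kernel induces irreducibly. -/
theorem xi_irr {f : Lin K N M} (hf : f ≠ 1) : IsIrrCharacter M (xi K N M f) := by
  haveI := c.normal_sub
  set θ : ↥(K.subgroupOf M) → ℂ := fun x => (f (proj K N M x) : ℂ) with hθdef
  have hθ : IsIrrCharacter _ θ := Chars.isIrrCharacter_hom (f.comp (proj K N M))
  have hc := c.xi_char f
  refine Chars.isIrrCharacter_of_norm_one hc ?_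
  show classInner (indFun (K.subgroupOf M) θ) (indFun (K.subgroupOf M) θ) = 1
  rw [Chars.classInner_indFun _ θ (χ := indFun (K.subgroupOf M) θ) (Chars.isClassFunction_of_isCharacter hc)]
  rw [show (fun k : ↥(K.subgroupOf M) => indFun (K.subgroupOf M) θ k) = _ from res_indFun_orbit θ]
  have hcard : Nat.card {g : M // cj θ g = θ} = Nat.card ↥(K.subgroupOf M) := by
    refine Nat.card_congr (Equiv.subtypeEquivRight fun g => ⟨fun h => ?_,
      fun h => cj_of_mem (Chars.isClassFunction_of_isCharacter (Chars.isCharacter_of_isIrr hθ)) h⟩)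
    by_contra hg
    -- the commutation map is bijective on `K / N`
    let cg : ↥(K.subgroupOf M) →* ↥(K.subgroupOf M) :=
      { toFun := fun x => ⟨g * x * g⁻¹, c.normal_sub.conj_mem (x : M) x.2 g⟩
        map_one' := Subtype.ext (by simp)
        map_mul' := fun x y => Subtype.ext (by simp [mul_assoc]) }
    let α : ↥(K.subgroupOf M) →* Qt K N M := ((proj K N M).comp cg) / proj K N M
    have hα : ∀ x, α x = proj K N M (cg x * x⁻¹) := fun x => by
      rw [map_mul, map_inv, ← div_eq_mul_inv]; rfl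
    haveI : Finite (Abelianization ↥(K.subgroupOf M)) := Finite.of_surjective _ QuotientGroup.mk_surjective
    haveI : Finite (Qt K N M) := Finite.of_surjective _ QuotientGroup.mk_surjective
    have hker : α.ker = (proj K N M).ker := by
      ext x
      rw [MonoidHom.mem_ker, MonoidHom.mem_ker, hα, c.proj_eq_one, c.proj_eq_one]
      constructor
      · intro h1
        exact c.hfpf (g : G) g.2 (fun hgK => hg (Subgroup.mem_subgroupOf.mpr hgK)) _
          (Subgroup.mem_subgroupOf.mp x.2) (by simpa [cg] using h1)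
      · intro hx
        have hgx : (g : G) * ((x : M) : G) * (g : G)⁻¹ ∈ N := (Subgroup.mem_normalizer_iff.mp (c.hNn g.2) _).mp hx
        simpa [cg] using N.mul_mem hgx (N.inv_mem hx)
    have hsurj : Function.Surjective α := MonoidHom.range_eq_top.mp (Subgroup.eq_top_of_card_eq _ (by
      rw [← Subgroup.index_ker, hker, Subgroup.index_ker,
        (proj K N M).range_eq_top.mpr (proj_surjective K N M), Nat.card_congr Subgroup.topEquiv.toEquiv]))
    refine hf (MonoidHom.ext fun q => ?_)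
    obtain ⟨x, hx⟩ := hsurj q
    rw [hα] at hx
    have h2 := congrArg f hx
    rw [map_mul, map_mul, map_inv, map_inv] at h2
    rw [← h2, MonoidHom.one_apply, mul_inv_eq_one]
    exact Units.ext (congrFun h x)
  rw [hcard, div_self (Chars.subgroup_card_ne_zero _), one_smul, Chars.classInner_sum_right,
    Finset.sum_eq_single_of_mem θ (Finset.mem_image.mpr ⟨1, Finset.mem_univ _, cj_one θ⟩)
      (fun ψ hψ hψne => ?_), Chars.classInner_self_irr hθ]
  obtain ⟨g, -, rfl⟩ := Finset.mem_image.mp hψ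
  exact Chars.classInner_irr_of_ne hθ (isIrr_cj hθ g) (Ne.symm hψne)

/-- There are at least two distinct induced characters. -/
theorem exists_xi_ne (f : Lin K N M) : ∃ g : Lin K N M, g ≠ 1 ∧ xi K N M g ≠ xi K N M f := by
  by_contra hall
  push Not at hall
  have hzM : z ∈ M := c.hKM c.hzK
  have hsum := c.sum_xi (a := ⟨z, hzM⟩) c.hzK
  rw [if_neg c.hz', ← Finset.add_sum_erase _ _ (Finset.mem_univ (1 : Lin K N M)),
    Finset.sum_congr rfl fun g hg => congrFun (hall g (Finset.ne_of_mem_erase hg)) ⟨z, hzM⟩,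
    Finset.sum_const, Finset.card_erase_of_mem (Finset.mem_univ _), Finset.card_univ] at hsum
  have h1 : xi K N M 1 ⟨z, hzM⟩ = e := by
    haveI := c.normal_sub
    rw [xi, show (⟨z, hzM⟩ : M) = ((⟨⟨z, hzM⟩, Subgroup.mem_subgroupOf.mpr c.hzK⟩ : ↥(K.subgroupOf M)) : M) from rfl,
      Chars.indFun_coe_normal]
    simp only [MonoidHom.one_apply, Units.val_one, Finset.sum_const, Finset.card_univ, nsmul_eq_mul, mul_one,
      ← Nat.card_eq_fintype_card, Agent.Core.card_subgroupOf c.hKM, ← c.hindex]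
    push_cast
    field_simp
  rw [h1, nsmul_eq_mul] at hsum
  set n₀ := Fintype.card (Lin K N M) - 1 with hN
  have hint := Chars.isIntegral_of_isCharacter (c.xi_char f) ⟨z, hzM⟩
  have hcard : Fintype.card (Lin K N M) = Nat.card (Qt K N M) := by
    have h := sum_lin (K := K) (N := N) (M := M) 1
    rw [if_pos rfl] at h
    simpa using h
  have hNe : e < n₀ := by
    have := c.big_quot
    have := c.hep
    have := c.five_le
    have h2 : 5 * p ≤ p ^ 2 := by rw [sq]; exact Nat.mul_le_mul_right p c.five_le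
    omega
  have hmul : (n₀ : ℂ) * xi K N M f ⟨z, hzM⟩ = ((-(e : ℤ) : ℤ) : ℂ) := by push_cast; linear_combination hsum
  obtain ⟨j, hj⟩ := exists_int_of_mul_eq hint (by omega) hmul
  rw [hj] at hmul
  have h3 : (n₀ : ℤ) * j = -(e : ℤ) := by exact_mod_cast hmul
  have h4 : (n₀ : ℤ) ∣ (e : ℤ) := ⟨-j, by linarith⟩
  have h5 := Nat.le_of_dvd (by have := c.he3; omega) (Int.natCast_dvd_natCast.mp h4)
  omega

/-- The family of characters of `G` and their common rational part. -/
theorem exists_family : ∃ (X : Lin K N M → G → ℂ) (Φ : G → ℂ),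
    (∀ f : Lin K N M, f ≠ 1 → IsGeneralizedCharacter G (X f) ∧ classInner (X f) (X f) = 1 ∧ X f 1 ≠ 0 ∧
      ∀ g : G, X f g = Φ g + dadeIsometry ((K : Set G) \ {1}) M (supportR M) (xi K N M f) g) ∧
      IsClassFunction G Φ ∧ ∀ g : G, ∃ j : ℤ, Φ g = j := by
  set AM : Set G := (K : Set G) \ {1} with hAM
  set τ := dadeIsometry AM M (supportR M) with hτdef
  have hD : DadeHypothesis AM M (supportR M) := c.dM
  set S : Set (M → ℂ) := {φ | ∃ f : Lin K N M, f ≠ 1 ∧ φ = xi K N M f} with hS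
  have hirr : ∀ φ ∈ S, IsIrrCharacter M φ := by rintro φ ⟨f, hf, rfl⟩; exact c.xi_irr hf
  have hdeg : ∀ φ ∈ S, ∀ ψ ∈ S, φ 1 = ψ 1 := by
    rintro φ ⟨f, -, rfl⟩ ψ ⟨g, -, rfl⟩; rw [c.xi_one, c.xi_one]
  have hgen : ∀ α ∈ zspan S, IsGeneralizedCharacter M α := fun α hα =>
    virt_of_mem_zspan (fun φ hφ => virt_of_irr (hirr φ hφ)) hα
  have hoff : ∀ α ∈ zspan S, ∀ x : M, (x : G) ∉ K → α x = 0 := fun α hα => by
    refine Submodule.span_induction (p := fun a _ => ∀ x : M, (x : G) ∉ K → a x = 0) ?_ ?_ ?_ ?_ hα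
    · rintro φ ⟨f, -, rfl⟩ x hx; exact c.xi_off f hx
    · intro x _; rfl
    · intro a b _ _ ha hb x hx; simp [ha x hx, hb x hx]
    · intro n a _ ha x hx; simp [ha x hx]
  have hsupp : ∀ α ∈ zspanOn S {1}ᶜ, ∀ x : M, (x : G) ∉ AM → α x = 0 := by
    intro α hα x hx
    obtain ⟨h1, h2⟩ := mem_zspanOn_one.mp hα
    by_cases hxK : (x : G) ∈ K
    · have hx1 : x = 1 := by
        by_contra hx1
        exact hx ⟨hxK, fun e1 => hx1 (Subtype.ext e1)⟩
      rw [hx1]; exact h2
    · exact hoff α h1 x hxK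
  have hone : (1 : G) ∉ dadeSupport AM (supportR M) := by
    rintro ⟨a, ha, u, hu, y, hy⟩
    have h1 : a * u = 1 := by rw [← hy]; group
    have hai : a⁻¹ ∈ supportR M a := by rw [inv_eq_of_mul_eq_one_right h1]; exact hu
    have hm : a ∈ supportR M a ⊓ (M ⊓ Subgroup.centralizer ({a} : Set G)) :=
      ⟨(supportR M a).inv_mem_iff.mp hai, dade_self_mem hD ha⟩
    rw [hD.inf_eq_bot a ha, Subgroup.mem_bot] at hm
    exact hD.one_not_mem (hm ▸ ha)
  have hτ : IsLinearIsometryOn (zspanOn S {1}ᶜ) τ := by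
    refine ⟨fun α _ β _ => ?_, fun α _ n => ?_, fun α hα β hβ => ?_, fun α hα => ?_⟩
    · funext g; simp only [hτdef, dadeIsometry, Pi.add_apply]; split_ifs <;> simp
    · funext g; simp only [hτdef, dadeIsometry, Pi.smul_apply]; split_ifs <;> simp
    · exact (Cfsg.Agent.S1500.result _ M _ hD α (virt_isClassFunction (hgen α hα.1)) (hsupp α hα)).1 β
        (virt_isClassFunction (hgen β hβ.1)) (hsupp β hβ)
    · exact Cfsg.Agent.S1501.result _ M _ hD α (hgen α hα.1) (hsupp α hα)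
  have hτ1 : ∀ α ∈ zspanOn S {1}ᶜ, τ α 1 = 0 := fun α _ => dade_apply_of_notMem α hone
  obtain ⟨f₀, hf₀, -⟩ := c.exists_xi_ne 1
  have htwo : ∃ x ∈ S, ∃ y ∈ S, x ≠ y := by
    obtain ⟨g, hg, hne⟩ := c.exists_xi_ne f₀
    exact ⟨_, ⟨g, hg, rfl⟩, _, ⟨f₀, hf₀, rfl⟩, hne⟩
  obtain ⟨-, τ₁, hτ₁, hagree⟩ := coherent_irr_equal_degree S hirr htwo hdeg τ hτ hτ1
  set X : Lin K N M → G → ℂ := fun f => τ₁ (xi K N M f) with hX
  have hmem : ∀ f : Lin K N M, f ≠ 1 → xi K N M f ∈ zspan S := fun f hf => Submodule.subset_span ⟨f, hf, rfl⟩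
  have hinner : ∀ f g : Lin K N M, f ≠ 1 → g ≠ 1 → classInner (X f) (X g) = classInner (xi K N M f) (xi K N M g) :=
    fun f g hf hg => hτ₁.2.2.1 _ (hmem f hf) _ (hmem g hg)
  have hvirt : ∀ f : Lin K N M, f ≠ 1 → IsGeneralizedCharacter G (X f) := fun f hf => hτ₁.2.2.2 _ (hmem f hf)
  have hn1 : ∀ f : Lin K N M, f ≠ 1 → classInner (X f) (X f) = 1 := fun f hf => by
    rw [hinner f f hf hf, Chars.classInner_self_irr (c.xi_irr hf)]
  have hsigned : ∀ f : Lin K N M, f ≠ 1 → IsIrrCharacter G (X f) ∨ IsIrrCharacter G (-X f) := fun f hf =>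
    virt_norm_one (hvirt f hf) (hn1 f hf)
  have hτlin : ∀ (α β : M → ℂ) (g : G), τ (α - β) g = τ α g - τ β g := fun α β g => by
    simp only [hτdef, dadeIsometry, Pi.sub_apply]; split_ifs <;> simp
  have hdiff : ∀ f g : Lin K N M, f ≠ 1 → g ≠ 1 → ∀ x : G,
      X f x - X g x = τ (xi K N M f) x - τ (xi K N M g) x := fun f g hf hg x => by
    have hd : xi K N M f - xi K N M g ∈ zspanOn S {1}ᶜ := mem_zspanOn_one.mpr
      ⟨zspan_sub_mem (hmem f hf) (hmem g hg), by simp [c.xi_one]⟩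
    have h := congrFun (hagree _ hd) x
    rw [iso_map_sub hτ₁ (zspan_sub_mem (hmem f hf) (hmem g hg)) (hmem g hg), hτlin] at h
    exact h
  set Φ : G → ℂ := fun x => X f₀ x - τ (xi K N M f₀) x with hΦ
  have hXΦ : ∀ f : Lin K N M, f ≠ 1 → ∀ g : G, X f g = Φ g + τ (xi K N M f) g := fun f hf g => by
    rw [hΦ]; linear_combination hdiff f f₀ hf hf₀ g
  have hdeg1 : ∀ f : Lin K N M, f ≠ 1 → X f 1 = X f₀ 1 := fun f hf => by
    have := hdiff f f₀ hf hf₀ 1
    simp only [hτdef, dade_apply_of_notMem _ hone, sub_self, sub_eq_zero] at this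
    exact this
  refine ⟨X, Φ, fun f hf => ⟨hvirt f hf, hn1 f hf, signed_one_ne (hsigned f hf), hXΦ f hf⟩, ?_, fun g => ?_⟩
  · intro g h
    have h2 : τ (xi K N M f₀) (h * g * h⁻¹) = τ (xi K N M f₀) g :=
      dade_isClassFunction hD (Chars.isClassFunction_of_isCharacter (c.xi_char f₀)) g h
    simp only [hΦ, virt_isClassFunction (hvirt f₀ hf₀) g h, h2]
  -- `Φ` is fixed by all automorphisms
  refine Chars.exists_int_of_fixed ?_ fun σ => ?_
  · refine (virt_isIntegral (hvirt f₀ hf₀) g).sub ?_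
    simp only [hτdef, dadeIsometry]
    split_ifs
    · exact Chars.isIntegral_of_isCharacter (c.xi_char f₀) _
    · exact isIntegral_zero
  obtain ⟨k, hk, hσ⟩ := exists_aut_sub (G := G) σ
  set pw : Lin K N M → Lin K N M := fun f => f ^ k with hpw
  have hpow : ∀ f : Lin K N M, (fun a => σ (xi K N M f a)) = xi K N M (pw f) := fun f => by
    funext a
    simp only [xi, Chars.indFun_apply, map_mul, map_inv₀, map_natCast, map_sum]
    congr 1
    refine Finset.sum_congr rfl fun x _ => ?_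
    by_cases hx : x⁻¹ * a * x ∈ K.subgroupOf M
    · rw [Chars.extendByZero_of_mem _ _ hx, Chars.extendByZero_of_mem _ _ hx, hσ]
      · simp [hpw]
      · rw [← Units.val_pow_eq_pow_val, ← map_pow, ← map_pow,
          show (⟨x⁻¹ * a * x, hx⟩ : ↥(K.subgroupOf M)) ^ Nat.card G = 1 from
            Subtype.ext (Subtype.ext (by simp [pow_card_eq_one'])), map_one, map_one, Units.val_one]
    · rw [Chars.extendByZero_of_not_mem _ _ hx, Chars.extendByZero_of_not_mem _ _ hx, map_zero]
  have hpw1 : ∀ f : Lin K N M, f ≠ 1 → pw f ≠ 1 := fun f hf he1 => hf (MonoidHom.ext fun q => by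
    obtain ⟨x, rfl⟩ := proj_surjective K N M q
    have h1 : f (proj K N M x) ^ k = 1 := DFunLike.congr_fun he1 _
    have h2 : f (proj K N M x) ^ Nat.card G = 1 := by
      rw [← map_pow, ← map_pow, show x ^ Nat.card G = 1 from Subtype.ext (Subtype.ext (by simp [pow_card_eq_one'])), map_one, map_one]
    have h3 := orderOf_dvd_of_pow_eq_one h1
    have h4 := orderOf_dvd_of_pow_eq_one h2
    exact orderOf_eq_one_iff.mp (Nat.eq_one_of_dvd_coprimes hk h3 h4))
  have hτσ : ∀ (f : Lin K N M) (x : G), σ (τ (xi K N M f) x) = τ (xi K N M (pw f)) x := fun f x => by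
    rw [← hpow f]
    simp only [hτdef, dadeIsometry]
    split_ifs <;> simp
  have hXσ : (fun x => σ (X f₀ x)) = X (pw f₀) := by
    obtain ⟨g₁, hg₁, hne⟩ := c.exists_xi_ne f₀
    set a : G → ℂ := fun x => σ (X f₀ x) with ha
    set b : G → ℂ := fun x => σ (X g₁ x) with hb
    have hsig : ∀ f : Lin K N M, f ≠ 1 →
        IsIrrCharacter G (fun x => σ (X f x)) ∨ IsIrrCharacter G (-fun x => σ (X f x)) := fun f hf => by
      rcases hsigned f hf with h | h
      · exact Or.inl (isIrrCharacter_map σ h)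
      · refine Or.inr ?_
        rw [show (-fun x => σ (X f x)) = fun x => σ ((-X f) x) from funext fun x => (map_neg σ _).symm]
        exact isIrrCharacter_map σ h
    have hσ1 : ∀ f : Lin K N M, f ≠ 1 → σ (X f 1) = X f₀ 1 := fun f hf => by
      rw [hdeg1 f hf]
      obtain ⟨j, hj⟩ := virt_apply_one (hvirt f₀ hf₀)
      rw [hj, map_intCast]
    have hab : a ≠ b := fun e1 => by
      have e2 : X f₀ = X g₁ := funext fun x => σ.injective (congrFun e1 x)
      have h2 := hinner f₀ g₁ hf₀ hg₁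
      rw [← e2, hn1 f₀ hf₀, Chars.classInner_irr_of_ne (c.xi_irr hf₀) (c.xi_irr hg₁) (Ne.symm hne)] at h2
      exact one_ne_zero h2
    have hrel : a - b = X (pw f₀) - X (pw g₁) := funext fun x => by
      simp only [Pi.sub_apply, ha, hb]
      rw [← map_sub, hdiff f₀ g₁ hf₀ hg₁ x, map_sub, hτσ, hτσ, hdiff _ _ (hpw1 _ hf₀) (hpw1 _ hg₁) x]
    have h1 : classInner a (a - b) = classInner a (X (pw f₀) - X (pw g₁)) := by rw [hrel]
    rw [Chars.classInner_sub_right, Chars.classInner_sub_right,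
      signed_inner (hsig f₀ hf₀) (hsig f₀ hf₀) rfl,
      signed_inner (hsig f₀ hf₀) (hsig g₁ hg₁) (by rw [hσ1 f₀ hf₀, hσ1 g₁ hg₁]),
      signed_inner (hsig f₀ hf₀) (hsigned _ (hpw1 _ hf₀)) (by rw [hσ1 f₀ hf₀, hdeg1 _ (hpw1 _ hf₀)]),
      signed_inner (hsig f₀ hf₀) (hsigned _ (hpw1 _ hg₁)) (by rw [hσ1 f₀ hf₀, hdeg1 _ (hpw1 _ hg₁)]),
      if_pos rfl, if_neg hab] at h1
    by_contra hne'
    rw [if_neg hne'] at h1
    split_ifs at h1 <;> norm_num at h1
  have h1 : σ (X f₀ g) = X (pw f₀) g := congrFun hXσ g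
  simp only [hΦ, map_sub, h1, hτσ]
  linear_combination hdiff (pw f₀) f₀ (hpw1 f₀ hf₀) hf₀ g

end Cfg

end Cfsg.Agent.OddChar.Frob
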