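import Cfsg.Agent.OddChar.Frob.CharContra
import Cfsg.Agent.OddChar.Support.DadeTools
import Cfsg.Agent.OddLocal.Sigma.TypeVMoved
import Cfsg.Agent.OddLocal.Sigma.SupplementH
import Cfsg.Agent.OddLocal.Sigma.Cover

/-! If every maximal subgroup has empty `κ`, then every `τ₂` is empty (Peterfalvi 12.17 in this case). -/

set_option autoImplicit false
set_option linter.style.haveILetI false
set_option linter.unusedSectionVars false

namespace Cfsg.Agent.OddChar.Frob

open Cfsg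
open Cfsg.Agent.OddLocal
open Cfsg.Agent.OddLocal.Sigma (IsSupport Exc)
open scoped commutatorElement

universe u

variable {G : Type u} [Group G] [Finite G]

/-- A subgroup of a nilpotent group covering the abelianization is everything. -/
theorem le_of_sup_derived {C K : Subgroup G} (hn : Group.IsNilpotent K) (hCK : C ≤ K) (h : K ≤ C ⊔ ⁅K, K⁆) :
    K ≤ C := by
  haveI := hn
  have htop : C.subgroupOf K ⊔ commutator K = ⊤ := by
    refine Subgroup.map_injective K.subtype_injective ?_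
    rw [Subgroup.map_sup, Subgroup.map_subgroupOf_eq_of_le hCK, K.map_subtype_commutator,
      ← MonoidHom.range_eq_map, Subgroup.range_subtype]
    exact le_antisymm (sup_le hCK (Subgroup.commutator_le.mpr fun a ha b hb =>
      mul_mem (mul_mem (mul_mem ha hb) (inv_mem ha)) (inv_mem hb))) h
  by_contra hne
  obtain ⟨M, hM, hle⟩ := (IsCoatomic.eq_top_or_exists_le_coatom (C.subgroupOf K)).resolve_left
    fun e => hne (Subgroup.subgroupOf_eq_top.mp e)
  have hN : M.Normal := Subgroup.NormalizerCondition.normal_of_coatom M Group.normalizerCondition_of_isNilpotent hM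
  obtain ⟨g, -, hg⟩ := SetLike.exists_of_lt (lt_top_iff_ne_top.2 hM.1)
  have htop' : M ⊔ Subgroup.zpowers g = ⊤ :=
    hM.2 _ (left_lt_sup.2 fun hle' => hg (hle' (Subgroup.mem_zpowers g)))
  exact hM.1 (top_le_iff.mp (htop ▸ sup_le hle (hN.commutator_le_of_self_sup_commutative_eq_top htop' inferInstance)))

variable (hG : IsMinSimpleOddOrder G)
include hG

theorem sigmaCore_nilpotent {M : Subgroup G} (hM : IsCoatom M) (hκ : kappa M = ∅) :
    ∃ X : Subgroup G, IsComplIn X (sigmaCore M) M ∧ X ≠ ⊥ ∧ Group.IsNilpotent (sigmaCore M) := by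
  obtain ⟨X, hX, -⟩ := Sigma.exists_compl_ge hG hM (bot_le : (⊥ : Subgroup G) ≤ M) (fun q hq hd => by
    rw [Subgroup.card_bot] at hd; exact absurd hd hq.not_dvd_one)
  have hX1 : X ≠ ⊥ := fun e => by
    refine ((Sigma.derived_lt hG (Support.plen hG) hM).not_ge ?_)
    intro m hm
    obtain ⟨a, ha, b, hb, rfl⟩ := hX.2.2.2 m hm
    rw [e, Subgroup.mem_bot] at ha
    rw [ha, one_mul]
    exact Sigma.sigmaCore_le_derived hG hM hb
  have hd : IsSigmaDecomposition M ⊥ X := ⟨inferInstance, ⟨bot_le, fun t ht hdt => by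
      rw [Subgroup.card_bot] at hdt; exact absurd hdt ht.not_dvd_one,
      fun t _ ht => absurd ht (by rw [hκ]; exact id)⟩, by rw [bot_sup_eq]; exact hX, bot_le⟩
  exact ⟨X, hX, hX1, Sigma.isNilpotent_sigmaCore_of_ne_bot hG (Support.plen hG) hM hd hX1⟩

/-- With `κ(M) = τ₂(M) = ∅` the `σ(M)'`-elements act freely on `M_σ`. -/
theorem regular {M : Subgroup G} (hM : IsCoatom M) (hκ : kappa M = ∅) (hτ : tau2 M = ∅) {x : G} (hx : x ∈ M)
    (hx1 : x ≠ 1) (hσ : ∀ q : ℕ, q.Prime → q ∣ orderOf x → q ∉ sigma M) :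
    sigmaCore M ⊓ Subgroup.centralizer ({x} : Set G) = ⊥ := by
  refine Sigma.regular_of_kappa_empty hG (Support.plen hG) hM hκ hx hx1 fun q hq hd => ?_
  rcases Sigma.mem_classes hG hM hq (hd.trans (Subgroup.orderOf_dvd_natCard _ hx)) with h | h | h | h
  · exact absurd h (hσ q hq hd)
  · exact Or.inl h
  · rw [hτ] at h; exact absurd h id
  · exact Or.inr h

/-- The configuration of Peterfalvi 12.8-12.17. -/
theorem moved_false {L M : Subgroup G} (hκL : kappa L = ∅) {p : ℕ} [hp : Fact p.Prime]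
    {A A0 : Subgroup G} (hA : Exc L p A A0) (hpτ : p ∈ tau2 L) (hM : IsCoatom M) (hκ : kappa M = ∅)
    (hτ : tau2 M = ∅) {z : G} (hzA : z ∈ A) (hz1 : z ≠ 1) (hAσ : A ≤ sigmaCore M) (hS : IsSupport M L z)
    (hV : ¬ sigmaCore L ⊓ Subgroup.centralizer ({z} : Set G) ≤ ⁅sigmaCore L, sigmaCore L⁆) : False := by
  have hpl := Support.plen hG
  have hL := hA.coatom
  set H := sigmaCore L with hH
  set K := sigmaCore M with hK
  set E := M ⊓ L with hE
  have hKM : K ≤ M := Sigma.sigmaCore_le M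
  have hMK := Sigma.le_normalizer_sigmaCore M
  have hzo : orderOf z = p := orderOf_eq_prime (hA.maxEA.ea.2 z hzA) hz1
  have hzc : Nat.card (Subgroup.zpowers z) = p := by rw [Nat.card_zpowers, hzo]
  have hzK : z ∈ K := hAσ hzA
  have hAM : A ≤ M := hAσ.trans hKM
  have hAE : A ≤ E := le_inf hAM hA.le
  have hAc : IsMulCommutative A := hA.maxEA.ea.1
  have hpσ : p ∈ sigma M := Sigma.mem_sigma_of_dvd hp.out (hzo ▸ Subgroup.orderOf_dvd_natCard _ hzK)
  have hp2 : p ≠ 2 := Sigma.ne_two_of_dvd hG (Sigma.sigma_dvd hpσ)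
  obtain ⟨X, hX, hX1, hn⟩ := sigmaCore_nilpotent hG hM hκ
  have hXσ : ∀ q : ℕ, q.Prime → q ∣ Nat.card X → q ∉ sigma M := fun q hq hd =>
    Sigma.complIn_notMem_sigma hG hM hX hq hd
  have hfree : ∀ x ∈ X, x ≠ 1 → K ⊓ Subgroup.centralizer ({x} : Set G) = ⊥ := fun x hx hx1 =>
    regular hG hM hκ hτ (hX.1 hx) hx1 fun q hq hd => hXσ q hq (hd.trans (Subgroup.orderOf_dvd_natCard _ hx))
  haveI := hn
  -- the Sylow `p`-subgroup
  obtain ⟨T₀, hTσ, hMT⟩ := Sigma.le_normalizer_sylow_of_nilpotent' hG hM hpσ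
  have hAT : A ≤ (T₀ : Subgroup G) :=
    Sigma.le_sylow_of_le_normalizer hA.maxEA.isPGroup T₀ (hAM.trans hMT)
  set T := (T₀ : Subgroup G) with hTdef
  have hTp : IsPGroup p T := T₀.isPGroup'
  have hsmall := hA.oddAutSmall hG hpl T₀ hAT
  -- the part of `K` in `L`
  set C := K ⊓ L with hC
  have hCE : C ≤ E := le_inf (inf_le_left.trans hKM) inf_le_right
  haveI : Group.IsNilpotent C := Core.isNilpotent_of_le (inf_le_left : C ≤ K) hn
  have hCc : IsMulCommutative C := Sigma.isMulCommutative_of_nilpotent_le hG hpl hL (inf_le_right : C ≤ L)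
    fun q hq hd => Sigma.complIn_notMem_sigma hG hL hS.compl hq (hd.trans (Subgroup.card_dvd_of_le hCE))
  have hKTC : K ≤ T ⊔ C := Core.le_of_forall_exists_sylow_le fun t ht => by
    haveI := Fact.mk ht
    obtain ⟨R⟩ := (inferInstance : Nonempty (Sylow t K))
    refine ⟨R, ?_⟩
    have hRK : (R : Subgroup K).map K.subtype ≤ K := Subgroup.map_subtype_le _
    by_cases htp : t = p
    · subst htp
      exact (Sigma.le_sylow_of_le_normalizer (R.isPGroup'.map _) T₀ ((hRK.trans hKM).trans hMT)).trans le_sup_left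
    · refine le_sup_of_le_right (le_inf hRK (le_trans (fun a ha => ?_) hS.le))
      refine Subgroup.mem_centralizer_singleton_iff.mpr (Sigma.commute_of_mem_nilpotent hn (hRK ha) hzK ?_).eq
      obtain ⟨k, hk⟩ := IsPGroup.iff_card.mp (R.isPGroup'.map K.subtype)
      refine Nat.Coprime.coprime_dvd_left (hk ▸ Subgroup.orderOf_dvd_natCard _ ha) ?_
      rw [hzo]
      exact ((Nat.coprime_primes ht hp.out).mpr htp).pow_left k
  have hTK : T ≤ K := hTσ
  have hKeq : T ⊔ C = K := le_antisymm (sup_le hTK inf_le_left) hKTC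
  have hK'K : ⁅K, K⁆ ≤ K := Coprime.commutator_le_of_le_normalizer Subgroup.le_normalizer
  have hK'T : ⁅K, K⁆ ≤ T := by
    refine Subgroup.commutator_le.mpr ?_
    have hCT : C ≤ Subgroup.normalizer (T : Set G) := (hCE.trans inf_le_left).trans hMT
    intro a ha b hb
    obtain ⟨t, ht, c, hc, rfl⟩ := Coprime.exists_mul_of_mem_sup hCT (hKTC ha)
    obtain ⟨t', ht', c', hc', rfl⟩ := Coprime.exists_mul_of_mem_sup hCT (hKTC hb)
    have hcc : c * c' = c' * c := congrArg Subtype.val (hCc.is_comm.comm ⟨c, hc⟩ ⟨c', hc'⟩)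
    have hcomm : ∀ g ∈ C, ∀ s ∈ T, g * s * g⁻¹ ∈ T := fun g hg s hs =>
      (Subgroup.mem_normalizer_iff.mp (hCT hg) s).mp hs
    have hcc' : c' * c⁻¹ = c⁻¹ * c' := by
      rw [eq_inv_mul_iff_mul_eq, ← mul_assoc, hcc, mul_inv_cancel_right]
    have e : ⁅t * c, t' * c'⁆ = t * (c * t' * c⁻¹) * (c' * t⁻¹ * c'⁻¹) * t'⁻¹ := by
      calc ⁅t * c, t' * c'⁆ = t * c * t' * (c' * c⁻¹) * t⁻¹ * c'⁻¹ * t'⁻¹ := by
            simp only [commutatorElement_def]; group
        _ = t * (c * t' * c⁻¹) * (c' * t⁻¹ * c'⁻¹) * t'⁻¹ := by rw [hcc']; group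
    rw [e]
    exact T.mul_mem (T.mul_mem (T.mul_mem ht (hcomm c hc t' ht')) (hcomm c' hc' _ (T.inv_mem ht))) (T.inv_mem ht')
  -- elements of `K'` are not moved
  have hC' : ∀ w ∈ ⁅K, K⁆, w ≠ 1 → Subgroup.centralizer ({w} : Set G) ≤ M := by
    intro w hw hw1
    have hwp : ∃ n, orderOf w = p ^ n := by
      obtain ⟨n, hn'⟩ := IsPGroup.iff_orderOf.mp hTp ⟨w, hK'T hw⟩
      exact ⟨n, by rw [← hn', Subgroup.orderOf_mk]⟩
    obtain ⟨n, hn'⟩ := hwp
    have hn0 : n ≠ 0 := fun e => hw1 (orderOf_eq_one_iff.mp (by rw [hn', e, pow_zero]))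
    set w1 := w ^ (orderOf w / p)
    have hw1o : orderOf w1 = p :=
      orderOf_pow_orderOf_div (orderOf_pos w).ne' (hn' ▸ dvd_pow_self p hn0)
    have h := (Sigma.sigma_order_p hG hpl hM hpσ
      (Subgroup.zpowers_le.mpr (hKM (hK'K (pow_mem hw _))) : Subgroup.zpowers w1 ≤ M)
      (by rw [Nat.card_zpowers, hw1o]) (Or.inr (Subgroup.zpowers_le.mpr (pow_mem hw _)))).1.1
    refine le_trans (fun c hc => ?_) h
    rw [← Sigma.centralizer_singleton_eq (a := w1) rfl]
    exact Subgroup.mem_centralizer_singleton_iff.mpr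
      ((show Commute c w from Subgroup.mem_centralizer_singleton_iff.mp hc).pow_right _).eq
  have hz' : z ∉ ⁅K, K⁆ := fun h => hS.notLe (hC' z h hz1)
  -- `N(⟨z⟩) ≤ L`
  have hNz : ∀ g : G, g ∈ Subgroup.normalizer (Subgroup.zpowers z : Set G) → g ∈ L := by
    intro g hg
    refine Sigma.mem_of_cj_eq hG hL (hS.only _ (Sigma.isCoatom_cj hL g) ?_)
    rw [Sigma.centralizer_singleton_eq (a := z) rfl, ← Sigma.cj_eq_iff.mpr hg, ← Sigma.cj_centralizer]
    refine Sigma.cj_mono ?_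
    rw [← Sigma.centralizer_singleton_eq (a := z) rfl]
    exact hS.le
  -- `M ⊓ L ≤ K`
  have hEN : E ≤ Subgroup.normalizer (A : Set G) := hA.le_normalizer_of_compl hG hpl hS.compl hAE
  have hCA : H ⊓ Subgroup.centralizer (A : Set G) = ⊥ := hA.inf_centralizer_eq_bot hG hpl
  have hEK : E ≤ K := by
    refine Sigma.le_sigmaCore hG hM inf_le_left fun r hr hd => by_contra fun hrσ => ?_
    haveI := Fact.mk hr
    obtain ⟨x', hx'⟩ := exists_prime_orderOf_dvd_card' r hd
    set x := (x' : G)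
    have hxo : orderOf x = r := by rw [Subgroup.orderOf_coe, hx']
    have hxE : x ∈ E := x'.2
    have hx1 : x ≠ 1 := fun e => hr.one_lt.ne (by rw [← hxo, e, orderOf_one])
    have hfr := regular hG hM hκ hτ hxE.1 hx1 (fun q hq hq' => by
      rwa [(Nat.prime_dvd_prime_iff_eq hq hr).mp (hxo ▸ hq')])
    have hR : Nat.card (Subgroup.zpowers x) = r := by rw [Nat.card_zpowers, hxo]
    have hRE : Subgroup.zpowers x ≤ E := Subgroup.zpowers_le.mpr hxE
    have hfixA : ∀ e ∈ Subgroup.zpowers x, e ≠ 1 → A ⊓ Subgroup.centralizer ({e} : Set G) = ⊥ := fun e he he1 => by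
      refine le_bot_iff.mp (le_trans (inf_le_inf_right _ hAσ) ?_)
      rw [Sigma.centralizer_singleton_eq (Sigma.zpowers_eq_of_card_prime hR he he1),
        ← Sigma.centralizer_singleton_eq (a := x) rfl]
      exact hfr.le
    have hrL : r ∉ sigma L := Sigma.complIn_notMem_sigma hG hL hS.compl hr hd
    by_cases hne : H ⊓ Subgroup.centralizer ((Subgroup.zpowers x : Subgroup G) : Set G) = ⊥
    · have hrp : r ≠ p := fun e => hrσ (e ▸ hpσ)
      haveI : Group.IsSolvable H :=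
        Core.BG.isSolvable_proper hG fun e => hL.1 (top_le_iff.mp (e.ge.trans (Sigma.sigmaCore_le L)))
      have hAR : A ⊓ Subgroup.zpowers x = ⊥ := Subgroup.inf_eq_bot_of_coprime
        (Sigma.coprime_of_pGroups hrp.symm hA.maxEA.isPGroup (Sigma.isPGroup_of_card_prime hR))
      have hcard := Core.BG.card_eq_inf_centralizer_pow (M := H) (K := A) (R := Subgroup.zpowers x) inferInstance
        hA.maxEA.ne_bot (Sigma.ne_bot_of_card_prime hR) (hRE.trans hEN) hAR hfixA
        ((sup_le hA.le (hRE.trans inf_le_right)).trans (Sigma.le_normalizer_sigmaCore L))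
        (Nat.coprime_of_dvd fun q hq h1 h2 => by
          rw [Coprime.card_sup (hRE.trans hEN) hAR, hR, hA.maxEA.card] at h2
          rcases hq.dvd_mul.mp h2 with h | h
          · exact hA.notMem ((Nat.prime_dvd_prime_iff_eq hq hp.out).mp (hq.dvd_of_dvd_pow h) ▸
              Sigma.mem_sigma_of_dvd hq h1)
          · exact hrL ((Nat.prime_dvd_prime_iff_eq hq hr).mp h ▸ Sigma.mem_sigma_of_dvd hq h1)) hCA
      rw [hne, Subgroup.card_bot, one_pow] at hcard
      exact Sigma.sigmaCore_ne_bot hG hL (Subgroup.eq_bot_of_card_eq _ hcard)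
    · rcases Sigma.fixed_classes hG hpl hL hR (hRE.trans inf_le_right) hrL hne with h | h
      · rw [hκL] at h; exact h
      · have hxA := Sigma.le_centralizer_of_tau2 hG hpl hL hS.compl hpτ ⟨hAE, hA.maxEA.ea, hA.maxEA.card⟩ hRE
          fun q hq hq' => (Nat.prime_dvd_prime_iff_eq hq hr).mp (hR ▸ hq') ▸ h
        have h1 := hfixA x (Subgroup.mem_zpowers x) hx1
        refine hA.maxEA.ne_bot (le_bot_iff.mp (le_trans (le_inf le_rfl fun a ha => ?_) h1.le))
        exact Subgroup.mem_centralizer_singleton_iff.mpr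
          ((Subgroup.mem_centralizer_iff.mp (hxA (Subgroup.mem_zpowers x)) a ha))
  have hEcard : Nat.card E ≤ Nat.card K := Nat.le_of_dvd Nat.card_pos (Subgroup.card_dvd_of_le hEK)
  -- the complement `X`
  have hXN : X ≤ Subgroup.normalizer (K : Set G) := hX.1.trans hMK
  have hindex : Nat.card X * Nat.card K = Nat.card M := IsComplIn.card_mul hX
  have hodd := (hG : IsMinSimpleOddOrder G)
  have he3 : 3 ≤ Nat.card X := by
    have h1 : Nat.card X ≠ 1 := fun e => hX1 (Subgroup.eq_bot_of_card_eq _ e)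
    have h2 := Nat.odd_iff.mp (Sigma.odd_of_dvd hG (Subgroup.card_subgroup_dvd_card X))
    omega
  have hK'n : ∀ g ∈ M, g ∈ Subgroup.normalizer ((⁅K, K⁆ : Subgroup G) : Set G) := fun g hg =>
    Sigma.mem_normalizer_commutator (hMK hg) (hMK hg)
  have hfpf : ∀ g ∈ M, g ∉ K → ∀ x ∈ K, g * x * g⁻¹ * x⁻¹ ∈ ⁅K, K⁆ → x ∈ ⁅K, K⁆ := by
    intro g hg hgK x hx hgx
    obtain ⟨v, hv, k, hk, rfl⟩ := hX.2.2.2 g hg
    have hv1 : v ≠ 1 := fun e => hgK (by rw [e, one_mul]; exact hk)
    have hkx : k * x * k⁻¹ * x⁻¹ ∈ ⁅K, K⁆ := Subgroup.commutator_mem_commutator hk hx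
    have hvx : v * x * v⁻¹ * x⁻¹ ∈ ⁅K, K⁆ := by
      have h1 := (Subgroup.mem_normalizer_iff.mp (hK'n v (hX.1 hv)) _).mp (inv_mem hkx)
      have h2 := mul_mem h1 hgx
      rwa [show v * (k * x * k⁻¹ * x⁻¹)⁻¹ * v⁻¹ * (v * k * x * (v * k)⁻¹ * x⁻¹) = v * x * v⁻¹ * x⁻¹ by group] at h2
    have hfix : ∀ a ∈ K, v * a * v⁻¹ = a → a = 1 := fun a ha h =>
      Subgroup.mem_bot.mp ((hfree v hv hv1).le ⟨ha, Subgroup.mem_centralizer_singleton_iff.mpr
        (mul_inv_eq_iff_eq_mul.mp h).symm⟩)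
    have hinj : ∀ a ∈ K, ∀ b ∈ K, v * a * v⁻¹ * a⁻¹ = v * b * v⁻¹ * b⁻¹ → a = b := fun a ha b hb h => by
      have h1 : v * (b⁻¹ * a) * v⁻¹ = b⁻¹ * a := by
        calc v * (b⁻¹ * a) * v⁻¹ = (v * b * v⁻¹)⁻¹ * (v * a * v⁻¹ * a⁻¹) * a := by group
          _ = (v * b * v⁻¹)⁻¹ * (v * b * v⁻¹ * b⁻¹) * a := by rw [h]
          _ = b⁻¹ * a := by group
      exact (inv_mul_eq_one.mp (hfix _ (K.mul_mem (K.inv_mem hb) ha) h1)).symm
    let f : ↥⁅K, K⁆ → ↥⁅K, K⁆ := fun a => ⟨v * a * v⁻¹ * (a : G)⁻¹,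
      mul_mem ((Subgroup.mem_normalizer_iff.mp (hK'n v (hX.1 hv)) a).mp a.2) (inv_mem a.2)⟩
    have hf : Function.Injective f := fun a b h =>
      Subtype.ext (hinj a (hK'K a.2) b (hK'K b.2) (congrArg Subtype.val h))
    obtain ⟨a, ha⟩ := Finite.injective_iff_surjective.mp hf ⟨_, hvx⟩
    have := hinj a (hK'K a.2) x hx (congrArg Subtype.val ha)
    exact this ▸ a.2
  -- the bound on `e`
  have hAT' : ∀ x ∈ T, T ≤ C → x ^ p = 1 → x ∈ A := fun x hx hTC hxp =>
    hA.maxEA.full x (Subgroup.mem_centralizer_iff.mpr fun a ha =>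
      congrArg Subtype.val (hCc.is_comm.comm ⟨a, hTC (hAT ha)⟩ ⟨x, hTC hx⟩)) hxp
  have hXT : X ≤ Subgroup.normalizer (T : Set G) := hX.1.trans hMT
  have hcases : Nat.card X * 2 ≤ p + 1 ∧ ((⁅K, K⁆ = ⊥) ∨ (2 * Nat.card X < p)) ∧
      p ^ 2 * Nat.card ↥⁅K, K⁆ ≤ Nat.card T := by
    by_cases hTC : T ≤ C
    · have hKC : K ≤ C := hKTC.trans (sup_le hTC le_rfl)
      have hK'1 : ⁅K, K⁆ = ⊥ := le_bot_iff.mp (Subgroup.commutator_le.mpr fun a ha b hb => by
        rw [Subgroup.mem_bot, commutatorElement_eq_one_iff_mul_comm]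
        exact congrArg Subtype.val (hCc.is_comm.comm ⟨a, hKC ha⟩ ⟨b, hKC hb⟩))
      have hsize : p ^ 2 * Nat.card ↥⁅K, K⁆ ≤ Nat.card T := by
        rw [hK'1, Subgroup.card_bot, mul_one, ← hA.maxEA.card]
        exact Nat.le_of_dvd Nat.card_pos (Subgroup.card_dvd_of_le hAT)
      have hXA : X ≤ Subgroup.normalizer (A : Set G) := fun g hg => Coprime.mem_normalizer_of_conj_mem fun a ha =>
        hAT' _ ((Subgroup.mem_normalizer_iff.mp (hXT hg) a).mp (hAT ha)) hTC (by
          rw [conj_pow, hA.maxEA.ea.2 a ha, mul_one, mul_inv_cancel])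
      set f := A.normalizerMonoidHom.comp (Subgroup.inclusion hXA) with hf
      have hfin : Function.Injective f := (injective_iff_map_eq_one f).mpr fun v hv => by
        by_contra hv1
        refine hA.maxEA.ne_bot (le_bot_iff.mp (le_trans (le_inf hAσ fun a ha => ?_)
          (hfree v v.2 fun e => hv1 (Subtype.ext e)).le))
        exact Subgroup.mem_centralizer_singleton_iff.mpr (mul_inv_eq_iff_eq_mul.mp (congrArg Subtype.val
          (DFunLike.congr_fun hv ⟨a, ha⟩ : (f v) ⟨a, ha⟩ = (1 : MulAut A) ⟨a, ha⟩) :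
            (v : G) * a * (v : G)⁻¹ = a)).symm
      have hXd : ⁅X, X⁆ = ⊥ := le_bot_iff.mp fun v hv => by
        have hvX : v ∈ X := (Coprime.commutator_le_of_le_normalizer Subgroup.le_normalizer) hv
        have hvT := (Sigma.derived_le_centralizer hG (fun e => hM.1 (top_le_iff.mp (e.ge.trans hX.1))) hXT
          (fun hd => hXσ p hp.out hd hpσ) hsmall) hv
        by_contra hv1
        refine hA.maxEA.ne_bot (le_bot_iff.mp (le_trans (le_inf hAσ fun a ha => ?_) (hfree v hvX hv1).le))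
        exact Subgroup.mem_centralizer_singleton_iff.mpr
          (Subgroup.mem_centralizer_iff.mp hvT a (hAT ha))
      haveI hXc : IsMulCommutative X := ⟨⟨fun a b => Subtype.ext (commutatorElement_eq_one_iff_mul_comm.mp
        (Subgroup.mem_bot.mp (hXd.le (Subgroup.commutator_mem_commutator a.2 b.2))))⟩⟩
      have hXcyc : IsCyclic X := by
        by_contra hnc
        have h1 := Coprime.eq_centralizerJoin (N := K) hnc hXN (Nat.coprime_of_dvd fun q hq h1 h2 =>
          hXσ q hq h1 (Sigma.mem_sigma_of_dvd hq h2))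
        refine Sigma.sigmaCore_ne_bot hG hM (le_bot_iff.mp ?_)
        rw [← hK, ← h1]
        exact iSup_le fun e => (hfree e e.2.1 e.2.2).le
      obtain ⟨Φ, hΦ, hscal⟩ := Sigma.exists_gl_hom_scalar (V := A) (fun a b => mul_comm' a b)
        (fun a => Subtype.ext (hA.maxEA.ea.2 a a.2)) hA.maxEA.card
      obtain ⟨x₀, hx₀⟩ := hXcyc.exists_generator
      have ho : orderOf (Φ (f x₀)) = Nat.card X := by
        rw [orderOf_injective Φ hΦ, orderOf_injective f hfin, orderOf_eq_card_of_forall_mem_zpowers hx₀]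
      have hd := Sigma.orderOf_dvd_of_not_scalar (Φ (f x₀)) (ho ▸ (hp.out.coprime_iff_not_dvd.mpr
        fun hd => hXσ p hp.out hd hpσ).symm) (by
          intro k hk c hk1 hkc
          obtain ⟨i, rfl⟩ := hk
          set v : X := x₀ ^ i
          have hkv : Φ (f v) = Φ (f x₀) ^ i := by rw [map_zpow, map_zpow]
          have hva : ∀ a : A, f v a = a ^ c.val := hscal (f v) c (by rw [hkv]; exact hkc)
          have hv1 : (v : G) ≠ 1 := fun e => hk1 (by
            show Φ (f x₀) ^ i = 1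
            rw [← hkv, show v = 1 from Subtype.ext e, map_one, map_one])
          refine hv1 (Subgroup.mem_bot.mp (hX.2.2.1.le ⟨v.2, hEK ⟨hX.1 v.2, hNz _ ?_⟩⟩))
          refine Coprime.mem_normalizer_of_conj_mem fun b hb => ?_
          have hbA : b ∈ A := (Subgroup.zpowers_le.mpr hzA) hb
          have h2 : (v : G) * b * (v : G)⁻¹ = b ^ c.val := congrArg Subtype.val (hva ⟨b, hbA⟩)
          rw [h2]
          exact pow_mem hb _)
      rw [ho] at hd
      refine ⟨?_, Or.inl hK'1, hsize⟩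
      have hxodd := Nat.odd_iff.mp (Sigma.odd_of_dvd hG (Subgroup.card_subgroup_dvd_card X))
      have hpodd := Nat.odd_iff.mp (hp.out.odd_of_ne_two hp2)
      have hp3 := hp.out.two_le
      rcases hd with hd | hd
      · have := Nat.le_of_dvd (by omega) ((Nat.coprime_two_right.mpr (Nat.odd_iff.mpr hxodd)).mul_dvd_of_dvd_of_dvd
          hd (show 2 ∣ p - 1 by omega))
        omega
      · have := Nat.le_of_dvd (by omega) ((Nat.coprime_two_right.mpr (Nat.odd_iff.mpr hxodd)).mul_dvd_of_dvd_of_dvd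
          hd (show 2 ∣ p + 1 by omega))
        omega
    · -- `Z = Ω₁(Z(T))` has order `p`
      set Z := Sigma.omegaCenter p T
      have hT1 : T ≠ ⊥ := fun e => hA.maxEA.ne_bot (le_bot_iff.mp (e ▸ hAT))
      have hZA : Z ≤ A := fun x hx => hA.maxEA.full x (Subgroup.centralizer_le hAT hx.1.2) hx.2
      have hZne : Z ≠ A := fun e => hTC (le_inf hTK (le_trans (fun t ht => ?_) hS.le))
      swap
      · have hzZ : z ∈ Z := e.ge hzA
        exact Subgroup.mem_centralizer_singleton_iff.mpr (Subgroup.mem_centralizer_iff.mp hzZ.1.2 t ht)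
      have hZlt : Z < A := lt_of_le_of_ne hZA hZne
      have hZ1 : Z ≠ ⊥ := Sigma.omegaCenter_ne_bot hTp hT1
      have hZc : Nat.card Z = p := by
        have h1 := Sigma.card_le_of_lt_sq hA.maxEA.card hZlt
        obtain ⟨k, hk⟩ := IsPGroup.iff_card.mp (hA.maxEA.isPGroup.to_le hZA)
        have hk0 : k ≠ 0 := fun e0 => hZ1 (Subgroup.eq_bot_of_card_eq _ (by rw [hk, e0, pow_zero]))
        exact le_antisymm h1 (hk ▸ Nat.le_self_pow hk0 p)
      have hXZ : X ≤ Subgroup.normalizer (Z : Set G) := hXT.trans (Sigma.le_normalizer_omegaCenter p T)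
      set f := Z.normalizerMonoidHom.comp (Subgroup.inclusion hXZ) with hf
      have hfin : Function.Injective f := (injective_iff_map_eq_one f).mpr fun v hv => by
        by_contra hv1
        refine hZ1 (le_bot_iff.mp (le_trans (le_inf (hZA.trans hAσ) fun a ha => ?_)
          (hfree v v.2 fun e => hv1 (Subtype.ext e)).le))
        exact Subgroup.mem_centralizer_singleton_iff.mpr (mul_inv_eq_iff_eq_mul.mp (congrArg Subtype.val
          (DFunLike.congr_fun hv ⟨a, ha⟩ : (f v) ⟨a, ha⟩ = (1 : MulAut Z) ⟨a, ha⟩) :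
            (v : G) * a * (v : G)⁻¹ = a)).symm
      have hd : Nat.card X ∣ p - 1 := by
        haveI : IsCyclic Z := isCyclic_of_prime_card hZc
        haveI : Finite (MulAut Z) := Finite.of_injective (fun a => (a : Z → Z)) DFunLike.coe_injective
        have h1 := Subgroup.card_dvd_of_injective f hfin
        rwa [IsCyclic.card_mulAut, hZc, Nat.totient_prime hp.out] at h1
      have hxodd := Nat.odd_iff.mp (Sigma.odd_of_dvd hG (Subgroup.card_subgroup_dvd_card X))
      have hpodd := Nat.odd_iff.mp (hp.out.odd_of_ne_two hp2)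
      have hp3 := hp.out.two_le
      have h2 := Nat.le_of_dvd (by omega) ((Nat.coprime_two_right.mpr (Nat.odd_iff.mpr hxodd)).mul_dvd_of_dvd_of_dvd
        hd (show 2 ∣ p - 1 by omega))
      refine ⟨by omega, Or.inr (by omega), ?_⟩
      -- `|T : K'| ≥ p ^ 2`
      by_contra hlt
      obtain ⟨a, ha⟩ := IsPGroup.iff_card.mp hTp
      obtain ⟨b, hb⟩ := IsPGroup.iff_card.mp (hTp.to_le hK'T)
      have hlt' : p ^ a < p ^ (b + 2) := by
        have h3 : Nat.card T < p ^ 2 * Nat.card ↥⁅K, K⁆ := not_le.mp hlt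
        rw [ha, hb] at h3
        rwa [pow_add, mul_comm]
      have hab : a < b + 2 := (Nat.pow_lt_pow_iff_right hp.out.one_lt).mp hlt'
      -- `T = ⟨z⟩ K'`
      have hT' : T ≤ Subgroup.zpowers z ⊔ ⁅K, K⁆ := by
        have hzT : Subgroup.zpowers z ≤ T := Subgroup.zpowers_le.mpr (hAT hzA)
        have hdisj : Subgroup.zpowers z ⊓ ⁅K, K⁆ = ⊥ := by
          refine le_bot_iff.mp fun y hy => by_contra fun hy1 => hz' ?_
          have := Sigma.zpowers_eq_of_card_prime hzc hy.1 hy1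
          exact (Subgroup.zpowers_le.mpr hy.2) (this.ge (Subgroup.mem_zpowers z))
        refine (Subgroup.eq_of_le_of_card_ge (sup_le hzT hK'T) ?_).ge
        have hzN : Subgroup.zpowers z ≤ Subgroup.normalizer ((⁅K, K⁆ : Subgroup G) : Set G) :=
          Subgroup.zpowers_le.mpr (hK'n z (hKM hzK))
        rw [sup_comm, Coprime.card_sup hzN (by rw [inf_comm]; exact hdisj), hzc, hb, ha, ← pow_succ]
        exact Nat.pow_le_pow_right hp.out.pos (by omega)
      refine hTC (hTK.trans (le_of_sup_derived hn (inf_le_left : C ≤ K) (hKTC.trans (sup_le ?_ le_sup_left))))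
      exact hT'.trans (sup_le (le_sup_of_le_left (Subgroup.zpowers_le.mpr ⟨hzK, hA.le hzA⟩)) le_sup_right)
  obtain ⟨hep, hcase, hTsize⟩ := hcases
  -- Dade data
  haveI : Fintype G := Fintype.ofFinite G
  have hne : ∀ {N : Subgroup G}, IsCoatom N → ((sigmaCore N : Set G) \ {1}).Nonempty := fun {N} hN => by
    obtain ⟨a, ha, ha1⟩ := (sigmaCore N).bot_or_exists_ne_one.resolve_left (Sigma.sigmaCore_ne_bot hG hN)
    exact ⟨a, ha, ha1⟩
  have hdade : ∀ {N : Subgroup G}, IsCoatom N →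
      DadeHypothesis ((sigmaCore N : Set G) \ {1}) N (supportR N) := fun {N} hN =>
    (Support.dade_of hG hN (A := (sigmaCore N : Set G) \ {1}) (fun a ha => Sigma.sigmaCore_le N ha.1)
      (fun h => h.2 rfl) (hne hN) (fun m hm v hv => ⟨(Subgroup.mem_normalizer_iff.mp
        (Sigma.le_normalizer_sigmaCore N hm) v).mp hv.1, fun e => hv.2 (conj_eq_one_iff.mp e)⟩)
      (fun _ v hv => ⟨Sigma.sigmaCore_le N hv.1, v, hv.1, hv.2, rfl⟩) (fun a ha hn => absurd ha.1 hn)).2
  have hdisj : ∀ g ∈ dadeSupport ((H : Set G) \ {1}) (supportR L),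
      g ∉ dadeSupport ((K : Set G) \ {1}) (supportR M) := by
    intro g hg hg'
    obtain ⟨a, ha, u, hu, y, he⟩ := hg
    obtain ⟨b, hb, v, hv, y', he'⟩ := hg'
    have := Sigma.tildeOf_disjoint hG hpl hM hL hS.nc
    exact (Set.eq_empty_iff_forall_notMem.mp this) g
      ⟨⟨b, hb, v, hv, y'⁻¹, by rw [← he']; group⟩, ⟨a, ha, u, hu, y⁻¹, by rw [← he]; group⟩⟩
  refine Cfg.false (M := M) (L := L) (K := K) (N := ⁅K, K⁆) (H := H) (A := A) (T := T) (z := z) (e := Nat.card X)
    ⟨hKM, hMK, fun g hg => hK'n g hg, hK'K, le_rfl, hTsize.trans (Nat.le_of_dvd Nat.card_pos (Subgroup.card_dvd_of_le hTK)),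
      hTK, hTp, hindex, he3, by omega, hfpf, hdade hM, hdade hL, hdisj,
      fun w hw hw1 => Sigma.supportR_eq_bot (hC' w hw hw1), hzK, hzo, hz', Sigma.sigmaCore_le L,
      Sigma.le_normalizer_sigmaCore L, hzA, hA.maxEA.isPGroup, hAc, hA.le, hCA, hA.not_dvd_sigmaCore,
      fun w hw hw1 => ?_, hV, fun m _ hm => hNz m hm, ?_, ?_⟩ hp.out
  · have hc : Subgroup.centralizer ({w} : Set G) = Subgroup.centralizer ({z} : Set G) := by
      rw [Sigma.centralizer_singleton_eq (Sigma.zpowers_eq_of_card_prime hzc hw hw1),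
        ← Sigma.centralizer_singleton_eq (a := z) rfl]
    obtain ⟨N, hN⟩ := Sigma.exists_support hG hpl hM ((Subgroup.zpowers_le.mpr hzK) hw) hw1
      (by rw [hc]; exact hS.notLe)
    obtain rfl : N = L := hS.only N hN.coatom (hc ▸ hN.le)
    rw [hN.supportR_eq hG hpl, hc]
  · rw [mul_comm, ← IsComplIn.card_mul hS.compl]
  · rcases hcase with h | h
    · left
      rw [h, Subgroup.card_bot, mul_one]
      exact hEcard
    · refine Or.inr (Or.inl ⟨h, hEcard, ⊥, bot_le, bot_inf_eq T, by rw [Subgroup.card_bot]; exact hp.out.one_lt,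
        fun b hb a _ => by rw [Subgroup.mem_bot.mp hb]; exact Commute.one_left a,
        fun a ha => ⟨a, ⟨ha, hK'T ha⟩, 1, one_mem _, (mul_one a).symm⟩, ?_⟩)
      rw [inf_eq_left.mpr hK'T]
      exact hTsize

/-- If every maximal subgroup has empty `κ`, then every `τ₂` is empty. -/
theorem tau2_eq_empty_of_all (hall : ∀ N : Subgroup G, IsCoatom N → kappa N = ∅) :
    ∀ (p : ℕ) {L : Subgroup G}, IsCoatom L → p ∉ tau2 L := by
  intro p
  induction p using Nat.strong_induction_on with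
  | _ p ih =>
    intro L hL hpτ
    haveI := Fact.mk hpτ.1
    have hpl := Support.plen hG
    obtain ⟨E, hE, -⟩ := Sigma.exists_compl_ge hG hL (bot_le : (⊥ : Subgroup G) ≤ L) (fun q hq hd => by
      rw [Subgroup.card_bot] at hd; exact absurd hd hq.not_dvd_one)
    obtain ⟨A, hAE, hAe, hA2⟩ := Sigma.exists_ea_le_compl hG hE hpτ
    obtain ⟨A0, hA⟩ := Sigma.exists_exc hG hpl hL hpτ.2.1 (hAE.trans hE.1) hAe hA2
    have hn := hA.isNilpotent hG hpl
    set H := sigmaCore L with hH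
    -- the element `z`
    obtain ⟨z, hzA, hz1, hV⟩ : ∃ z ∈ A, z ≠ 1 ∧ ¬ H ⊓ Subgroup.centralizer ({z} : Set G) ≤ ⁅H, H⁆ := by
      by_contra! hcon
      have hle := hA.maxEA.le_of_forall_inf_centralizer_le hA.not_dvd_sigmaCore hA.le_normalizer hcon
      exact Sigma.sigmaCore_ne_bot hG hL (le_bot_iff.mp
        (le_of_sup_derived hn bot_le (by rw [bot_sup_eq]; exact hle)))
    have hne : H ⊓ Subgroup.centralizer ({z} : Set G) ≠ ⊥ := fun e => hV (e ▸ bot_le)
    have hzo : orderOf z = p := orderOf_eq_prime (hAe.2 z hzA) hz1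
    -- the maximal subgroup `M`
    have hpG : p ∣ Nat.card G := hzo ▸ orderOf_dvd_natCard z
    obtain ⟨M₀, hM₀, hpσ₀⟩ := Sigma.exists_mem_sigma hG hpG
    obtain ⟨g, hg⟩ := Sigma.exists_cj_le hpσ₀ hA.maxEA.isPGroup
    set M := Sigma.cj g M₀
    have hM : IsCoatom M := Sigma.isCoatom_cj hM₀ g
    have hpσ : p ∈ sigma M := Sigma.mem_sigma_cj hpσ₀ g
    have hAσ : A ≤ sigmaCore M := Sigma.le_sigmaCore hG hM hg (Sigma.mem_of_pGroup hA.maxEA.isPGroup hpσ)
    have hML : M ≠ L := fun e => hpτ.2.1 (e ▸ hpσ)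
    have hzM : ¬ Subgroup.centralizer ({z} : Set G) ≤ M := fun h => hne (le_bot_iff.mp
      (le_trans (inf_le_inf_left _ h) (hA.inf_other_eq_bot hG hpl hM hML hg).le))
    obtain ⟨N, hS⟩ := Sigma.exists_support hG hpl hM (hAσ hzA) hz1 hzM
    have hX := ((Sigma.tau2_compl_facts hG hpl hL hE hpτ ⟨hAE, hAe, hA2⟩).2.2 (Subgroup.zpowers z)
      (Subgroup.zpowers_le.mpr hzA) (by rw [Nat.card_zpowers, hzo]) (by
        rw [← Sigma.centralizer_singleton_eq (a := z) rfl]; exact hne))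
    rw [← Sigma.centralizer_singleton_eq (a := z) rfl] at hX
    obtain rfl : N = L := (hS.only L hL hX.1).symm
    -- `τ₂(M) = ∅`
    have hτ : tau2 M = ∅ := Set.eq_empty_iff_forall_notMem.mpr fun r hr => by
      haveI := Fact.mk hr.1
      obtain ⟨X, hX', -, hnM⟩ := sigmaCore_nilpotent hG hM (hall M hM)
      haveI := hnM
      obtain ⟨T₀, hTσ, hMT⟩ := Sigma.le_normalizer_sylow_of_nilpotent' hG hM hpσ
      have hAT : A ≤ (T₀ : Subgroup G) :=
        Sigma.le_sylow_of_le_normalizer hA.maxEA.isPGroup T₀ (hg.trans hMT)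
      obtain ⟨B, hBX, hBe, hB2⟩ := Sigma.exists_ea_le_compl hG hX' hr
      obtain ⟨B0, hB⟩ := Sigma.exists_exc hG hpl hM hr.2.1 (hBX.trans hX'.1) hBe hB2
      obtain ⟨b, hbB, hbC⟩ : ∃ b ∈ B, b ∉ Subgroup.centralizer ((T₀ : Subgroup G) : Set G) := by
        by_contra! hcon
        refine hA.maxEA.ne_bot (le_bot_iff.mp (le_trans (le_inf hAσ ?_) (hB.inf_centralizer_eq_bot hG hpl).le))
        exact hAT.trans (Subgroup.le_centralizer_iff.mp hcon)
      have hbo : orderOf b = r := orderOf_eq_prime (hBe.2 b hbB) fun e => hbC (e ▸ one_mem _)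
      have hrp : r ≠ p := fun e => hr.2.1 (e ▸ hpσ)
      exact ih r (Sigma.lt_of_small hG hrp (hA.oddAutSmall hG hpl T₀ hAT) T₀.isPGroup'
        (fun e => hA.maxEA.ne_bot (le_bot_iff.mp (e ▸ hAT))) hbo (hMT (hX'.1 (hBX hbB))) hbC) hM hr
    exact moved_false hG (hall _ hL) hA hpτ hM (hall M hM) hτ hzA hz1 hAσ hS hV

end Cfsg.Agent.OddChar.Frob
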