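import Cfsg.Agent.OddChar.Frob.NonabelianTau2
import Cfsg.Agent.OddLocal.Sigma.MovedCases

/-! The cases of a Fitting subgroup which is not TI (BG 15.7). -/

set_option autoImplicit false
set_option linter.style.haveILetI false
set_option linter.unusedSectionVars false
set_option maxHeartbeats 1000000

namespace Cfsg.Agent.OddChar.Frob

open Cfsg
open Cfsg.Agent.OddLocal
open Cfsg.Agent.OddLocal.Sigma
open scoped commutatorElement

universe u

variable {G : Type u} [Group G] [Finite G] (hG : IsMinSimpleOddOrder G)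
include hG

theorem moved_common {M : Subgroup G} (hM : IsCoatom M) {g : G} (hg : g ∉ M)
    (hX : fittingOf M ⊓ (fittingOf M).map (MulAut.conj g).toMonoidHom ≠ ⊥)
    (hF : fittingHallOf M = sigmaCore M)
    (hXσ : fittingOf M ⊓ (fittingOf M).map (MulAut.conj g).toMonoidHom ≤ sigmaCore M)
    {p : ℕ} [hpf : Fact p.Prime] (hpσ : p ∈ sigma M) {y : G} (hyo : orderOf y = p)
    (hyX : y ∈ fittingOf M ⊓ (fittingOf M).map (MulAut.conj g).toMonoidHom)
    (hcycP : ∀ t : ℕ, t.Prime → t ≠ p → ∀ P : Subgroup G, IsPGroup t P → P ≤ sigmaCore M → IsCyclic P)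
    (hS : ∀ S : Sylow p G, ¬ IsMulCommutative (S : Subgroup G)) :
    Nat.card ↥(fittingOf M ⊓ (fittingOf M).map (MulAut.conj g).toMonoidHom) = p ∧ p ∉ beta M ∧
      ¬ IsMulCommutative (pCore p ↥(fittingHallOf M)) ∧ IsCyclic (pPrimeCore p ↥(fittingHallOf M)) := by
  have hpl := Support.plen hG
  have hp := hpf.out
  set X := fittingOf M ⊓ (fittingOf M).map (MulAut.conj g).toMonoidHom with hXdef
  have hn : Group.IsNilpotent (sigmaCore M) := hF ▸ isNilpotent_fittingHallOf M
  have hXH : X ≤ sigmaCore M ⊓ Sigma.cj g M := le_inf hXσ (inf_le_right.trans (Subgroup.map_mono (Subgroup.map_subtype_le _)))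
  obtain ⟨hcycH, hβ, -⟩ := inf_conj_facts hG hpl hM hg
  haveI := hcycH
  have hXcyc : IsCyclic X := isCyclic_of_injective (Subgroup.inclusion hXH) (Subgroup.inclusion_injective _)
  -- every prime-order element of `X` is moved
  have hmoved : ∀ v ∈ X, v ≠ 1 → ∀ q : ℕ, q.Prime → q ∣ orderOf v → ∃ w : G, orderOf w = q ∧ w ∈ X ∧
      w ∈ sigmaCore M ∧ q ∈ sigma M ∧ ¬ Subgroup.centralizer ({w} : Set G) ≤ M := by
    intro v hv _ q hq hd
    haveI := Fact.mk hq
    have ho := orderOf_pow_orderOf_div (orderOf_pos v).ne' hd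
    have hwX : v ^ (orderOf v / q) ∈ X := pow_mem hv _
    obtain ⟨hqσ, hwσ, -, hC⟩ := moved_facts hG hpl hM hg ho hwX.1 hwX.2
    exact ⟨_, ho, hwX, hwσ, hqσ, hC⟩
  refine ⟨?_, ?_, ?_, ?_⟩
  · -- `|X| = p`
    haveI := hXcyc
    obtain ⟨x₀, hx₀⟩ := IsCyclic.exists_generator (α := X)
    have hone : ∀ q : ℕ, q.Prime → q ∣ orderOf (x₀ : G) → q = p := by
      intro q hq hd
      by_contra hqp
      haveI := Fact.mk hq
      have hx1 : (x₀ : G) ≠ 1 := fun e => by
        rw [e, orderOf_one] at hd; exact hq.not_dvd_one hd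
      obtain ⟨w, hwo, -, hwσ, hqσ, hwC⟩ := hmoved x₀ x₀.2 hx1 q hq hd
      have hw1 : w ≠ 1 := fun e => hq.one_lt.ne (by rw [← hwo, e, orderOf_one])
      obtain ⟨N', hN'⟩ := exists_support hG hpl hM hwσ hw1 hwC
      obtain ⟨A, hAE, hAe, hA2⟩ := exists_ea_le_compl hG hN'.compl (hN'.tau2_primes q hq (hwo.symm ▸ dvd_rfl)).1
      exact not_isCyclic_ea_sq hAe hA2 (hcycP q hq hqp A (Components.ea_isPGroup hAe)
        (le_sigmaCore hG hM (hAE.trans inf_le_left) (mem_of_pGroup (Components.ea_isPGroup hAe) hqσ)))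
    have hcard : Nat.card X = orderOf (x₀ : G) := by
      rw [Subgroup.orderOf_coe, orderOf_eq_card_of_forall_mem_zpowers hx₀]
    obtain ⟨k, hk⟩ : ∃ k, orderOf (x₀ : G) = p ^ k := ⟨_, Nat.eq_prime_pow_of_unique_prime_dvd
      (orderOf_pos _).ne' fun {q} hq hd => hone q hq hd⟩
    rcases k with _ | _ | k
    · exact absurd (Subgroup.eq_bot_of_card_eq _ (by rw [hcard, hk, pow_zero])) hX
    · rw [hcard, hk, pow_one]
    -- an element of order `p ^ 2`
    exfalso
    set x := (x₀ : G) ^ p ^ k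
    have hxo : orderOf x = p ^ 2 := by
      rw [orderOf_pow_of_dvd (pow_pos hp.pos k).ne' (by rw [hk]; exact pow_dvd_pow p (by omega)), hk,
        Nat.pow_div (by omega) hp.pos]
      congr 1; omega
    have hxX : x ∈ X := pow_mem x₀.2 _
    have hwo : orderOf (x ^ p) = p := by
      rw [orderOf_pow_of_dvd hp.ne_zero (by rw [hxo]; exact dvd_pow_self p two_ne_zero), hxo, pow_two,
        Nat.mul_div_cancel _ hp.pos]
    have hw1 : x ^ p ≠ 1 := fun e => hp.one_lt.ne (by rw [← hwo, e, orderOf_one])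
    obtain ⟨hwσ, hwσ', -, hwC⟩ := moved_facts hG hpl hM hg hwo (pow_mem hxX.1 p) (pow_mem hxX.2 p)
    obtain ⟨N', hN'⟩ := exists_support hG hpl hM hwσ' hw1 hwC
    obtain ⟨hpτ, -⟩ := hN'.tau2_primes p hp (hwo.symm ▸ dvd_rfl)
    obtain ⟨A, hAE, hAe, hA2⟩ := exists_ea_le_compl hG hN'.compl hpτ
    obtain ⟨A0, hexc⟩ := exists_exc hG hpl hN'.coatom hpτ.2.1 (hAE.trans hN'.compl.1) hAe hA2
    have hxN : x ∈ M ⊓ N' := ⟨Subgroup.map_subtype_le _ hxX.1, hN'.le (Subgroup.mem_centralizer_singleton_iff.mpr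
      (Commute.self_pow x p).eq)⟩
    have hAN : A ≤ M ⊓ N' := hAE
    -- `x` centralizes `A`
    have hxA : x ∈ Subgroup.centralizer (A : Set G) := by
      obtain ⟨T, hTσ, hMT⟩ := (haveI := hn; le_normalizer_sylow_of_nilpotent' hG hM hpσ)
      set P := (T : Subgroup G) ⊓ N'
      have hPp : IsPGroup p P := T.isPGroup'.to_le inf_le_left
      have hPN : P ≤ M ⊓ N' := le_inf (inf_le_left.trans (hTσ.trans (sigmaCore_le M))) inf_le_right
      haveI := hPp.isNilpotent
      have hc := isMulCommutative_of_nilpotent_le hG hpl hN'.coatom (inf_le_right : P ≤ N') fun q hq hd =>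
        complIn_notMem_sigma hG hN'.coatom hN'.compl hq (hd.trans (Subgroup.card_dvd_of_le hPN))
      have hxP : x ∈ P := ⟨(le_sylow_of_le_normalizer (IsPGroup.of_card (by rw [Nat.card_zpowers, hxo]) :
        IsPGroup p (Subgroup.zpowers x)) T ((Subgroup.zpowers_le.mpr hxN.1).trans hMT))
          (Subgroup.mem_zpowers x), hxN.2⟩
      refine Subgroup.mem_centralizer_iff.mpr fun a ha => ?_
      exact congrArg Subtype.val (hc.is_comm.comm ⟨a, le_sylow_of_le_normalizer hexc.maxEA.isPGroup T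
        ((hAN.trans inf_le_left).trans hMT) ha, (hAN ha).2⟩ ⟨x, hxP⟩)
    have hwA : x ^ p ∈ A := hexc.maxEA.full _ (pow_mem hxA p) (orderOf_dvd_iff_pow_eq_one.mp (dvd_of_eq hwo))
    -- the fixed line is `A₀`
    obtain ⟨-, -, hlines⟩ := hexc.fpf_lines hG hpl hS hN'.compl hpτ hAE
    refine hw1 (hexc.no_root hG hpl hS hxN.2 hxA ?_)
    by_contra hnA0
    obtain ⟨-, z, hz, hz1, hzc⟩ := hN'.hat
    have h1 := (hlines (Subgroup.zpowers (x ^ p)) (Subgroup.zpowers_le.mpr hwA)
      (by rw [Nat.card_zpowers, hwo]) fun e => hnA0 (e ▸ Subgroup.mem_zpowers _)).1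
    refine hz1 (Subgroup.mem_bot.mp (h1.le ⟨hz, ?_⟩))
    rw [← centralizer_singleton_eq (a := x ^ p) rfl]
    exact Subgroup.mem_centralizer_singleton_iff.mpr hzc.symm
  · exact hβ p hp (hyo ▸ Subgroup.orderOf_dvd_natCard _ (hXH hyX))
  · intro hc
    haveI := hn
    obtain ⟨T, hTσ, hMT⟩ := le_normalizer_sylow_of_nilpotent' hG hM hpσ
    have hTH : (T : Subgroup G) ≤ fittingHallOf M := hF.symm ▸ hTσ
    have hle : (T : Subgroup G).subgroupOf (fittingHallOf M) ≤ pCore p ↥(fittingHallOf M) :=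
      Core.le_pCore (Subgroup.normal_subgroupOf_of_le_normalizer ((OddLocal.fittingHallOf_le M).trans hMT))
        T.isPGroup'.comap_subtype
    exact hS T ⟨⟨fun a b => Subtype.ext (congrArg (fun t : pCore p ↥(fittingHallOf M) => ((t : fittingHallOf M) : G))
      (hc.is_comm.comm ⟨⟨a, hTH a.2⟩, hle (Subgroup.mem_subgroupOf.mpr a.2)⟩
        ⟨⟨b, hTH b.2⟩, hle (Subgroup.mem_subgroupOf.mpr b.2)⟩) :)⟩⟩
  · set H := fittingHallOf M with hH
    haveI : Group.IsNilpotent H := isNilpotent_fittingHallOf M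
    haveI : IsZGroup (pPrimeCore p H) := by
      refine (isZGroup_iff _).mpr fun t ht P => ?_
      haveI := Fact.mk ht
      by_cases htp : t = p
      · subst htp
        have : (P : Subgroup (pPrimeCore t H)) = ⊥ := by
          refine Subgroup.eq_bot_of_card_eq _ ?_
          rw [Sylow.card_eq_multiplicity, Nat.factorization_eq_zero_of_not_dvd, pow_zero]
          exact fun hd => ht.not_dvd_one ((Core.card_pPrimeCore_coprime t H).gcd_eq_one ▸
            Nat.dvd_gcd hd dvd_rfl)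
        rw [this]; infer_instance
      · haveI := hcycP t ht htp (((P : Subgroup (pPrimeCore p H)).map (pPrimeCore p H).subtype).map H.subtype)
          ((P.isPGroup'.map _).map _) (hF ▸ Subgroup.map_subtype_le _)
        exact isCyclic_of_surjective _
          ((((P : Subgroup (pPrimeCore p H)).equivMapOfInjective _ (pPrimeCore p H).subtype_injective).trans
            (((P : Subgroup (pPrimeCore p H)).map (pPrimeCore p H).subtype).equivMapOfInjective _
              H.subtype_injective)).symm).surjective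
    infer_instance

theorem moved_cases_full {M K U : Subgroup G}
    (hM : IsCoatom M) (hKU : IsSigmaDecomposition M K U) {g : G} (hg : g ∉ M)
    (hX : fittingOf M ⊓ (fittingOf M).map (MulAut.conj g).toMonoidHom ≠ ⊥) :
    (fittingOf M ⊓ (fittingOf M).map (MulAut.conj g).toMonoidHom ≤ fittingHallOf M ∧
        IsCyclic ↥(fittingOf M ⊓ (fittingOf M).map (MulAut.conj g).toMonoidHom)) ∧
      (⁅M, M⁆ = fittingOf M ∧
        fittingOf M = sigmaCore M ⊔ piCoreOf {q | q.Prime ∧ q ∉ sigma M} (fittingOf M)) ∧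
      ((K = ⊥ ∧ IsMulCommutative (fittingHallOf M) ∧ RankLE 2 (fittingHallOf M) ∧ ¬ RankLE 1 (fittingHallOf M)) ∨
       (∃ p : ℕ, p.Prime ∧ Nat.card ↥(fittingOf M ⊓ (fittingOf M).map (MulAut.conj g).toMonoidHom) = p ∧
          p ∈ sigma M ∧ p ∉ beta M ∧ ¬ IsMulCommutative (pCore p ↥(fittingHallOf M)) ∧
          IsCyclic (pPrimeCore p ↥(fittingHallOf M)) ∧
          ∀ q : ℕ, q.Prime → q ∣ Nat.card (fittingHallOf M) → Monoid.exponent (↥M ⧸ fittingHall ↥M) ∣ q - 1) ∨
       (∃ p : ℕ, p.Prime ∧ Nat.card ↥(fittingOf M ⊓ (fittingOf M).map (MulAut.conj g).toMonoidHom) = p ∧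
          p ∈ sigma M ∧ p ∉ beta M ∧ IsCyclic (pPrimeCore p ↥(fittingHallOf M)) ∧
          Nat.card (pCore p ↥(fittingHallOf M)) = p ^ 3 ∧ ¬ IsMulCommutative (pCore p ↥(fittingHallOf M)) ∧
          K ≠ ⊥ ∧ U = ⊥ ∧ (fittingHallOf M).relIndex M ∣ p + 1)) := by
  have hpl := Support.plen hG
  set X := fittingOf M ⊓ (fittingOf M).map (MulAut.conj g).toMonoidHom with hXdef
  -- every prime-order element of `X` is moved
  have hmoved : ∀ v ∈ X, v ≠ 1 → ∀ q : ℕ, q.Prime → q ∣ orderOf v → ∃ w : G, orderOf w = q ∧ w ∈ X ∧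
      w ∈ sigmaCore M ∧ q ∈ sigma M ∧ ¬ Subgroup.centralizer ({w} : Set G) ≤ M := by
    intro v hv _ q hq hd
    haveI := Fact.mk hq
    have ho := orderOf_pow_orderOf_div (orderOf_pos v).ne' hd
    have hwX : v ^ (orderOf v / q) ∈ X := pow_mem hv _
    obtain ⟨hqσ, hwσ, -, hC⟩ := moved_facts hG hpl hM hg ho hwX.1 hwX.2
    exact ⟨_, ho, hwX, hwσ, hqσ, hC⟩
  obtain ⟨v₀, hv₀, hv₀1⟩ := X.bot_or_exists_ne_one.resolve_left hX
  obtain ⟨p, hp, hpd⟩ := Nat.exists_prime_and_dvd (show orderOf v₀ ≠ 1 by rwa [ne_eq, orderOf_eq_one_iff])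
  haveI := Fact.mk hp
  obtain ⟨y, hyo, hyX, hyσ, hpσ, hC⟩ := hmoved v₀ hv₀ hv₀1 p hp hpd
  have hy1 : y ≠ 1 := fun e => hp.one_lt.ne (by rw [← hyo, e, orderOf_one])
  obtain ⟨N, hN⟩ := exists_support hG hpl hM hyσ hy1 hC
  by_cases hκN : (kappa N).Nonempty
  · obtain ⟨hκ, hτ, E, hE, -, hEc⟩ := hN.kappa_facts hG hpl hM hy1 hκN
    have hK1 : K = ⊥ := Subgroup.eq_bot_of_card_eq _ (by
      by_contra hne
      obtain ⟨q, hq, hd⟩ := Nat.exists_prime_and_dvd hne
      have := hKU.hall.2.1 q hq hd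
      rw [hκ] at this
      exact this)
    have hF := fittingHallOf_eq_of_kappa_empty hG hpl hM hκ
    have hn : Group.IsNilpotent (sigmaCore M) := hF ▸ isNilpotent_fittingHallOf M
    -- `F(M) = M_σ`
    have hFM : fittingOf M = sigmaCore M := by
      refine le_antisymm (fun a ha => ?_) (hF ▸ fittingHallOf_le_fittingOf M)
      have haM : a ∈ M := Subgroup.map_subtype_le _ ha
      obtain ⟨i, j, hij, hi, hj⟩ := exists_split_elt (sigma M) a
      have hiσ : a ^ i ∈ sigmaCore M := le_sigmaCore hG hM (Subgroup.zpowers_le.mpr (pow_mem haM i))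
        (fun q hq hd => hi q hq (by rwa [Nat.card_zpowers] at hd)) (Subgroup.mem_zpowers _)
      rw [hij]
      refine mul_mem hiσ (centralizer_le_sigmaCore hG hpl hM hκ hτ hyσ hy1 (pow_mem haM j) ?_)
      refine (commute_of_mem_nilpotent (isNilpotent_fittingOf M) (pow_mem ha j) hyX.1 ?_).eq
      rw [hyo]
      exact (hp.coprime_iff_not_dvd.mpr fun hd => hj p hp hd hpσ).symm
    have hXσ : X ≤ sigmaCore M := inf_le_left.trans hFM.le
    have hXH : X ≤ sigmaCore M ⊓ Sigma.cj g M := le_inf hXσ (inf_le_right.trans (Subgroup.map_mono (Subgroup.map_subtype_le _)))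
    obtain ⟨hcycH, hβ, -⟩ := inf_conj_facts hG hpl hM hg
    haveI := hcycH
    have hXcyc : IsCyclic X := isCyclic_of_injective (Subgroup.inclusion hXH) (Subgroup.inclusion_injective _)
    refine ⟨⟨hF.symm ▸ hXσ, hXcyc⟩, ⟨?_, ?_⟩, ?_⟩
    · rw [hFM]
      refine le_antisymm ((derived_le_sup_derived (le_normalizer_sigmaCore M) hE.1 fun m hm => ?_).trans
        (sup_le le_rfl ?_)) (sigmaCore_le_derived hG hM)
      · obtain ⟨a, ha, b, hb, rfl⟩ := hE.2.2.2 m hm
        exact mul_mem (Subgroup.mem_sup_right ha) (Subgroup.mem_sup_left hb)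
      · refine Subgroup.commutator_le.mpr fun a ha b hb => ?_
        rw [show ⁅a, b⁆ = 1 from commutatorElement_eq_one_iff_mul_comm.mpr
          (congrArg Subtype.val (hEc.is_comm.comm ⟨a, ha⟩ ⟨b, hb⟩))]
        exact one_mem _
    · rw [hFM]
      exact (sup_eq_left.mpr (Subgroup.map_subtype_le _)).symm
    rcases support_cases hG hpl hM hκ hτ hyo hyσ hpσ hN with h | ⟨hexp, -, -, hcycP, hS⟩
    · exact Or.inl ⟨hK1, h⟩
    obtain ⟨h1, h2, h3, h4⟩ := moved_common hG hM hg hX hF hXσ hpσ hyo hyX hcycP hS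
    exact Or.inr (Or.inl ⟨p, hp, h1, hpσ, h2, h3, h4, hexp⟩)
  -- type V
  have hκN0 : kappa N = ∅ := Set.not_nonempty_iff_eq_empty.mp hκN
  have hκM : kappa M ≠ ∅ := fun e => kappa_empty_not_moved hG hM e hyo hyσ hN hκN0
  have hK1 : K ≠ ⊥ := fun e => hκM (decomp_kappa_empty hG hpl hKU e)
  have hgi : g⁻¹ ∈ M → False := fun h => hg (inv_mem_iff.mp h)
  have hnTI : ¬ IsTISubset (fittingOf M : Set G) := fun h => by
    obtain ⟨v, hv, hv'⟩ := hyX.2
    refine hy1 (h g⁻¹ (fun hn => hgi ?_) y hyX.1 ?_)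
    · exact (hM.le_iff.mp (le_normalizer_fittingOf M)).resolve_left
        (Core.BG.normalizer_ne_top hG (fun e => hy1 (Subgroup.mem_bot.mp (e ▸ hyX.1)))
          (ne_top_of_le_ne_top hM.1 (Subgroup.map_subtype_le _))) ▸ hn
    · rw [← hv']
      simp only [MulEquiv.coe_toMonoidHom, MulAut.conj_apply, SetLike.mem_coe]
      rw [show g⁻¹ * (g * v * g⁻¹) * g⁻¹⁻¹ = v by group]
      exact hv
  have hU : U = ⊥ := by_contra fun e => hnTI (fitting_isTI_of_U hG hpl hM hKU hK1 e)
  have hF : fittingHallOf M = sigmaCore M := by_contra fun e => hnTI (fitting_isTI_of_ne hG hpl hM e)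
  have hD : ⁅M, M⁆ = sigmaCore M := by
    rw [(derived_eq_and_fixed_le hG hpl hM hKU hK1).1, hU, bot_sup_eq]
  have hFM : fittingOf M = sigmaCore M := le_antisymm
    ((fittingOf_le_derived hG hpl hM (Set.nonempty_iff_ne_empty.mpr hκM)).trans hD.le)
    (hF ▸ fittingHallOf_le_fittingOf M)
  have hXσ : X ≤ sigmaCore M := inf_le_left.trans hFM.le
  obtain ⟨hcycH, -, -⟩ := inf_conj_facts hG hpl hM hg
  have hXcyc : IsCyclic X := by
    haveI := hcycH
    exact isCyclic_of_injective (Subgroup.inclusion (le_inf hXσ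
      (inf_le_right.trans (Subgroup.map_mono (Subgroup.map_subtype_le _))) : X ≤ sigmaCore M ⊓ Sigma.cj g M))
      (Subgroup.inclusion_injective _)
  refine ⟨⟨hF.symm ▸ hXσ, hXcyc⟩, ⟨hD.trans hFM.symm, by
    rw [hFM]; exact (sup_eq_left.mpr (Subgroup.map_subtype_le _)).symm⟩, ?_⟩
  have h := hKU
  obtain ⟨-, -, -, hfixK⟩ := kappa_hall_facts hG hpl hM h.hall hK1
  have hYp := IsPartner.card_fixed_prime hG hpl hM h hK1 hU
  have hn : Group.IsNilpotent (sigmaCore M) := hF ▸ isNilpotent_fittingHallOf M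
  haveI := hn
  obtain ⟨hpτ, -⟩ := hN.tau2_primes p hp (hyo.symm ▸ dvd_rfl)
  obtain ⟨A, hAE, hAe, hA2⟩ := exists_ea_le_compl hG hN.compl hpτ
  obtain ⟨A0, hexc⟩ := exists_exc hG hpl hN.coatom hpτ.2.1 (hAE.trans hN.compl.1) hAe hA2
  obtain ⟨T, hTσ, hMT⟩ := le_normalizer_sylow_of_nilpotent' hG hM hpσ
  have hAT := le_sylow_of_le_normalizer hexc.maxEA.isPGroup T ((hAE.trans inf_le_left).trans hMT)
  have hKM : K ≤ M := h.hall.1
  -- Sylow subgroups for other primes lie in `M ⊓ N`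
  have hother : ∀ t : ℕ, t.Prime → t ≠ p → ∀ P : Subgroup G, IsPGroup t P → P ≤ sigmaCore M → P ≤ M ⊓ N := by
    intro t ht htp P hP hPσ
    haveI := Fact.mk ht
    refine le_inf (hPσ.trans (sigmaCore_le M)) (le_trans (fun a ha => ?_) hN.le)
    refine Subgroup.mem_centralizer_singleton_iff.mpr (commute_of_mem_nilpotent hn (hPσ ha) hyσ ?_).eq
    obtain ⟨k, hk⟩ := IsPGroup.iff_card.mp hP
    refine Nat.Coprime.coprime_dvd_left (hk ▸ Subgroup.orderOf_dvd_natCard P ha) ?_
    rw [hyo]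
    exact ((Nat.coprime_primes ht hp).mpr htp).pow_left k
  set Y := sigmaCore M ⊓ Subgroup.centralizer (K : Set G) with hYdef
  -- `Y` is central in an abelian Sylow subgroup
  have hcentral : ∀ t : ℕ, ∀ _ : Fact t.Prime, ∀ X : Sylow t G, (X : Subgroup G) ≤ sigmaCore M →
      Y ≤ (X : Subgroup G) → ¬ IsMulCommutative (X : Subgroup G) := by
    intro t ht X hXσ hYX hXc
    refine IsPartner.kst_ne hG hpl hM h.hall hK1 (eq_bot_of_central_abelian_sylow hG hpl X hXc hYX ?_)
    have hMX : M ≤ Subgroup.normalizer ((X : Subgroup G) : Set G) :=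
      le_normalizer_sylow_of_nilpotent hG hM hn (mem_sigma_of_dvd ht.out
        ((dvd_card_of_ne_bot X.isPGroup' fun e => IsPartner.kst_ne hG hpl hM h.hall hK1
          (le_bot_iff.mp (e ▸ hYX))).trans (Subgroup.card_dvd_of_le hXσ))) X (hXσ.trans (sigmaCore_le M))
    rw [(hM.le_iff.mp hMX).resolve_left (Core.BG.normalizer_ne_top_of_isPGroup hG
      (fun e => IsPartner.kst_ne hG hpl hM h.hall hK1 (le_bot_iff.mp (e ▸ hYX))) X.isPGroup')]
    intro g hg'
    obtain ⟨u, hu, b, hb, rfl⟩ := h.compl.2.2.2 g hg'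
    rw [hU, Subgroup.mem_bot] at hu
    rw [hu, one_mul]
    refine (sup_le (Subgroup.le_centralizer_iff.mp inf_le_right) ?_) hb
    refine Subgroup.le_centralizer_iff.mp fun a ha => ?_
    refine Subgroup.mem_centralizer_iff.mpr fun s hs => ?_
    refine (?_ : Commute s a).eq
    have hs' := ((Core.le_of_forall_exists_sylow_le
      fun r hr => by
        haveI := Fact.mk hr
        obtain ⟨R⟩ := (inferInstance : Nonempty (Sylow r (sigmaCore M)))
        refine ⟨R, fun v hv => Subgroup.mem_centralizer_singleton_iff.mpr ?_⟩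
        by_cases hrt : r = t
        · subst hrt
          have hvX : v ∈ (X : Subgroup G) := le_sylow_of_le_normalizer (R.isPGroup'.map _) X
            (((Subgroup.map_subtype_le _).trans (sigmaCore_le M)).trans hMX) hv
          exact congrArg Subtype.val (hXc.is_comm.comm ⟨v, hvX⟩ ⟨a, hYX ha⟩)
        · refine (commute_of_mem_nilpotent hn (Subgroup.map_subtype_le _ hv) (hXσ (hYX ha)) ?_).eq
          obtain ⟨i, hi⟩ := IsPGroup.iff_card.mp (R.isPGroup'.map (sigmaCore M).subtype)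
          obtain ⟨j, hj⟩ := IsPGroup.iff_card.mp X.isPGroup'
          exact (((Nat.coprime_primes hr ht.out).mpr hrt).pow i j).coprime_dvd_left
            (hi ▸ Subgroup.orderOf_dvd_natCard _ hv) |>.coprime_dvd_right (hj ▸ Subgroup.orderOf_dvd_natCard _ (hYX ha))) :
        sigmaCore M ≤ Subgroup.centralizer ({a} : Set G)) hs
    exact Subgroup.mem_centralizer_singleton_iff.mp hs'
  -- `|Y| = p` and the Sylow `p`-subgroup is non-abelian
  have hYc : Nat.card Y = p := by
    by_contra hne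
    set t := Nat.card Y
    haveI := Fact.mk hYp
    have htσ : t ∈ sigma M := mem_sigma_of_dvd hYp (Subgroup.card_dvd_of_le inf_le_left)
    obtain ⟨X, hXσ, hMX⟩ := le_normalizer_sylow_of_nilpotent' hG hM htσ
    have hYX := le_sylow_of_le_normalizer (isPGroup_of_card_prime (rfl : Nat.card Y = t)) X
      ((inf_le_left.trans (sigmaCore_le M)).trans hMX)
    have hXMN := hother t hYp hne X X.isPGroup' hXσ
    haveI := X.isPGroup'.isNilpotent
    exact hcentral t ⟨hYp⟩ X hXσ hYX (isMulCommutative_of_nilpotent_le hG hpl hN.coatom (hXMN.trans inf_le_right)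
      fun q hq hd => complIn_notMem_sigma hG hN.coatom hN.compl hq (hd.trans (Subgroup.card_dvd_of_le hXMN)))
  have hYT := le_sylow_of_le_normalizer (isPGroup_of_card_prime hYc) T
    ((inf_le_left.trans (sigmaCore_le M)).trans hMT)
  have hna := hcentral p ⟨hp⟩ T hTσ hYT
  have hnaS : ∀ S : Sylow p G, ¬ IsMulCommutative (S : Subgroup G) := tau2_nonabelian hG hN.coatom hκN0 hpτ
  have hτN : tau2 N = {p} := hexc.tau2_eq hG hpl hnaS hN.compl hpτ hAE
  have hcycP : ∀ t : ℕ, t.Prime → t ≠ p → ∀ P : Subgroup G, IsPGroup t P → P ≤ sigmaCore M → IsCyclic P := by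
    intro t ht htp R hR hRS
    haveI := Fact.mk ht
    by_cases hR1 : R = ⊥
    · subst hR1; infer_instance
    have hRN := hother t ht htp R hR hRS
    have htd : t ∣ Nat.card R := dvd_card_of_ne_bot hR hR1
    have htσ : t ∈ sigma M := mem_sigma_of_dvd ht (htd.trans (Subgroup.card_dvd_of_le hRS))
    have htσN := complIn_notMem_sigma hG hN.coatom hN.compl ht (htd.trans (Subgroup.card_dvd_of_le hRN))
    have h1 : PRankLE t 1 N := by
      by_contra h1
      have hmem : t ∈ tau2 N := ⟨ht, htσN, pRankLE_two_of_notMem_sigma hG hN.coatom ht htσN, h1⟩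
      rw [hτN] at hmem
      exact htp hmem
    exact isCyclic_of_rank_one hG hpl (ne_two_of_dvd hG (sigma_dvd htσ)) h1 hR (hRN.trans inf_le_right)
  obtain ⟨hXp, hβ, hnaC, hcycC⟩ := moved_common hG hM hg hX hF hXσ hpσ hyo hyX hcycP hnaS
  have hHK : (fittingHallOf M).relIndex M = Nat.card K := by
    refine Nat.eq_of_mul_eq_mul_left (Nat.card_pos (α := fittingHallOf M)) ?_
    rw [Core.card_mul_relIndex (OddLocal.fittingHallOf_le M), hF]
    obtain ⟨hE, -, -⟩ := decomp_facts hG hpl hM h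
    rw [hU, bot_sup_eq] at hE
    rw [← IsComplIn.card_mul hE, mul_comm]
  have hexpK : Monoid.exponent (↥M ⧸ fittingHall ↥M) ∣ Nat.card K := by
    refine Group.exponent_dvd_nat_card.trans (dvd_of_eq ?_)
    rw [← hHK, fittingHallOf, Subgroup.relIndex, Subgroup.subgroupOf,
      Subgroup.comap_map_eq_self_of_injective M.subtype_injective, Subgroup.index]
  have hKM : K ≤ M := h.hall.1
  have hKσ : ∀ q : ℕ, q.Prime → q ∣ Nat.card K → q ∉ sigma M := fun q hq hd => (h.hall.2.1 q hq hd).2.2.1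
  have hKp : (Nat.card K).Coprime p := (hp.coprime_iff_not_dvd.mpr fun hd => hKσ p hp hd hpσ).symm
  have hMσ := le_normalizer_sigmaCore M
  have hKt : ∀ q : ℕ, q.Prime → q ≠ p → q ∣ Nat.card (fittingHallOf M) → Nat.card K ∣ q - 1 := by
    intro t ht htp hd
    haveI := Fact.mk ht
    rw [hF] at hd
    obtain ⟨x', hx'⟩ := exists_prime_orderOf_dvd_card' t hd
    rw [← Subgroup.orderOf_coe] at hx'
    obtain ⟨X₁, hX₁σ, hMX₁⟩ := le_normalizer_sylow_of_nilpotent' hG hM (mem_sigma_of_dvd ht hd)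
    have hX₁c := hcycP t ht htp X₁ X₁.isPGroup' hX₁σ
    set Z := Subgroup.zpowers (x' : G)
    have hZc : Nat.card Z = t := by rw [Nat.card_zpowers, hx']
    have hZX : Z ≤ (X₁ : Subgroup G) := le_sylow_of_le_normalizer (isPGroup_of_card_prime hZc) X₁
      (((Subgroup.zpowers_le.mpr x'.2).trans (sigmaCore_le M)).trans hMX₁)
    have hKZ : K ≤ Subgroup.normalizer (Z : Set G) := fun k hk => by
      refine Sigma.cj_eq_iff.mp (Subgroup.eq_of_le_of_card_ge ?_ (by rw [Sigma.card_cj]))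
      refine Core.BG.le_of_card_dvd_of_isCyclic hX₁c ?_ hZX (by rw [Sigma.card_cj])
      exact (Sigma.cj_mono hZX).trans (Sigma.cj_eq_iff.mpr (hMX₁ (hKM hk))).le
    haveI : IsCyclic Z := isCyclic_of_prime_card hZc
    set f := Z.normalizerMonoidHom.comp (Subgroup.inclusion hKZ)
    have hfi : Function.Injective f := (injective_iff_map_eq_one f).mpr fun k hk => by
      by_contra hk1
      have hxY : (x' : G) ∈ Y := (hfixK k k.2 (fun e => hk1 (Subtype.ext e))).le
        ⟨x'.2, Subgroup.mem_centralizer_singleton_iff.mpr (mul_inv_eq_iff_eq_mul.mp (congrArg Subtype.val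
          (DFunLike.congr_fun hk ⟨(x' : G), Subgroup.mem_zpowers _⟩ :
            (f k) ⟨(x' : G), Subgroup.mem_zpowers _⟩ = (1 : MulAut Z) ⟨(x' : G), Subgroup.mem_zpowers _⟩) :
            (k : G) * x' * (k : G)⁻¹ = x')).symm⟩
      have htY : t ∣ p := hYc ▸ hx' ▸ Subgroup.orderOf_dvd_natCard Y hxY
      exact htp ((Nat.prime_dvd_prime_iff_eq ht hp).mp htY)
    haveI : Finite (MulAut Z) := Finite.of_injective (fun a => (a : Z → Z)) DFunLike.coe_injective
    have h1 := Subgroup.card_dvd_of_injective f hfi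
    rwa [IsCyclic.card_mulAut, hZc, Nat.totient_prime ht] at h1
  have hfix : ∀ k ∈ K, k ≠ 1 → (T : Subgroup G) ⊓ Subgroup.centralizer ({k} : Set G) ≤ Y := fun k hk hk1 =>
    (inf_le_inf_right _ hTσ).trans (hfixK k hk hk1).le
  have hTH : (T : Subgroup G) ≤ fittingHallOf M := hF ▸ hTσ
  have hp2 : p ≠ 2 := ne_two_of_dvd hG (sigma_dvd hpσ)
  have hcases : Nat.card K ∣ p - 1 ∨ (Nat.card (T : Subgroup G) = p ^ 3 ∧ Nat.card K ∣ p + 1) := by
    by_cases hr : PRankLE p 2 (T : Subgroup G)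
    · exact card_dvd_of_fixed hG hpl T h.cyclic (odd_of_dvd hG (Subgroup.card_subgroup_dvd_card K)) hKp
        (hKM.trans hMT) hr hna hK1 hYc inf_le_right hfix hKM
    left
    have hmax := hexc.maxEA.subgroupOf hAT
    obtain ⟨h1, -⟩ := RankTwo.aut_of_maxEASq hp2 T.isPGroup' hr (E := A.subgroupOf (T : Subgroup G))
      ⟨hmax.ea, hmax.card, fun B hB hle =>
        le_antisymm (fun b hb => hmax.full b (Subgroup.centralizer_le hle
          (Subgroup.le_centralizer_iff_isMulCommutative.mpr hB.1 hb)) (hB.2 b hb)) hle⟩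
    set f := (T : Subgroup G).normalizerMonoidHom.comp (Subgroup.inclusion (hKM.trans hMT))
    have hfi : Function.Injective f := (injective_iff_map_eq_one f).mpr fun k hk => by
      by_contra hk1
      refine hna ?_
      have hTY : (T : Subgroup G) ≤ Y := fun t ht => hfix k k.2 (fun e => hk1 (Subtype.ext e))
        ⟨ht, Subgroup.mem_centralizer_singleton_iff.mpr (mul_inv_eq_iff_eq_mul.mp (congrArg Subtype.val
          (DFunLike.congr_fun hk ⟨t, ht⟩ : (f k) ⟨t, ht⟩ = (1 : MulAut (T : Subgroup G)) ⟨t, ht⟩) :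
            (k : G) * t * (k : G)⁻¹ = t)).symm⟩
      haveI := isCyclic_of_prime_card hYc
      haveI : IsCyclic (T : Subgroup G) :=
        isCyclic_of_injective (Subgroup.inclusion hTY) (Subgroup.inclusion_injective _)
      exact ⟨⟨fun a b => by letI := IsCyclic.commGroup (α := (T : Subgroup G)); exact mul_comm a b⟩⟩
    haveI := h.cyclic
    obtain ⟨k₀, hk₀⟩ := IsCyclic.exists_generator (α := K)
    have hord : orderOf (f k₀) = Nat.card K := by
      rw [orderOf_injective f hfi, orderOf_eq_card_of_forall_mem_zpowers hk₀]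
    exact hord ▸ h1 (f k₀) (hord.symm ▸ hKp)
  rcases hcases with h' | ⟨hT3, h'⟩
  · refine Or.inr (Or.inl ⟨p, hp, hXp, hpσ, hβ, hnaC, hcycC, fun t ht hd => hexpK.trans ?_⟩)
    by_cases htp : t = p
    · exact htp ▸ h'
    · exact hKt t ht htp hd
  · refine Or.inr (Or.inr ⟨p, hp, hXp, hpσ, hβ, hcycC, ?_, hnaC, hK1, hU, hHK ▸ h'⟩)
    set H := fittingHallOf M
    rw [← hT3, ← Core.card_subgroupOf hTH]
    congr 2
    refine le_antisymm (fun a ha => Subgroup.mem_subgroupOf.mpr ?_) (le_sSup (show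
      (T : Subgroup G).subgroupOf H ∈ {N : Subgroup H | N.Normal ∧ IsPGroup p N} from
        ⟨?_, T.isPGroup'.comap_subtype⟩))
    · exact le_sylow_of_le_normalizer ((Core.isPGroup_pCore p H).map H.subtype) T
        (((Subgroup.map_subtype_le _).trans (hF.le.trans (sigmaCore_le M))).trans hMT)
        (Subgroup.mem_map_of_mem H.subtype ha)
    · exact Subgroup.normal_subgroupOf_of_le_normalizer ((hF.le.trans (sigmaCore_le M)).trans hMT)

end Cfsg.Agent.OddChar.Frob
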