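import Cfsg.Agent.OddChar.Frob.AbelianTau2
import Cfsg.Agent.OddLocal.Sigma.TypeI
import Cfsg.Agent.OddLocal.Sigma.NonTI
import Mathlib.GroupTheory.SpecificGroups.ZGroup

/-! A maximal subgroup with empty `κ` is of Type I. -/

set_option autoImplicit false
set_option linter.style.haveILetI false
set_option linter.unusedSectionVars false
set_option maxHeartbeats 1000000

namespace Cfsg.Agent.OddChar.Frob

open Cfsg
open Cfsg.Agent.OddLocal
open Cfsg.Agent.OddLocal.Sigma (IsSupport Exc)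
open scoped commutatorElement

universe u

variable {G : Type u} [Group G] [Finite G]

theorem isCyclic_of_sylow {P : Subgroup G} (hn : Group.IsNilpotent P)
    (h : ∀ t : ℕ, t.Prime → ∀ R : Subgroup G, R ≤ P → IsPGroup t R → IsCyclic R) : IsCyclic P := by
  haveI : IsZGroup P := ⟨fun t ht R => by
    haveI := Fact.mk ht
    haveI := h t ht _ (Subgroup.map_subtype_le (R : Subgroup P)) (R.isPGroup'.map P.subtype)
    exact isCyclic_of_surjective _
      ((R : Subgroup P).equivMapOfInjective P.subtype P.subtype_injective).symm.surjective⟩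
  infer_instance

theorem le_sylow_map_of_nilpotent {F R : Subgroup G} (hn : Group.IsNilpotent F) {t : ℕ} [Fact t.Prime]
    (hR : IsPGroup t R) (hRF : R ≤ F) (S : Sylow t F) : R ≤ (S : Subgroup F).map F.subtype := by
  haveI := hn
  obtain ⟨S', hS'⟩ := (hR.comap_subtype : IsPGroup t (R.subgroupOf F)).exists_le_sylow
  haveI hfin : Finite (Sylow t F) := inferInstance
  haveI hnorm : (S : Subgroup F).Normal := ((Group.isNilpotent_of_finite_tfae (G := F)).out 0 3 rfl rfl).mp hn t inferInstance S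
  haveI : Unique (Sylow t F) := Sylow.unique_of_normal S hnorm
  rw [Subsingleton.elim S S']
  exact fun x hx => ⟨⟨x, hRF hx⟩, hS' (Subgroup.mem_subgroupOf.mpr hx), rfl⟩

variable (hG : IsMinSimpleOddOrder G)
include hG

/-- An element of a complement with fixed points on `M_σ` lies in the exceptional line. -/
theorem fixed_mem {M X B B0 : Subgroup G} {s : ℕ} [hs : Fact s.Prime] (hB : Exc M s B B0) (hκ : kappa M = ∅)
    (hsτ : s ∈ tau2 M) (hna : ∀ S : Sylow s G, ¬ IsMulCommutative (S : Subgroup G))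
    (hX : IsComplIn X (sigmaCore M) M) (hBX : B ≤ X) {v y : G} (hv : v ∈ X) (hy : y ∈ sigmaCore M) (hy1 : y ≠ 1)
    (hvy : v * y = y * v) : v ∈ B0 := by
  have hpl := Support.plen hG
  have hM := hB.coatom
  obtain ⟨hC0, hinf, hlines⟩ := hB.fpf_lines hG hpl hna hX hsτ hBX
  have hτ := hB.tau2_eq hG hpl hna hX hsτ hBX
  have hXB : X ≤ Subgroup.normalizer (B : Set G) := hB.le_normalizer_of_compl hG hpl hX hBX
  have hpC : ∀ v ∈ X, ∀ k : ℕ, v ^ s ^ k = 1 → v ∈ Subgroup.centralizer (B : Set G) := fun v hv k hk => by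
    obtain ⟨hc⟩ := hB.isMulCommutative_of_pGroup hG hpl (IsPGroup.to_sup_of_normal_left' hB.maxEA.isPGroup
      (Sigma.isPGroup_zpowers hk) ((Subgroup.zpowers_le.mpr hv).trans hXB))
      (sup_le hB.le (Subgroup.zpowers_le.mpr (hX.1 hv)))
    exact Subgroup.mem_centralizer_iff.mpr fun a ha => congrArg Subtype.val
      (hc.comm ⟨a, Subgroup.mem_sup_left ha⟩ ⟨v, Subgroup.mem_sup_right (Subgroup.mem_zpowers v)⟩)
  obtain ⟨k, hk⟩ : ∃ k, v ^ s ^ k = 1 := by
    refine ⟨_, orderOf_dvd_iff_pow_eq_one.mp (Nat.eq_prime_pow_of_unique_prime_dvd (orderOf_pos v).ne' (p := s)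
      fun {q} hq hd => ?_).dvd⟩
    have hmem := Sigma.mem_tau2_of_fixed hG hM hX (fun e he he1 h =>
      Sigma.regular_of_kappa_empty hG hpl hM hκ (hX.1 he) he1 h) hv hy hy1 hvy hq hd
    rw [hτ] at hmem
    exact hmem
  induction k generalizing v with
  | zero => rw [pow_zero, pow_one] at hk; rw [hk]; exact one_mem _
  | succ k ih =>
    have hvs : v ^ s ∈ B0 := ih (pow_mem hv s) ((show Commute v y from hvy).pow_left s).eq
      (by rw [← pow_mul, ← pow_succ']; exact hk)
    have hvs1 := hB.no_root hG hpl hna (hX.1 hv) (hpC v hv _ hk) hvs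
    by_contra hv0
    have hv1 : v ≠ 1 := fun h' => hv0 (h' ▸ one_mem _)
    have hvB : v ∈ B := hB.maxEA.full v (hpC v hv _ hk) hvs1
    have hb := (hlines (Subgroup.zpowers v) (Subgroup.zpowers_le.mpr hvB) (hB.maxEA.card_zpowers hvB hv1)
      fun h' => hv0 (h' ▸ Subgroup.mem_zpowers v)).1
    rw [← Sigma.centralizer_singleton_eq (a := v) rfl] at hb
    exact hy1 (Subgroup.mem_bot.mp (hb.le ⟨hy, Subgroup.mem_centralizer_singleton_iff.mpr hvy.symm⟩))

/-- The disjunction of Type I when `M_σ` is not TI. -/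
theorem moved_disjunction {M U : Subgroup G} (hM : IsCoatom M) (hκ : kappa M = ∅)
    (hU : IsComplIn U (sigmaCore M) M) (hn : Group.IsNilpotent (sigmaCore M))
    (hfree : ∃ U₀ : Subgroup G, U₀ ≤ U ∧ Monoid.exponent U₀ = Monoid.exponent U ∧
      ∀ e ∈ U₀, e ≠ 1 → sigmaCore M ⊓ Subgroup.centralizer ({e} : Set G) = ⊥)
    {g : G} (hg : g ∉ M) {p : ℕ} [hp : Fact p.Prime] {y : G} (hyo : orderOf y = p)
    (hy : y ∈ fittingOf M) (hy' : y ∈ Sigma.cj g (fittingOf M)) :
    (IsMulCommutative (sigmaCore M) ∧ RankLE 2 (sigmaCore M) ∧ ¬ RankLE 1 (sigmaCore M)) ∨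
      ((∀ t : ℕ, t.Prime → t ∣ Nat.card (sigmaCore M) → Monoid.exponent U ∣ t - 1) ∧
        ∃ t : ℕ, t.Prime ∧ t ∣ Nat.card (sigmaCore M) ∧
          ∀ P : Subgroup G, P ≤ M → M ≤ Subgroup.normalizer (P : Set G) → ¬ t ∣ Nat.card P → IsCyclic P) := by
  have hpl := Support.plen hG
  set S0 := sigmaCore M with hS0
  have hSM : S0 ≤ M := Sigma.sigmaCore_le M
  have hMS := Sigma.le_normalizer_sigmaCore M
  obtain ⟨hpσ, hyS, -, hC⟩ := Sigma.moved_facts hG hpl hM hg hyo hy hy'
  have hy1 : y ≠ 1 := fun e => hp.out.one_lt.ne' (by rw [← hyo, e, orderOf_one])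
  obtain ⟨N, hN⟩ := Sigma.exists_support hG hpl hM hyS hy1 hC
  have hpτ : p ∈ tau2 N := (hN.tau2_primes p hp.out (by rw [hyo])).1
  obtain ⟨A, hAE, hAe, hA2⟩ := Sigma.exists_ea_le_compl hG hN.compl hpτ
  obtain ⟨A0, hA⟩ := Sigma.exists_exc hG hpl hN.coatom hpτ.2.1 (hAE.trans hN.compl.1) hAe hA2
  have hAS : A ≤ S0 := Sigma.le_sigmaCore hG hM (hAE.trans inf_le_left)
    (Sigma.mem_of_pGroup (Components.ea_isPGroup hAe) hpσ)
  -- the normal Sylow `p`-subgroup
  obtain ⟨T₁⟩ := (inferInstance : Nonempty (Sylow p ↥S0))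
  set T := (T₁ : Subgroup ↥S0).map S0.subtype with hT
  obtain ⟨S, hS⟩ := Sigma.exists_sylow_eq_map hG hpl hM hpσ T₁
  have hTS : T ≤ S0 := Subgroup.map_subtype_le _
  have hTp : IsPGroup p T := T₁.isPGroup'.map _
  have hMT : M ≤ Subgroup.normalizer (T : Set G) := by
    rw [hT, ← hS]
    exact Sigma.le_normalizer_sylow_of_nilpotent hG hM hn hpσ S (by rw [hS]; exact hTS.trans hSM)
  have hpmem : ∀ {R : Subgroup G}, IsPGroup p R → R ≤ S0 → R ≤ T := fun hR hRS =>
    le_sylow_map_of_nilpotent hn hR hRS T₁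
  have hAT : A ≤ T := hpmem hA.maxEA.isPGroup hAS
  have hyT : y ∈ T := hpmem (IsPGroup.of_card (n := 1) (by rw [Nat.card_zpowers, hyo, pow_one]))
    (Subgroup.zpowers_le.mpr hyS) (Subgroup.mem_zpowers y)
  have hCy : ∀ {t : ℕ}, t.Prime → t ≠ p → ∀ {R : Subgroup G}, IsPGroup t R → R ≤ S0 → R ≤ M ⊓ N := by
    intro t ht htp R hR hRS
    refine le_inf (hRS.trans hSM) (le_trans (fun x hx => ?_) hN.le)
    refine Subgroup.mem_centralizer_singleton_iff.mpr (Sigma.commute_of_mem_nilpotent hn (hRS hx) hyS ?_).eq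
    haveI := Fact.mk ht
    obtain ⟨k, hk⟩ := IsPGroup.iff_card.mp hR
    refine Nat.Coprime.coprime_dvd_left (hk ▸ Subgroup.orderOf_dvd_natCard _ hx) ?_
    rw [hyo]
    exact ((Nat.coprime_primes ht hp.out).mpr htp).pow_left k
  by_cases hTab : IsMulCommutative T
  · -- `M_σ` is abelian of rank two
    left
    have hTN : T ≤ M ⊓ N := le_inf (hTS.trans hSM) (le_trans (fun x hx =>
      Subgroup.mem_centralizer_singleton_iff.mpr (congrArg Subtype.val
        (hTab.is_comm.comm ⟨x, hx⟩ ⟨y, hyT⟩))) hN.le)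
    have hSN : S0 ≤ M ⊓ N := Core.le_of_forall_exists_sylow_le fun t ht => by
      haveI := Fact.mk ht
      obtain ⟨R⟩ := (inferInstance : Nonempty (Sylow t ↥S0))
      refine ⟨R, ?_⟩
      by_cases htp : t = p
      · subst htp
        exact (hpmem (R.isPGroup'.map _) (Subgroup.map_subtype_le _)).trans hTN
      · exact hCy ht htp (R.isPGroup'.map _) (Subgroup.map_subtype_le _)
    have hσN : ∀ t : ℕ, t.Prime → t ∣ Nat.card S0 → t ∉ sigma N := fun t ht hd =>
      Sigma.complIn_notMem_sigma hG hN.coatom hN.compl ht (hd.trans (Subgroup.card_dvd_of_le hSN))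
    haveI := hn
    refine ⟨Sigma.isMulCommutative_of_nilpotent_le hG hpl hN.coatom (hSN.trans inf_le_right) hσN,
      fun t ht B hBc hBe => ?_, fun h => ?_⟩
    · haveI := Fact.mk ht
      by_cases hd : t ∣ Nat.card S0
      · exact Components.pRankLE_of_injective (Subgroup.inclusion_injective (hSN.trans inf_le_right))
          (Sigma.pRankLE_two_of_notMem_sigma hG hN.coatom ht (hσN t ht hd)) B hBc hBe
      · have hB : IsPGroup t B := fun b => ⟨1, by rw [pow_one]; exact Subtype.ext (hBe b b.2)⟩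
        obtain ⟨k, hk⟩ := IsPGroup.iff_card.mp hB
        rcases k with _ | k
        · rw [hk, pow_zero]; exact Nat.one_le_pow _ _ ht.pos
        · exact absurd ((hk ▸ dvd_pow_self t k.succ_ne_zero).trans (Subgroup.card_subgroup_dvd_card B)) hd
    · have h1 := h p hp.out (A.subgroupOf S0) ⟨⟨fun a b => Subtype.ext (Subtype.ext
        (by simpa using congrArg Subtype.val (hAe.1.is_comm.comm ⟨_, Subgroup.mem_subgroupOf.mp a.2⟩
          ⟨_, Subgroup.mem_subgroupOf.mp b.2⟩)))⟩⟩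
        (fun a ha => Subtype.ext (hAe.2 a (Subgroup.mem_subgroupOf.mp ha)))
      rw [Core.card_subgroupOf hAS, hA2, pow_one] at h1
      nlinarith [hp.out.two_le]
  right
  have hnaT : ¬ IsMulCommutative (S : Subgroup G) := by rw [hS]; exact hTab
  have hna : ∀ S' : Sylow p G, ¬ IsMulCommutative (S' : Subgroup G) :=
    Sigma.sylow_all_nonabelian fun h => hnaT (h S)
  have hτN := hA.tau2_eq hG hpl hna hN.compl hpτ hAE
  -- the other Sylow subgroups are cyclic
  have hcyc : ∀ t : ℕ, t.Prime → t ≠ p → ∀ R : Subgroup G, IsPGroup t R → R ≤ S0 → IsCyclic R := by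
    intro t ht htp R hR hRS
    haveI := Fact.mk ht
    by_cases hR1 : R = ⊥
    · subst hR1; infer_instance
    have hRN := hCy ht htp hR hRS
    have htd : t ∣ Nat.card R := Sigma.dvd_card_of_ne_bot hR hR1
    have htσ : t ∈ sigma M := Sigma.mem_sigma_of_dvd ht (htd.trans (Subgroup.card_dvd_of_le hRS))
    have htσN := Sigma.complIn_notMem_sigma hG hN.coatom hN.compl ht (htd.trans (Subgroup.card_dvd_of_le hRN))
    have h1 : PRankLE t 1 N := by
      by_contra h1
      have hmem : t ∈ tau2 N := ⟨ht, htσN, Sigma.pRankLE_two_of_notMem_sigma hG hN.coatom ht htσN, h1⟩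
      rw [hτN] at hmem
      exact htp hmem
    exact Sigma.isCyclic_of_rank_one hG hpl (Sigma.ne_two_of_dvd hG (Sigma.sigma_dvd htσ)) h1 hR
      (hRN.trans inf_le_right)
  obtain ⟨U₀, hU₀, hexp, hfpf⟩ := hfree
  have hU₀M : U₀ ≤ M := hU₀.trans hU.1
  -- a subgroup of prime order normalized by `M` gives the exponent bound
  have hbound : ∀ (t : ℕ) (_ : t.Prime) (Z : Subgroup G), Z ≤ S0 → Nat.card Z = t →
      M ≤ Subgroup.normalizer (Z : Set G) → Monoid.exponent U ∣ t - 1 := by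
    intro t ht Z hZS hZc hMZ
    haveI := Fact.mk ht
    set f := Z.normalizerMonoidHom.comp (Subgroup.inclusion (hU₀M.trans hMZ)) with hf
    have hfin : Function.Injective f := (injective_iff_map_eq_one f).mpr fun v hv => by
      by_contra hv1
      refine Sigma.ne_bot_of_card_prime hZc (le_bot_iff.mp (le_trans (le_inf hZS fun a ha => ?_)
        (hfpf v v.2 fun e => hv1 (Subtype.ext e)).le))
      exact Subgroup.mem_centralizer_singleton_iff.mpr (mul_inv_eq_iff_eq_mul.mp (congrArg Subtype.val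
        (DFunLike.congr_fun hv ⟨a, ha⟩ : (f v) ⟨a, ha⟩ = (1 : MulAut Z) ⟨a, ha⟩) :
          (v : G) * a * (v : G)⁻¹ = a)).symm
    haveI : IsCyclic Z := isCyclic_of_prime_card hZc
    haveI : Finite (MulAut Z) := Finite.of_injective (fun a => (a : Z → Z)) DFunLike.coe_injective
    have h1 := Subgroup.card_dvd_of_injective f hfin
    rw [IsCyclic.card_mulAut, hZc, Nat.totient_prime ht] at h1
    exact hexp ▸ Group.exponent_dvd_nat_card.trans h1
  have hT1 : T ≠ ⊥ := fun e => hA.maxEA.ne_bot (le_bot_iff.mp (e ▸ hAT))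
  have hexpdvd : ∀ t : ℕ, t.Prime → t ∣ Nat.card S0 → Monoid.exponent U ∣ t - 1 := by
    intro t ht hd
    haveI := Fact.mk ht
    by_cases htp : t = p
    · subst htp
      set Z := Sigma.omegaCenter t T
      have hZA : Z ≤ A := fun x hx => hA.maxEA.full x (Subgroup.centralizer_le hAT hx.1.2) hx.2
      have hZne : Z ≠ A := fun e => hTab (hA.isMulCommutative_of_pGroup hG hpl hTp (le_trans (fun x hx =>
        Subgroup.mem_centralizer_iff.mpr fun a ha =>
          (Subgroup.mem_centralizer_iff.mp (e.ge ha : a ∈ Z).1.2 x hx).symm) hA.centralizer_le))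
      have hZc : Nat.card Z = t := by
        have h1 := Sigma.card_le_of_lt_sq hA.maxEA.card (lt_of_le_of_ne hZA hZne)
        obtain ⟨k, hk⟩ := IsPGroup.iff_card.mp (hA.maxEA.isPGroup.to_le hZA)
        have hk0 : k ≠ 0 := fun e0 => Sigma.omegaCenter_ne_bot hTp hT1
          (Subgroup.eq_bot_of_card_eq _ (by rw [hk, e0, pow_zero]))
        exact le_antisymm h1 (hk ▸ Nat.le_self_pow hk0 t)
      exact hbound t ht Z (hZA.trans hAS) hZc (hMT.trans (Sigma.le_normalizer_omegaCenter t T))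
    · obtain ⟨R₁⟩ := (inferInstance : Nonempty (Sylow t ↥S0))
      set R := (R₁ : Subgroup ↥S0).map S0.subtype
      obtain ⟨x', hx'⟩ := exists_prime_orderOf_dvd_card' t hd
      rw [← Subgroup.orderOf_coe] at hx'
      set x := (x' : G)
      have hRc := hcyc t ht htp R (R₁.isPGroup'.map _) (Subgroup.map_subtype_le _)
      have hmemR : ∀ w ∈ S0, orderOf w = t → Subgroup.zpowers w ≤ R := fun w hw hwo =>
        le_sylow_map_of_nilpotent hn (IsPGroup.of_card (n := 1) (by rw [Nat.card_zpowers, hwo, pow_one]))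
          (Subgroup.zpowers_le.mpr hw) R₁
      refine hbound t ht (Subgroup.zpowers x) (Subgroup.zpowers_le.mpr x'.2)
        (by rw [Nat.card_zpowers, hx']) fun m hm => Coprime.mem_normalizer_of_conj_mem fun w hw => ?_
      have hmo : orderOf (m * x * m⁻¹) = t := by rw [Sigma.orderOf_conj_eq, hx']
      have hle := Core.BG.le_of_card_dvd_of_isCyclic hRc
        (hmemR _ ((Subgroup.mem_normalizer_iff.mp (hMS hm) x).mp x'.2) hmo) (hmemR x x'.2 hx')
        (by rw [Nat.card_zpowers, Nat.card_zpowers, hmo, hx'])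
      obtain ⟨i, rfl⟩ := hw
      rw [← conj_zpow]
      exact zpow_mem (hle (Subgroup.mem_zpowers _)) i
  refine ⟨hexpdvd, p, hp.out, (Sigma.dvd_card_of_ne_bot hTp hT1).trans (Subgroup.card_dvd_of_le hTS),
    fun P hPM hMP hPp => ?_⟩
  -- the `p'`-subgroup `P` centralizes `T`
  have hPT : P ⊓ T = ⊥ := by
    obtain ⟨k, hk⟩ := IsPGroup.iff_card.mp hTp
    exact Subgroup.inf_eq_bot_of_coprime (hk ▸ ((hp.out.coprime_iff_not_dvd.mpr hPp).pow_left k).symm)
  have hPC : ∀ v ∈ P, v * y = y * v := fun v hv => by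
    have h1 : v * y * v⁻¹ * y⁻¹ ∈ P ⊓ T := by
      refine ⟨?_, T.mul_mem ((Subgroup.mem_normalizer_iff.mp (hMT (hPM hv)) y).mp hyT) (T.inv_mem hyT)⟩
      have := P.mul_mem hv ((Subgroup.mem_normalizer_iff.mp (hMP (hSM hyS)) _).mp (P.inv_mem hv))
      rwa [show v * (y * v⁻¹ * y⁻¹) = v * y * v⁻¹ * y⁻¹ by group] at this
    rw [hPT, Subgroup.mem_bot, mul_inv_eq_one, mul_inv_eq_iff_eq_mul] at h1
    exact h1
  haveI := Core.BG.isSolvable_proper hG hM.1
  -- a `σ(M)'`-element of `P` is conjugate into `U`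
  have hconj : ∀ v ∈ P, (∀ q : ℕ, q.Prime → q ∣ orderOf v → q ∉ sigma M) →
      ∃ m ∈ M, m * v * m⁻¹ ∈ U ∧ m * v * m⁻¹ ∈ P := by
    intro v hv hvσ
    obtain ⟨m, hm, hmU⟩ := Sigma.exists_cj_le_compl hG hM hU (Subgroup.zpowers_le.mpr (hPM hv))
      (fun q hq hd => hvσ q hq (by rwa [Nat.card_zpowers] at hd))
    exact ⟨m, hm, hmU (Sigma.conj_mem_cj_of_mem (Subgroup.mem_zpowers v)),
      (Subgroup.mem_normalizer_iff.mp (hMP hm) v).mp hv⟩
  rcases Set.eq_empty_or_nonempty (tau2 M) with hτ | ⟨s, hs⟩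
  · have hPS : P ≤ S0 := Sigma.le_sigmaCore hG hM hPM fun r hr hd => by_contra fun hrσ => by
      haveI := Fact.mk hr
      obtain ⟨v', hv'⟩ := exists_prime_orderOf_dvd_card' r hd
      rw [← Subgroup.orderOf_coe] at hv'
      obtain ⟨m, hm, hmU, hmP⟩ := hconj _ v'.2 fun q hq hqd => by
        rw [hv'] at hqd
        rwa [(Nat.prime_dvd_prime_iff_eq hq hr).mp hqd]
      have hmem := Sigma.mem_tau2_of_fixed hG hM hU (fun e he he1 h =>
        Sigma.regular_of_kappa_empty hG hpl hM hκ (hU.1 he) he1 h) hmU hyS hy1 (hPC _ hmP) hr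
        (by rw [Sigma.orderOf_conj_eq, hv'])
      rw [hτ] at hmem
      exact hmem
    refine isCyclic_of_sylow (Core.isNilpotent_of_le hPS hn) fun t ht R hRP hR => ?_
    by_cases htp : t = p
    · subst htp
      obtain ⟨k, hk⟩ := IsPGroup.iff_card.mp hR
      rcases k with _ | k
      · obtain rfl : R = ⊥ := Subgroup.eq_bot_of_card_eq _ (by rw [hk, pow_zero])
        infer_instance
      · exact absurd ((hk ▸ dvd_pow_self t k.succ_ne_zero).trans (Subgroup.card_dvd_of_le hRP)) hPp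
    · exact hcyc t ht htp R hR (hRP.trans hPS)
  haveI := Fact.mk hs.1
  obtain ⟨B, hBU, hBe, hB2⟩ := Sigma.exists_ea_le_compl hG hU hs
  obtain ⟨B0, hB⟩ := Sigma.exists_exc hG hpl hM hs.2.1 (hBU.trans hU.1) hBe hB2
  have hnaM := tau2_nonabelian hG hM hκ hs
  obtain ⟨hC0, hinf, -⟩ := hB.fpf_lines hG hpl hnaM hU hs hBU
  have hUB : U ≤ Subgroup.normalizer (B : Set G) := hB.le_normalizer_of_compl hG hpl hU hBU
  have hB0M : B0 ≤ M := hB.le0.trans hB.le
  have hMB0 : M ≤ Subgroup.normalizer (B0 : Set G) := by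
    intro m hm
    obtain ⟨v, hv, k, hk, rfl⟩ := hU.2.2.2 m hm
    refine mul_mem (Coprime.mem_normalizer_of_conj_mem fun a ha => ?_)
      (Subgroup.centralizer_le_normalizer _ (hC0 hk))
    rw [← hinf] at ha ⊢
    exact ⟨(Subgroup.mem_normalizer_iff.mp (hUB hv) a).mp ha.1,
      Sigma.conj_mem_centralizer (hMS (hU.1 hv)) ha.2⟩
  have hσ'B0 : ∀ v ∈ P, (∀ q : ℕ, q.Prime → q ∣ orderOf v → q ∉ sigma M) → v ∈ B0 := fun v hv hvσ => by
    obtain ⟨m, hm, hmU, hmP⟩ := hconj v hv hvσ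
    exact (Subgroup.mem_normalizer_iff.mp (hMB0 hm) v).mpr
      (fixed_mem hG hB hκ hs hnaM hU hBU hmU hyS hy1 (hPC _ hmP))
  set K := S0 ⊔ B0
  have hPK : P ≤ K := fun v hv => by
    obtain ⟨i, j, hij, hi, hj⟩ := Sigma.exists_split_elt (sigma M) v
    rw [hij]
    exact mul_mem (Subgroup.mem_sup_left (Sigma.le_sigmaCore hG hM (Subgroup.zpowers_le.mpr (pow_mem (hPM hv) i))
      (fun q hq hd => hi q hq (by rwa [Nat.card_zpowers] at hd)) (Subgroup.mem_zpowers _)))
      (Subgroup.mem_sup_right (hσ'B0 _ (pow_mem hv j) hj))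
  have hKn : Group.IsNilpotent K := by
    have h1 : (S0.subgroupOf K).Normal := (Subgroup.normal_subgroupOf_iff_le_normalizer le_sup_left).mpr
      ((sup_le hSM hB0M).trans hMS)
    have h2 : (B0.subgroupOf K).Normal := (Subgroup.normal_subgroupOf_iff_le_normalizer le_sup_right).mpr
      ((sup_le hSM hB0M).trans hMB0)
    have h3 := Core.isNilpotent_sup_of_normal h1 h2
      (haveI := hn; Group.nilpotent_of_mulEquiv (Subgroup.subgroupOfEquivOfLe le_sup_left).symm)
      (haveI := (hB.maxEA.isPGroup.to_le hB.le0).isNilpotent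
       Group.nilpotent_of_mulEquiv (Subgroup.subgroupOfEquivOfLe le_sup_right).symm)
    rw [← Subgroup.subgroupOf_sup le_sup_left le_sup_right, Subgroup.subgroupOf_self] at h3
    haveI := h3
    exact Group.nilpotent_of_mulEquiv Subgroup.topEquiv
  refine isCyclic_of_sylow (Core.isNilpotent_of_le hPK hKn) fun t ht R hRP hR => ?_
  haveI := Fact.mk ht
  by_cases htp : t = p
  · subst htp
    obtain ⟨k, hk⟩ := IsPGroup.iff_card.mp hR
    rcases k with _ | k
    · obtain rfl : R = ⊥ := Subgroup.eq_bot_of_card_eq _ (by rw [hk, pow_zero])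
      infer_instance
    · exact absurd ((hk ▸ dvd_pow_self t k.succ_ne_zero).trans (Subgroup.card_dvd_of_le hRP)) hPp
  by_cases htσ : t ∈ sigma M
  · exact hcyc t ht htp R hR (Sigma.le_sigmaCore hG hM (hRP.trans hPM) (Sigma.mem_of_pGroup hR htσ))
  · have hRB : R ≤ B0 := fun v hv => hσ'B0 v (hRP hv) fun q hq hd => by
      rw [Sigma.mem_of_pGroup hR (show t ∈ ({t} : Set ℕ) from rfl) q hq
        (hd.trans (Subgroup.orderOf_dvd_natCard _ hv))]
      exact htσ
    haveI : IsCyclic B0 := isCyclic_of_prime_card hB.card0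
    exact isCyclic_of_injective (Subgroup.inclusion hRB) (Subgroup.inclusion_injective _)

/-- A maximal subgroup with empty `κ` is of Type I. -/
theorem typeI_of_kappa_empty {M : Subgroup G} (hM : IsCoatom M) (hκ : kappa M = ∅) : IsOfTypeI M := by
  have hpl := Support.plen hG
  obtain ⟨U, hU, hU1, hn⟩ := sigmaCore_nilpotent hG hM hκ
  have hF : fittingHallOf M = sigmaCore M := le_antisymm (Sigma.fittingHallOf_le_sigmaCore hG hpl hM)
    (Sigma.sigmaCore_le_fittingHallOf hG hpl hM hn)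
  have hsub : fittingHall M = (sigmaCore M).subgroupOf M := by
    rw [← hF, fittingHallOf, Subgroup.subgroupOf, Subgroup.comap_map_eq_self_of_injective M.subtype_injective]
  have hcompl : Subgroup.IsComplement' (U.subgroupOf M) (fittingHall M) := by
    rw [hsub]; exact OddLocal.isComplement'_of_isComplIn hU
  obtain ⟨⟨A₀, hA₀, hA₀n, hA₀c, hA₀f⟩, U₀, hU₀, hexp, hfpf⟩ := Sigma.frobenius_type_criterion hG hpl hM hU
    fun e he he1 h => Sigma.regular_of_kappa_empty hG hpl hM hκ (hU.1 he) he1 h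
  have hexpeq : ∀ {X : Subgroup G}, X ≤ M → Monoid.exponent (X.subgroupOf M) = Monoid.exponent X := fun hX =>
    Monoid.exponent_eq_of_mulEquiv (Subgroup.subgroupOfEquivOfLe hX)
  have hne : fittingHall M ≠ ⊥ := by
    rw [hsub, ne_eq, Subgroup.subgroupOf_eq_bot]
    intro h
    exact Sigma.sigmaCore_ne_bot hG hM (le_bot_iff.mp (fun x hx =>
      h.le_bot ⟨hx, Sigma.sigmaCore_le M hx⟩))
  have htop : fittingHall M ≠ ⊤ := by
    rw [hsub, ne_eq, Subgroup.subgroupOf_eq_top]
    intro h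
    exact hU1 (le_bot_iff.mp fun x hx => hU.2.2.1.le ⟨hx, h (hU.1 hx)⟩)
  have hUne : U.subgroupOf M ≠ ⊥ := fun h => hU1 (le_bot_iff.mp fun x hx => by
    have := Subgroup.mem_bot.mp (h.le (Subgroup.mem_subgroupOf.mpr hx : (⟨x, hU.1 hx⟩ : M) ∈ U.subgroupOf M))
    exact Subgroup.mem_bot.mpr (congrArg Subtype.val this))
  refine ⟨⟨Core.BG.isSolvable_proper hG hM.1, Sigma.odd_of_dvd hG (Subgroup.card_subgroup_dvd_card M), hne, htop,
    U.subgroupOf M, hUne, hcompl.symm,
    ⟨A₀.subgroupOf M, fun x hx => Subgroup.mem_subgroupOf.mpr (hA₀ (Subgroup.mem_subgroupOf.mp hx)),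
      fun x hx => Coprime.mem_normalizer_of_conj_mem fun y hy => Subgroup.mem_subgroupOf.mpr
        ((Subgroup.mem_normalizer_iff.mp (hA₀n (Subgroup.mem_subgroupOf.mp hx)) _).mp (Subgroup.mem_subgroupOf.mp hy)),
      ⟨⟨fun a b => Subtype.ext (Subtype.ext (by simpa using congrArg Subtype.val (hA₀c.is_comm.comm
        ⟨_, Subgroup.mem_subgroupOf.mp a.2⟩ ⟨_, Subgroup.mem_subgroupOf.mp b.2⟩)))⟩⟩,
      fun x hx hx1 v hv => Subgroup.mem_subgroupOf.mpr (hA₀f x (by rwa [hsub, Subgroup.mem_subgroupOf] at hx)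
        (fun h => hx1 (Subtype.ext h)) ⟨Subgroup.mem_subgroupOf.mp hv.1,
          Subgroup.mem_centralizer_singleton_iff.mpr (congrArg Subtype.val
            (Subgroup.mem_centralizer_singleton_iff.mp hv.2))⟩)⟩,
    U₀.subgroupOf M, fun x hx => Subgroup.mem_subgroupOf.mpr (hU₀ (Subgroup.mem_subgroupOf.mp hx)),
    by rw [hexpeq (hU₀.trans hU.1), hexpeq hU.1, hexp],
    fun v hv hv1 x hx hvx => Subtype.ext (Subgroup.mem_bot.mp
      ((hfpf v (Subgroup.mem_subgroupOf.mp hv) fun h => hv1 (Subtype.ext h)).le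
        ⟨by rwa [hsub, Subgroup.mem_subgroupOf] at hx, Subgroup.mem_centralizer_singleton_iff.mpr
          (congrArg Subtype.val hvx).symm⟩))⟩, ?_⟩
  by_cases hTI : IsTISubset (fittingHallOf M : Set G)
  · exact Or.inl hTI
  unfold IsTISubset at hTI
  push Not at hTI
  obtain ⟨g, hg, x, hx, hgx, hx1⟩ := hTI
  have hg' : g⁻¹ ∉ M := fun h =>
    hg (inv_mem_iff.mp (Sigma.le_normalizer_fittingHallOf hG hpl M h))
  have hle := Sigma.fittingHallOf_le_fittingOf M
  obtain ⟨p, y, hp, hyo, hy, hy'⟩ := Sigma.exists_moved hG hpl hM hg' hx1 (hle hx)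
    (Sigma.mem_cj.mpr (by rw [inv_inv]; exact hle hgx))
  haveI := Fact.mk hp
  rcases moved_disjunction hG hM hκ hU hn ⟨U₀, hU₀, hexp, hfpf⟩ hg' hyo hy hy' with h | ⟨h1, t, ht, htd, h2⟩
  · exact Or.inr (Or.inl (by rw [hF]; exact h))
  refine Or.inr (Or.inr ⟨fun r hr hd => ?_, t, ht, by rw [hF]; exact htd, ?_⟩)
  · haveI : (fittingHall M).Normal := fittingHall_normal M
    rw [Monoid.exponent_eq_of_mulEquiv hcompl.QuotientMulEquiv, hexpeq hU.1]
    exact h1 r hr (by rwa [hF] at hd)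
  · haveI := Fact.mk ht
    haveI := h2 ((pPrimeCore t M).map M.subtype) (Subgroup.map_subtype_le _) (fun m hm =>
      Coprime.mem_normalizer_of_conj_mem fun v hv => by
        obtain ⟨w, hw, rfl⟩ := hv
        exact ⟨⟨m, hm⟩ * w * ⟨m, hm⟩⁻¹,
          (pPrimeCore_normal t M).conj_mem w hw _, rfl⟩)
      (by rw [Core.card_map_subtype]; exact Core.not_dvd_card_pPrimeCore t M)
    exact isCyclic_of_surjective _
      ((pPrimeCore t M).equivMapOfInjective M.subtype M.subtype_injective).symm.surjective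

end Cfsg.Agent.OddChar.Frob
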