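import Cfsg.Agent.OddChar.Frob.AbelianTau2
import Cfsg.Agent.OddChar.Frob.TypeIConverse

/-! The moved configuration with both `κ` empty and non-abelian Sylow subgroups is impossible. -/

set_option autoImplicit false
set_option linter.style.haveILetI false
set_option linter.unusedSectionVars false
set_option maxHeartbeats 1000000

namespace Cfsg.Agent.OddChar.Frob

open Cfsg
open Cfsg.Agent.OddLocal
open Cfsg.Agent.OddLocal.Sigma (IsSupport Exc)
open scoped commutatorElement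

universe u

variable {G : Type u} [Group G] [Finite G]

/-- An element of prime order moved from `M` into `L`, both with empty `κ`, does not exist. -/
theorem kappa_empty_not_moved (hG : IsMinSimpleOddOrder G) {M L : Subgroup G} (hM : IsCoatom M)
    (hκ : kappa M = ∅) {p : ℕ} [hp : Fact p.Prime] {z : G} (hzo : orderOf z = p) (hzS : z ∈ sigmaCore M)
    (hS : IsSupport M L z) (hκL : kappa L = ∅) : False := by
  have hpl := Support.plen hG
  have hL := hS.coatom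
  obtain ⟨hpτ, hpσ⟩ := hS.tau2_primes p hp.out (by rw [hzo])
  have hz1 : z ≠ 1 := fun e => hp.out.one_lt.ne' (by rw [← hzo, e, orderOf_one])
  obtain ⟨A, hAE, hAe, hA2⟩ := Sigma.exists_ea_le_compl hG hS.compl hpτ
  obtain ⟨A0, hA⟩ := Sigma.exists_exc hG hpl hL hpτ.2.1 (hAE.trans hS.compl.1) hAe hA2
  have hnaL := tau2_nonabelian hG hL hκL hpτ
  obtain ⟨hLA0, -, hlines⟩ := hA.fpf_lines hG hpl hnaL hS.compl hpτ hAE
  have hzc : Nat.card (Subgroup.zpowers z) = p := by rw [Nat.card_zpowers, hzo]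
  have hzA : z ∈ A := ((Sigma.tau2_compl_facts hG hpl hL hS.compl hpτ ⟨hAE, hAe, hA2⟩).1.2 (Subgroup.zpowers z)
    (Subgroup.zpowers_le.mpr hS.mem) hzc) (Subgroup.mem_zpowers z)
  have hzA0 : Subgroup.zpowers z = A0 := by
    by_contra hne
    obtain ⟨-, a, ha, ha1, hac⟩ := hS.hat
    have h1 := (hlines _ (Subgroup.zpowers_le.mpr hzA) hzc hne).1
    refine ha1 (Subgroup.mem_bot.mp (h1.le ⟨ha, ?_⟩))
    rw [← Sigma.centralizer_singleton_eq (a := z) rfl]
    exact Subgroup.mem_centralizer_singleton_iff.mpr hac.symm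
  set H := sigmaCore L with hH
  have hHz : H ≤ Subgroup.centralizer ({z} : Set G) := by
    rw [Sigma.centralizer_singleton_eq hzA0]; exact hLA0
  have hV : ¬ H ⊓ Subgroup.centralizer ({z} : Set G) ≤ ⁅H, H⁆ := fun h =>
    Sigma.sigmaCore_ne_bot hG hL (le_bot_iff.mp (le_of_sup_derived hS.nilpotent bot_le (by
      rw [bot_sup_eq]; exact (le_inf le_rfl hHz).trans h)))
  set S0 := sigmaCore M with hS0
  have hAS : A ≤ S0 := Sigma.le_sigmaCore hG hM (hAE.trans inf_le_left)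
    (Sigma.mem_of_pGroup hA.maxEA.isPGroup hpσ)
  rcases Set.eq_empty_or_nonempty (tau2 M) with hτ | ⟨s, hsτ⟩
  · exact moved_false hG hκL hA hpτ hM hκ hτ hzA hz1 hAS hS hV
  haveI hs := Fact.mk hsτ.1
  obtain ⟨X, hX, -, hn⟩ := sigmaCore_nilpotent hG hM hκ
  haveI := hn
  have hSM : S0 ≤ M := Sigma.sigmaCore_le M
  have hMS := Sigma.le_normalizer_sigmaCore M
  obtain ⟨B, hBX, hBe, hB2⟩ := Sigma.exists_ea_le_compl hG hX hsτ
  obtain ⟨B0, hB⟩ := Sigma.exists_exc hG hpl hM hsτ.2.1 (hBX.trans hX.1) hBe hB2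
  have hnaM := tau2_nonabelian hG hM hκ hsτ
  obtain ⟨hC0, hinf, -⟩ := hB.fpf_lines hG hpl hnaM hX hsτ hBX
  have hXB : X ≤ Subgroup.normalizer (B : Set G) := hB.le_normalizer_of_compl hG hpl hX hBX
  have hB0X : B0 ≤ X := hB.le0.trans hBX
  have hB0M : B0 ≤ M := hB0X.trans hX.1
  have hMB0 : M ≤ Subgroup.normalizer (B0 : Set G) := by
    intro m hm
    obtain ⟨v, hv, k, hk, rfl⟩ := hX.2.2.2 m hm
    refine mul_mem (Coprime.mem_normalizer_of_conj_mem fun a ha => ?_)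
      (Subgroup.centralizer_le_normalizer _ (hC0 hk))
    rw [← hinf] at ha ⊢
    exact ⟨(Subgroup.mem_normalizer_iff.mp (hXB hv) a).mp ha.1,
      Sigma.conj_mem_centralizer (hMS (hX.1 hv)) ha.2⟩
  have hmb : ∀ m ∈ S0, ∀ b ∈ B0, Commute b m := fun m hm b hb =>
    Subgroup.mem_centralizer_iff.mp (hC0 hm) b hb
  have hdisjB : S0 ⊓ B0 = ⊥ := le_bot_iff.mp fun a ha => hX.2.2.1.le ⟨hB0X ha.2, ha.1⟩
  have hfix : ∀ v ∈ X, ∀ y ∈ S0, y ≠ 1 → v * y = y * v → v ∈ B0 := fun v hv y hy hy1 h =>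
    fixed_mem hG hB hκ hsτ hnaM hX hBX hv hy hy1 h
  -- the Sylow `p`-subgroup
  obtain ⟨T₀, hTS, hMT⟩ := Sigma.le_normalizer_sylow_of_nilpotent' hG hM hpσ
  set T := (T₀ : Subgroup G) with hTdef
  have hTp : IsPGroup p T := T₀.isPGroup'
  have hAT : A ≤ T :=
    Sigma.le_sylow_of_le_normalizer hA.maxEA.isPGroup T₀ ((hAS.trans hSM).trans hMT)
  have hTna : ¬ IsMulCommutative T := hnaL T₀
  set C := S0 ⊓ L with hC
  have hCE : C ≤ M ⊓ L := le_inf (inf_le_left.trans hSM) inf_le_right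
  haveI : Group.IsNilpotent C := Core.isNilpotent_of_le (inf_le_left : C ≤ S0) hn
  have hCc : IsMulCommutative C := Sigma.isMulCommutative_of_nilpotent_le hG hpl hL (inf_le_right : C ≤ L)
    fun q hq hd => Sigma.complIn_notMem_sigma hG hL hS.compl hq (hd.trans (Subgroup.card_dvd_of_le hCE))
  have hother : ∀ {t : ℕ}, t.Prime → t ≠ p → ∀ {R : Subgroup G}, IsPGroup t R → R ≤ S0 → R ≤ C := by
    intro t ht htp R hR hRS
    haveI := Fact.mk ht
    refine le_inf hRS (le_trans (fun a ha => ?_) hS.le)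
    refine Subgroup.mem_centralizer_singleton_iff.mpr (Sigma.commute_of_mem_nilpotent hn (hRS ha) hzS ?_).eq
    obtain ⟨k, hk⟩ := IsPGroup.iff_card.mp hR
    refine Nat.Coprime.coprime_dvd_left (hk ▸ Subgroup.orderOf_dvd_natCard _ ha) ?_
    rw [hzo]
    exact ((Nat.coprime_primes ht hp.out).mpr htp).pow_left k
  have hSTC : S0 ≤ T ⊔ C := Core.le_of_forall_exists_sylow_le fun t ht => by
    haveI := Fact.mk ht
    obtain ⟨R⟩ := (inferInstance : Nonempty (Sylow t S0))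
    refine ⟨R, ?_⟩
    have hRS : (R : Subgroup S0).map S0.subtype ≤ S0 := Subgroup.map_subtype_le _
    by_cases htp : t = p
    · subst htp
      exact (Sigma.le_sylow_of_le_normalizer (R.isPGroup'.map _) T₀ ((hRS.trans hSM).trans hMT)).trans le_sup_left
    · exact (hother ht htp (R.isPGroup'.map _) hRS).trans le_sup_right
  set S1 := ⁅S0, S0⁆ with hS1
  have hS1S : S1 ≤ S0 := Coprime.commutator_le_of_le_normalizer Subgroup.le_normalizer
  have hS1T : S1 ≤ T := by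
    refine Subgroup.commutator_le.mpr ?_
    have hCT : C ≤ Subgroup.normalizer (T : Set G) := (hCE.trans inf_le_left).trans hMT
    intro a ha b hb
    obtain ⟨t, ht, c, hc, rfl⟩ := Coprime.exists_mul_of_mem_sup hCT (hSTC ha)
    obtain ⟨t', ht', c', hc', rfl⟩ := Coprime.exists_mul_of_mem_sup hCT (hSTC hb)
    have hcc : c * c' = c' * c := congrArg Subtype.val (hCc.is_comm.comm ⟨c, hc⟩ ⟨c', hc'⟩)
    have hcomm : ∀ g ∈ C, ∀ s ∈ T, g * s * g⁻¹ ∈ T := fun g hg s hs =>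
      (Subgroup.mem_normalizer_iff.mp (hCT hg) s).mp hs
    have hcc' : c' * c⁻¹ = c⁻¹ * c' := by
      rw [eq_inv_mul_iff_mul_eq, ← mul_assoc, hcc, mul_inv_cancel_right]
    have e : ⁅t * c, t' * c'⁆ = t * (c * t' * c⁻¹) * (c' * t⁻¹ * c'⁻¹) * t'⁻¹ := by
      calc ⁅t * c, t' * c'⁆ = t * c * t' * (c' * c⁻¹) * t⁻¹ * c'⁻¹ * t'⁻¹ := by
            simp only [commutatorElement_def]; group
        _ = t * (c * t' * c⁻¹) * (c' * t⁻¹ * c'⁻¹) * t'⁻¹ := by rw [hcc']; group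
    rw [e]
    exact T.mul_mem (T.mul_mem (T.mul_mem ht (hcomm c hc t' ht')) (hcomm c' hc' _ (T.inv_mem ht))) (T.inv_mem ht')
  have hMS1 : M ≤ Subgroup.normalizer (S1 : Set G) := fun m hm =>
    Sigma.mem_normalizer_commutator (hMS hm) (hMS hm)
  have hC1 : ∀ w ∈ S1, w ≠ 1 → Subgroup.centralizer ({w} : Set G) ≤ M := by
    intro w hw hw1
    obtain ⟨n, hn'⟩ : ∃ n, orderOf w = p ^ n := by
      obtain ⟨n, hn'⟩ := IsPGroup.iff_orderOf.mp hTp ⟨w, hS1T hw⟩
      exact ⟨n, by rw [← hn', Subgroup.orderOf_mk]⟩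
    have hn0 : n ≠ 0 := fun e => hw1 (orderOf_eq_one_iff.mp (by rw [hn', e, pow_zero]))
    set w1 := w ^ (orderOf w / p)
    have hw1o : orderOf w1 = p :=
      orderOf_pow_orderOf_div (orderOf_pos w).ne' (hn' ▸ dvd_pow_self p hn0)
    have h := (Sigma.sigma_order_p hG hpl hM hpσ
      (Subgroup.zpowers_le.mpr (hSM (hS1S (pow_mem hw _))) : Subgroup.zpowers w1 ≤ M)
      (by rw [Nat.card_zpowers, hw1o]) (Or.inr (Subgroup.zpowers_le.mpr (pow_mem hw _)))).1.1
    refine le_trans (fun c hc => ?_) h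
    rw [← Sigma.centralizer_singleton_eq (a := w1) rfl]
    exact Subgroup.mem_centralizer_singleton_iff.mpr
      ((show Commute c w from Subgroup.mem_centralizer_singleton_iff.mp hc).pow_right _).eq
  have hz' : z ∉ S1 := fun h => hS.notLe (hC1 z h hz1)
  -- `|T : S1| ≥ p ^ 2`
  have hTsize : p ^ 2 * Nat.card S1 ≤ Nat.card T := by
    by_contra hlt
    obtain ⟨a, ha⟩ := IsPGroup.iff_card.mp hTp
    obtain ⟨b, hb⟩ := IsPGroup.iff_card.mp (hTp.to_le hS1T)
    have hlt' : p ^ a < p ^ (b + 2) := by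
      have h3 : Nat.card T < p ^ 2 * Nat.card S1 := not_le.mp hlt
      rw [ha, hb] at h3
      rwa [pow_add, mul_comm]
    have hab : a < b + 2 := (Nat.pow_lt_pow_iff_right hp.out.one_lt).mp hlt'
    have hT' : T ≤ Subgroup.zpowers z ⊔ S1 := by
      have hzT : Subgroup.zpowers z ≤ T := Subgroup.zpowers_le.mpr (hAT hzA)
      have hdisj : Subgroup.zpowers z ⊓ S1 = ⊥ := by
        refine le_bot_iff.mp fun y hy => by_contra fun hy1 => hz' ?_
        have := Sigma.zpowers_eq_of_card_prime hzc hy.1 hy1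
        exact (Subgroup.zpowers_le.mpr hy.2) (this.ge (Subgroup.mem_zpowers z))
      refine (Subgroup.eq_of_le_of_card_ge (sup_le hzT hS1T) ?_).ge
      have hzN : Subgroup.zpowers z ≤ Subgroup.normalizer (S1 : Set G) :=
        Subgroup.zpowers_le.mpr (hMS1 (hSM hzS))
      rw [sup_comm, Coprime.card_sup hzN (by rw [inf_comm]; exact hdisj), hzc, hb, ha, ← pow_succ]
      exact Nat.pow_le_pow_right hp.out.pos (by omega)
    have hSC : S0 ≤ C := le_of_sup_derived hn (inf_le_left : C ≤ S0) (hSTC.trans (sup_le (hT'.trans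
      (sup_le (le_sup_of_le_left (Subgroup.zpowers_le.mpr ⟨hzS, hA.le hzA⟩)) le_sup_right)) le_sup_left))
    exact hTna ⟨⟨fun u v => Subtype.ext (congrArg Subtype.val
      (hCc.is_comm.comm ⟨u, hSC (hTS u.2)⟩ ⟨v, hSC (hTS v.2)⟩) :)⟩⟩
  -- the kernel
  set K := S0 ⊔ B0 with hKdef
  set Nn := S1 ⊔ B0 with hNdef
  have hB0S : B0 ≤ Subgroup.normalizer (S0 : Set G) := hB0M.trans hMS
  have hB0S1 : B0 ≤ Subgroup.normalizer (S1 : Set G) := hB0M.trans hMS1
  have hKmem : ∀ k ∈ K, ∃ m ∈ S0, ∃ b ∈ B0, m * b = k := fun k hk => by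
    obtain ⟨m, hm, b, hb, e⟩ := Coprime.exists_mul_of_mem_sup hB0S hk
    exact ⟨m, hm, b, hb, e⟩
  have hNmem : ∀ k ∈ Nn, ∃ m ∈ S1, ∃ b ∈ B0, m * b = k := fun k hk => by
    obtain ⟨m, hm, b, hb, e⟩ := Coprime.exists_mul_of_mem_sup hB0S1 hk
    exact ⟨m, hm, b, hb, e⟩
  have hKM : K ≤ M := sup_le hSM hB0M
  have hMK : M ≤ Subgroup.normalizer (K : Set G) := fun m hm => Sigma.mem_normalizer_sup (hMS hm) (hMB0 hm)
  have hMN : M ≤ Subgroup.normalizer (Nn : Set G) := fun m hm => Sigma.mem_normalizer_sup (hMS1 hm) (hMB0 hm)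
  have hNK : Nn ≤ K := sup_le_sup_right hS1S B0
  have hB0c : ∀ b ∈ B0, ∀ b' ∈ B0, Commute b b' := fun b hb b' hb' =>
    congrArg Subtype.val (hB.maxEA.ea.1.is_comm.comm ⟨b, hB.le0 hb⟩ ⟨b', hB.le0 hb'⟩)
  have hK'N : ⁅K, K⁆ ≤ Nn := by
    refine Subgroup.commutator_le.mpr fun x hx y hy => ?_
    obtain ⟨m, hm, b, hb, rfl⟩ := hKmem x hx
    obtain ⟨m', hm', b', hb', rfl⟩ := hKmem y hy
    have e : ⁅m * b, m' * b'⁆ = ⁅m, m'⁆ := by
      have c1 : Commute b (m' * b') := (hmb m' hm' b hb).mul_right (hB0c b hb b' hb')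
      have c2 : Commute b' m := hmb m hm b' hb'
      calc ⁅m * b, m' * b'⁆ = m * (b * (m' * b') * b⁻¹) * m⁻¹ * (m' * b')⁻¹ := by
            simp only [commutatorElement_def]; group
        _ = m * m' * (b' * m⁻¹) * b'⁻¹ * m'⁻¹ := by rw [c1.eq, mul_inv_cancel_right]; group
        _ = ⁅m, m'⁆ := by rw [c2.inv_right.eq, commutatorElement_def]; group
    rw [e]
    exact Subgroup.mem_sup_left (Subgroup.commutator_mem_commutator hm hm')
  have hNS : ∀ k ∈ Nn, k ∈ S0 → k ∈ S1 := fun k hk hkS => by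
    obtain ⟨m, hm, b, hb, rfl⟩ := hNmem k hk
    have : b = 1 := Subgroup.mem_bot.mp (hdisjB.le ⟨by simpa using S0.mul_mem (S0.inv_mem (hS1S hm)) hkS, hb⟩)
    rw [this, mul_one]; exact hm
  have hn0 : ¬ s ∣ Nat.card S0 := hB.not_dvd_sigmaCore
  have hpow : ∀ k ∈ K, k ^ Nat.card S0 ∈ B0 ∧ (k ∉ S0 → k ^ Nat.card S0 ≠ 1) := fun k hk => by
    obtain ⟨m, hm, b, hb, rfl⟩ := hKmem k hk
    rw [(hmb m hm b hb).symm.mul_pow, orderOf_dvd_iff_pow_eq_one.mp (Subgroup.orderOf_dvd_natCard S0 hm), one_mul]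
    refine ⟨pow_mem hb _, fun hnot h1 => hnot ?_⟩
    have hbd : orderOf b ∣ s := hB.card0 ▸ Subgroup.orderOf_dvd_natCard B0 hb
    have hb1 : b = 1 := orderOf_eq_one_iff.mp (Nat.eq_one_of_dvd_coprimes
      (hs.out.coprime_iff_not_dvd.mpr hn0) hbd (orderOf_dvd_of_pow_eq_one h1))
    rwa [hb1, mul_one]
  have hCB0 : ∀ b ∈ B0, b ≠ 1 → Subgroup.centralizer ({b} : Set G) ≤ M := fun b hb hb1 => by
    rw [Sigma.centralizer_singleton_eq (Sigma.zpowers_eq_of_card_prime hB.card0 hb hb1)]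
    exact (Subgroup.centralizer_le_normalizer _).trans hB.norm
  have hout : ∀ a ∈ K, a ∉ S0 → Subgroup.centralizer ({a} : Set G) ≤ M := fun a ha hna' =>
    le_trans (fun c hc => Subgroup.mem_centralizer_singleton_iff.mpr
      ((show Commute c a from Subgroup.mem_centralizer_singleton_iff.mp hc).pow_right _).eq)
      (hCB0 _ (hpow a ha).1 ((hpow a ha).2 hna'))
  have hB0E : B0 ≤ M ⊓ L := le_inf hB0M (le_trans (fun b hb => Subgroup.mem_centralizer_singleton_iff.mpr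
    (hmb z hzS b hb).eq) hS.le)
  have hsL : s ∉ sigma L := Sigma.complIn_notMem_sigma hG hL hS.compl hs.out
    (hB.card0 ▸ Subgroup.card_dvd_of_le hB0E)
  have hKσ : ∀ q : ℕ, q.Prime → q ∣ Nat.card K → q ∉ sigma L := by
    intro q hq hd
    rw [hKdef, Coprime.card_sup hB0S hdisjB, hB.card0] at hd
    haveI := Fact.mk hq
    rcases hq.dvd_mul.mp hd with h | h
    · by_cases hqp : q = p
      · exact hqp ▸ hpτ.2.1
      obtain ⟨x', hx'⟩ := exists_prime_orderOf_dvd_card' q h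
      have hpg : IsPGroup q (Subgroup.zpowers (x' : G)) := IsPGroup.of_card (n := 1) (by
        rw [Nat.card_zpowers, Subgroup.orderOf_coe, hx', pow_one])
      refine Sigma.complIn_notMem_sigma hG hL hS.compl hq ?_
      have := Subgroup.card_dvd_of_le ((hother hq hqp hpg (Subgroup.zpowers_le.mpr x'.2)).trans hCE)
      rwa [Nat.card_zpowers, Subgroup.orderOf_coe, hx'] at this
    · exact (Nat.prime_dvd_prime_iff_eq hq hs.out).mp h ▸ hsL
  -- the index
  have hKcard : Nat.card K = Nat.card S0 * s := by rw [hKdef, Coprime.card_sup hB0S hdisjB, hB.card0]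
  set e := Nat.card X / s with hedef
  have hs2 : s ^ 2 ∣ Nat.card X := hB.maxEA.card ▸ Subgroup.card_dvd_of_le hBX
  have hes : e * s = Nat.card X := Nat.div_mul_cancel ((dvd_pow_self s two_ne_zero).trans hs2)
  have hse : s ∣ e := by
    refine Nat.dvd_of_mul_dvd_mul_right hs.out.pos ?_
    rw [hes, ← pow_two]; exact hs2
  have he0 : 0 < e := Nat.pos_of_ne_zero fun h => by
    rw [h, zero_mul] at hes; exact Nat.card_pos.ne' hes.symm
  have hsle : s ≤ e := Nat.le_of_dvd he0 hse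
  have hindex : e * Nat.card K = Nat.card M := by
    rw [hKcard, ← IsComplIn.card_mul hX, ← hes, ← hS0]; ring
  -- `e ∣ p - 1`
  set Z := Sigma.omegaCenter p T
  have hT1 : T ≠ ⊥ := fun e => hA.maxEA.ne_bot (le_bot_iff.mp (e ▸ hAT))
  have hZA : Z ≤ A := fun x hx => hA.maxEA.full x (Subgroup.centralizer_le hAT hx.1.2) hx.2
  have hZne : Z ≠ A := fun e => hTna (hA.isMulCommutative_of_pGroup hG hpl hTp (le_trans (fun x hx =>
    Subgroup.mem_centralizer_iff.mpr fun a ha =>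
      (Subgroup.mem_centralizer_iff.mp (e.ge ha : a ∈ Z).1.2 x hx).symm) hA.centralizer_le))
  have hZ1 : Z ≠ ⊥ := Sigma.omegaCenter_ne_bot hTp hT1
  have hZc : Nat.card Z = p := by
    have h1 := Sigma.card_le_of_lt_sq hA.maxEA.card (lt_of_le_of_ne hZA hZne)
    obtain ⟨k, hk⟩ := IsPGroup.iff_card.mp (hA.maxEA.isPGroup.to_le hZA)
    have hk0 : k ≠ 0 := fun e0 => hZ1 (Subgroup.eq_bot_of_card_eq _ (by rw [hk, e0, pow_zero]))
    exact le_antisymm h1 (hk ▸ Nat.le_self_pow hk0 p)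
  have hXZ : X ≤ Subgroup.normalizer (Z : Set G) :=
    (hX.1.trans hMT).trans (Sigma.le_normalizer_omegaCenter p T)
  set f := Z.normalizerMonoidHom.comp (Subgroup.inclusion hXZ) with hf
  have hker : f.ker = B0.subgroupOf X := by
    ext v
    rw [MonoidHom.mem_ker, Subgroup.mem_subgroupOf]
    constructor
    · intro h
      obtain ⟨a, ha, ha1⟩ := Z.bot_or_exists_ne_one.resolve_left hZ1
      exact hfix v v.2 a (hAS (hZA ha)) ha1 (mul_inv_eq_iff_eq_mul.mp (congrArg Subtype.val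
        (DFunLike.congr_fun h ⟨a, ha⟩ : (f v) ⟨a, ha⟩ = (1 : MulAut Z) ⟨a, ha⟩) :
          (v : G) * a * (v : G)⁻¹ = a))
    · intro h
      refine MulEquiv.ext fun a => Subtype.ext ?_
      show (v : G) * (a : G) * (v : G)⁻¹ = a
      rw [(hmb a (hAS (hZA a.2)) v h).eq, mul_inv_cancel_right]
  have hRcard : Nat.card f.range = e := by
    rw [← Subgroup.index_ker, hker]
    refine Nat.eq_of_mul_eq_mul_left hs.out.pos ?_
    have h2 := Core.card_mul_relIndex hB0X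
    rw [hB.card0, ← hes, mul_comm e] at h2
    exact h2
  have hep1 : e ∣ p - 1 := by
    haveI : IsCyclic Z := isCyclic_of_prime_card hZc
    haveI : Finite (MulAut Z) := Finite.of_injective (fun a => (a : Z → Z)) DFunLike.coe_injective
    have h1 := Subgroup.card_subgroup_dvd_card f.range
    rwa [hRcard, IsCyclic.card_mulAut, hZc, Nat.totient_prime hp.out] at h1
  have hp2 : p ≠ 2 := Sigma.ne_two_of_dvd hG (Sigma.sigma_dvd hpσ)
  have hs3 : 3 ≤ s := by
    have h2 : s ≠ 2 := Sigma.ne_two_of_dvd hG (hB.card0 ▸ Subgroup.card_subgroup_dvd_card B0)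
    have := hs.out.two_le
    omega
  have h2e : 2 * e < p := by
    have heodd : Odd e := Sigma.odd_of_dvd hG ((Dvd.intro s hes).trans (Subgroup.card_subgroup_dvd_card X))
    have hp3 := hp.out.two_le
    have hpodd := Nat.odd_iff.mp (hp.out.odd_of_ne_two hp2)
    have := Nat.le_of_dvd (by omega) ((Nat.coprime_two_left.mpr heodd).mul_dvd_of_dvd_of_dvd
      (show 2 ∣ p - 1 by omega) hep1)
    omega
  -- the intersection with `L`
  have hTL : ¬ T ≤ L := fun h => hTna ⟨⟨fun u v => Subtype.ext (congrArg Subtype.val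
    (hCc.is_comm.comm ⟨u, hTS u.2, h u.2⟩ ⟨v, hTS v.2, h v.2⟩) :)⟩⟩
  have hTK : T ≤ K := hTS.trans le_sup_left
  have hEK : Nat.card ↥(M ⊓ L) ≤ Nat.card K := by
    have h1 := Core.card_mul_relIndex (inf_le_right : (M ⊓ L) ⊓ K ≤ K)
    have h2 := Core.card_mul_relIndex (inf_le_left : (M ⊓ L) ⊓ K ≤ M ⊓ L)
    rw [Subgroup.inf_relIndex_left] at h2
    rw [Subgroup.inf_relIndex_right] at h1
    have h3 : K.relIndex (M ⊓ L) ≤ e := by
      refine (Subgroup.relIndex_le_of_le_right (inf_le_left : M ⊓ L ≤ M) Subgroup.index_ne_zero_of_finite).trans ?_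
      refine le_of_eq (Nat.eq_of_mul_eq_mul_left (Nat.card_pos (α := K)) ?_)
      rw [Core.card_mul_relIndex hKM, ← hindex, mul_comm]
    have h4 : p ≤ (M ⊓ L).relIndex K := by
      refine le_trans ?_ (Subgroup.relIndex_le_of_le_right hTK Subgroup.index_ne_zero_of_finite)
      have h5 := Core.card_mul_relIndex (inf_le_right : (M ⊓ L) ⊓ T ≤ T)
      rw [Subgroup.inf_relIndex_right] at h5
      obtain ⟨a, ha⟩ := IsPGroup.iff_card.mp hTp
      obtain ⟨i, -, hi⟩ := (Nat.dvd_prime_pow hp.out).mp (ha ▸ h5 ▸ dvd_mul_left ((M ⊓ L).relIndex T) _)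
      rcases i with _ | i
      · rw [pow_zero, Subgroup.relIndex_eq_one] at hi
        exact absurd (hi.trans inf_le_right) hTL
      · rw [hi]; exact Nat.le_self_pow i.succ_ne_zero p
    calc Nat.card ↥(M ⊓ L) = Nat.card ↥((M ⊓ L) ⊓ K) * K.relIndex (M ⊓ L) := h2.symm
      _ ≤ Nat.card ↥((M ⊓ L) ⊓ K) * (M ⊓ L).relIndex K := Nat.mul_le_mul_left _ (by omega)
      _ = Nat.card K := h1
  -- Dade data
  haveI : Fintype G := Fintype.ofFinite G
  have hdM : DadeHypothesis ((K : Set G) \ {1}) M (supportR M) := by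
    refine (Support.dade_of hG hM (A := (K : Set G) \ {1}) (fun a ha => hKM ha.1) (fun h => h.2 rfl)
      ⟨z, Subgroup.mem_sup_left hzS, hz1⟩ (fun m hm v hv =>
        ⟨(Subgroup.mem_normalizer_iff.mp (hMK hm) v).mp hv.1, fun h => hv.2 (conj_eq_one_iff.mp h)⟩)
      (fun _ v hv => ⟨hKM hv.1, ?_⟩)
      (fun a ha hnot g hg => hB.norm (Sigma.cj_eq_iff.mp ?_))).2
    · obtain ⟨m, hm, b, hb, hmb'⟩ := hKmem v hv.1
      by_cases hm1 : m = 1
      · refine ⟨z, hzS, hz1, ?_⟩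
        rw [← hmb', hm1, one_mul]
        exact (hmb z hzS b hb).eq
      · refine ⟨m, hm, hm1, ?_⟩
        rw [← hmb']
        exact ((Commute.refl m).mul_left (hmb m hm b hb)).eq
    · have h1 := (hpow a ha.1).2 hnot
      have h2 := (hpow _ hg.1).1
      rw [conj_pow] at h2
      conv_lhs => rw [← Sigma.zpowers_eq_of_card_prime hB.card0 (hpow a ha.1).1 h1]
      rw [Sigma.cj, MonoidHom.map_zpowers]
      simp only [MulEquiv.coe_toMonoidHom, MulAut.conj_apply]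
      exact Sigma.zpowers_eq_of_card_prime hB.card0 h2 fun h => h1 (conj_eq_one_iff.mp h)
  have hdL : DadeHypothesis ((H : Set G) \ {1}) L (supportR L) := by
    obtain ⟨a, ha, ha1⟩ := H.bot_or_exists_ne_one.resolve_left (Sigma.sigmaCore_ne_bot hG hL)
    exact (Support.dade_of hG hL (A := (H : Set G) \ {1}) (fun a ha => Sigma.sigmaCore_le L ha.1)
      (fun h => h.2 rfl) ⟨a, ha, ha1⟩ (fun m hm v hv => ⟨(Subgroup.mem_normalizer_iff.mp
        (Sigma.le_normalizer_sigmaCore L hm) v).mp hv.1, fun e => hv.2 (conj_eq_one_iff.mp e)⟩)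
      (fun _ v hv => ⟨Sigma.sigmaCore_le L hv.1, v, hv.1, hv.2, rfl⟩) (fun a ha hn => absurd ha.1 hn)).2
  have hdisj : ∀ g ∈ dadeSupport ((H : Set G) \ {1}) (supportR L),
      g ∉ dadeSupport ((K : Set G) \ {1}) (supportR M) := by
    intro g hg hg'
    obtain ⟨a, ha, u, hu, y, he⟩ := hg
    obtain ⟨b, hb, v, hv, y', he'⟩ := hg'
    by_cases hbσ : b ∈ sigmaCore M
    · exact (Set.eq_empty_iff_forall_notMem.mp (Sigma.tildeOf_disjoint hG hpl hM hL hS.nc)) g
        ⟨⟨b, ⟨hbσ, hb.2⟩, v, hv, y'⁻¹, by rw [← he']; group⟩, ⟨a, ha, u, hu, y⁻¹, by rw [← he]; group⟩⟩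
    rw [Sigma.supportR_eq_bot (hout b hb.1 hbσ), Subgroup.mem_bot] at hv
    have hau : Commute a u := (Subgroup.mem_centralizer_singleton_iff.mp (hdL.le_centralizer a ha hu)).symm
    have hcop : (orderOf a).Coprime (orderOf u) := Nat.coprime_of_dvd fun q hq h1 h2 =>
      (Sigma.supportR_facts hG hpl hL ha.1 ha.2).2.2.2.2.1 u hu q hq h2
        (Sigma.mem_sigma_of_dvd hq (h1.trans (Subgroup.orderOf_dvd_natCard _ ha.1)))
    have ho : orderOf (a * u) = orderOf b := by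
      have e1 : orderOf g = orderOf (a * u) := by rw [← he, Sigma.orderOf_conj_eq]
      have e2 : orderOf g = orderOf b := by rw [← mul_one b, ← hv, ← he', Sigma.orderOf_conj_eq]
      rw [← e1, e2]
    obtain ⟨q, hq, hqa⟩ := Nat.exists_prime_and_dvd (show orderOf a ≠ 1 by
      rw [ne_eq, orderOf_eq_one_iff]; exact ha.2)
    refine hKσ q hq ((hqa.trans ?_).trans (Subgroup.orderOf_dvd_natCard K hb.1))
      (Sigma.mem_sigma_of_dvd hq (hqa.trans (Subgroup.orderOf_dvd_natCard _ ha.1)))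
    rw [← ho, hau.orderOf_mul_eq_mul_orderOf_of_coprime hcop]
    exact dvd_mul_right _ _
  have hNT : Nn ⊓ T = S1 := le_antisymm (fun k hk => hNS k hk.1 (hTS hk.2)) (le_inf le_sup_left hS1T)
  have hbig : p ^ 2 * Nat.card Nn ≤ Nat.card K := by
    rw [hNdef, hKcard, Coprime.card_sup hB0S1 (le_bot_iff.mp fun a ha => hdisjB.le ⟨hS1S ha.1, ha.2⟩), hB.card0,
      ← mul_assoc]
    exact Nat.mul_le_mul_right s (hTsize.trans (Nat.le_of_dvd Nat.card_pos (Subgroup.card_dvd_of_le hTS)))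
  refine Cfg.false (M := M) (L := L) (K := K) (N := Nn) (H := H) (A := A) (T := T) (z := z) (e := e)
    ⟨hKM, hMK, hMN, hNK, hK'N, hbig, hTK, hTp, hindex, by omega, by omega, ?_, hdM, hdL, hdisj, ?_,
      Subgroup.mem_sup_left hzS, hzo, fun h => hz' (hNS z h hzS), Sigma.sigmaCore_le L,
      Sigma.le_normalizer_sigmaCore L, hzA, hA.maxEA.isPGroup, hA.maxEA.ea.1, hA.le,
      hA.inf_centralizer_eq_bot hG hpl, hA.not_dvd_sigmaCore, ?_, hV, ?_, ?_,
      Or.inr (Or.inl ⟨h2e, hEK, B0, le_sup_right, ?_, ?_, ?_, ?_, ?_⟩)⟩ hp.out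
  · intro g hg hgK x hx hgx
    obtain ⟨v, hv, k, hk, rfl⟩ := hX.2.2.2 g hg
    have hv0 : v ∉ B0 := fun h => hgK (mul_mem (Subgroup.mem_sup_right h) (Subgroup.mem_sup_left hk))
    obtain ⟨m, hm, b, hb, rfl⟩ := hKmem x hx
    set g := v * k with hgdef
    have hgm : g * m * g⁻¹ ∈ S0 := (Subgroup.mem_normalizer_iff.mp (hMS hg) m).mp hm
    have hgb : g * b * g⁻¹ * b⁻¹ ∈ B0 :=
      B0.mul_mem ((Subgroup.mem_normalizer_iff.mp (hMB0 hg) b).mp hb) (B0.inv_mem hb)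
    have h1 : g * m * g⁻¹ * m⁻¹ ∈ Nn := by
      have h2 := Nn.mul_mem hgx (Subgroup.mem_sup_right (B0.inv_mem hgb) : _ ∈ Nn)
      rwa [show g * (m * b) * g⁻¹ * (m * b)⁻¹ * (g * b * g⁻¹ * b⁻¹)⁻¹ =
        g * m * g⁻¹ * m⁻¹ by
          calc g * (m * b) * g⁻¹ * (m * b)⁻¹ * (g * b * g⁻¹ * b⁻¹)⁻¹
              = (g * m * g⁻¹) * ((g * b * g⁻¹ * b⁻¹) * m⁻¹) * (g * b * g⁻¹ * b⁻¹)⁻¹ := by group
            _ = g * m * g⁻¹ * m⁻¹ := by
              rw [(hmb m hm _ hgb).inv_right.eq, ← mul_assoc, mul_inv_cancel_right]] at h2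
    have hvx : v * m * v⁻¹ * m⁻¹ ∈ S1 := by
      have h2 : g * m * g⁻¹ * m⁻¹ ∈ S1 := hNS _ h1 (S0.mul_mem hgm (S0.inv_mem hm))
      have hkm : k * m * k⁻¹ * m⁻¹ ∈ S1 := Subgroup.commutator_mem_commutator hk hm
      have h3 := (Subgroup.mem_normalizer_iff.mp (hMS1 (hX.1 hv)) _).mp (inv_mem hkm)
      have h4 := mul_mem h3 h2
      rwa [show v * (k * m * k⁻¹ * m⁻¹)⁻¹ * v⁻¹ * (g * m * g⁻¹ * m⁻¹) = v * m * v⁻¹ * m⁻¹ by
        rw [hgdef]; group] at h4
    have hfx : ∀ a ∈ S0, v * a * v⁻¹ = a → a = 1 := fun a ha h =>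
      by_contra fun ha1 => hv0 (hfix v hv a ha ha1 (mul_inv_eq_iff_eq_mul.mp h))
    have hinj : ∀ a ∈ S0, ∀ b ∈ S0, v * a * v⁻¹ * a⁻¹ = v * b * v⁻¹ * b⁻¹ → a = b := fun a ha b hb h => by
      have h1 : v * (b⁻¹ * a) * v⁻¹ = b⁻¹ * a := by
        calc v * (b⁻¹ * a) * v⁻¹ = (v * b * v⁻¹)⁻¹ * (v * a * v⁻¹ * a⁻¹) * a := by group
          _ = (v * b * v⁻¹)⁻¹ * (v * b * v⁻¹ * b⁻¹) * a := by rw [h]
          _ = b⁻¹ * a := by group
      exact (inv_mul_eq_one.mp (hfx _ (S0.mul_mem (S0.inv_mem hb) ha) h1)).symm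
    let F : S1 → S1 := fun a => ⟨v * a * v⁻¹ * (a : G)⁻¹,
      mul_mem ((Subgroup.mem_normalizer_iff.mp (hMS1 (hX.1 hv)) a).mp a.2) (inv_mem a.2)⟩
    have hF : Function.Injective F := fun a b h =>
      Subtype.ext (hinj a (hS1S a.2) b (hS1S b.2) (congrArg Subtype.val h))
    obtain ⟨a, ha⟩ := Finite.injective_iff_surjective.mp hF ⟨_, hvx⟩
    have := hinj a (hS1S a.2) m hm (congrArg Subtype.val ha)
    exact mul_mem (Subgroup.mem_sup_left (this ▸ a.2)) (Subgroup.mem_sup_right hb)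
  · intro w hw hw1
    refine Sigma.supportR_eq_bot ?_
    by_cases hwS : w ∈ S0
    · exact hC1 w (hNS w hw hwS) hw1
    · exact hout w (hNK hw) hwS
  · intro w hw hw1
    have hc : Subgroup.centralizer ({w} : Set G) = Subgroup.centralizer ({z} : Set G) := by
      rw [Sigma.centralizer_singleton_eq (Sigma.zpowers_eq_of_card_prime hzc hw hw1),
        ← Sigma.centralizer_singleton_eq (a := z) rfl]
    obtain ⟨Y, hY⟩ := Sigma.exists_support hG hpl hM ((Subgroup.zpowers_le.mpr hzS) hw) hw1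
      (by rw [hc]; exact hS.notLe)
    obtain rfl : Y = L := hS.only Y hY.coatom (hc ▸ hY.le)
    rw [hY.supportR_eq hG hpl, hc]
  · intro g _ hg
    refine Sigma.mem_of_cj_eq hG hL (hS.only _ (Sigma.isCoatom_cj hL g) ?_)
    rw [Sigma.centralizer_singleton_eq (a := z) rfl, ← Sigma.cj_eq_iff.mpr hg, ← Sigma.cj_centralizer]
    refine Sigma.cj_mono ?_
    rw [← Sigma.centralizer_singleton_eq (a := z) rfl]
    exact hS.le
  · rw [mul_comm, ← IsComplIn.card_mul hS.compl]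
  · exact le_bot_iff.mp fun b hb => hdisjB.le ⟨hTS hb.2, hb.1⟩
  · rw [hB.card0]; omega
  · exact fun b hb a ha => hmb a (hTS ha) b hb
  · intro k hk
    obtain ⟨m, hm, b, hb, rfl⟩ := hNmem k hk
    exact ⟨m, ⟨Subgroup.mem_sup_left hm, hS1T hm⟩, b, hb, rfl⟩
  · rw [hNT]; exact hTsize

end Cfsg.Agent.OddChar.Frob
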