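import Cfsg.Agent.OddChar.Frob.TypeFusionGen
import Cfsg.Agent.S1432
import Cfsg.Agent.S1436
import Cfsg.Agent.OddLocal.Sigma.Cover

/-! Supporting subgroups and the sets `Ã₁(S)`, `Ã(T)`. -/

set_option autoImplicit false
set_option linter.style.haveILetI false
set_option linter.unusedSectionVars false

namespace Cfsg.Agent.OddChar.Frob.Tilde

open Cfsg
open Cfsg.Agent.OddLocal Cfsg.Agent.OddLocal.Sigma
open scoped commutatorElement

variable {G : Type*} [Group G] [Finite G] (hG : IsMinSimpleOddOrder G)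
include hG

theorem mem_zpowers_of_commute {a r : G} (h : Commute a r) (hco : (orderOf a).Coprime (orderOf r)) :
    a ∈ Subgroup.zpowers (a * r) := by
  obtain ⟨k, hk1, hk2⟩ := Nat.chineseRemainder hco 1 0
  have e : (a * r) ^ k = a := by
    rw [h.mul_pow, pow_eq_pow_iff_modEq.mpr hk1, pow_one,
      orderOf_dvd_iff_pow_eq_one.mp ((Nat.modEq_zero_iff_dvd).mp hk2), mul_one]
  exact Subgroup.mem_zpowers_iff.mpr ⟨(k : ℤ), by rw [zpow_natCast]; exact e⟩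

theorem typeCore_le_sigmaCore {M : Subgroup G} (hM : IsCoatom M) : typeCore M ≤ sigmaCore M := by
  have hpl := Support.plen hG
  obtain ⟨⟨K, hK⟩, hcyc⟩ := kappa_hall hG hpl hM
  obtain ⟨V, hKV⟩ := exists_decomp hG hpl hM (hcyc K hK) hK
  unfold typeCore
  split_ifs with h
  · obtain ⟨hK1, hV, -⟩ := (Cfsg.Agent.S1382.result hG M hM K V hKV).mp h
    rw [(derived_eq_and_fixed_le hG hpl hM hKV hK1).1, hV, bot_sup_eq]
  · exact fittingHallOf_le_sigmaCore hG hpl hM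

theorem typeA_facts {T : Subgroup G} (hT : IsCoatom T) {b : G} (hb : b ∈ typeA T) :
    b ∈ T ∧ b ≠ 1 ∧ (∃ y ∈ sigmaCore T, y ≠ 1 ∧ b * y = y * b) ∧
      ∀ p : ℕ, p.Prime → p ∣ orderOf b → p ∉ kappa T := by
  have hpl := Support.plen hG
  obtain ⟨⟨K, hK⟩, hcyc⟩ := kappa_hall hG hpl hT
  obtain ⟨V, hKV⟩ := exists_decomp hG hpl hT (hcyc K hK) hK
  have hc := typeCore_le_sigmaCore hG hT
  have hF := fittingHallOf_le_sigmaCore hG hpl hT
  by_cases hK1 : K = ⊥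
  · have hκ := decomp_kappa_empty hG hpl hKV hK1
    rw [typeA, if_pos (OddChar.Frob.typeI_of_kappa_empty hG hT hκ)] at hb
    obtain ⟨hbT, hb1, y, hy, hy1, h⟩ := hb
    exact ⟨hbT, hb1, ⟨y, hF hy, hy1, h⟩, fun p _ _ h' => by rw [hκ] at h'; exact h'⟩
  rw [typeA, if_neg fun hI => hK1 (typeI_cases hG hpl hT hKV hI).1] at hb
  obtain ⟨hbD, hb1, y, hy, hy1, h⟩ := hb
  refine ⟨OddLocal.derived_le T hbD, hb1, ⟨y, hc hy, hy1, h⟩, fun p hp hpd hκ => ?_⟩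
  obtain ⟨-, hVp, -⟩ := decomp_facts hG hpl hT hKV
  have hVσ : V ⊓ sigmaCore T = ⊥ := inf_sigmaCore_eq_bot fun q hq hd => (hVp q hq hd).1
  rw [(derived_eq_and_fixed_le hG hpl hT hKV hK1).1] at hbD
  have h1 := hpd.trans (Subgroup.orderOf_dvd_natCard _ hbD)
  rw [sup_comm, Coprime.card_sup (hKV.compl.1.trans (le_normalizer_sigmaCore T))
    (by rw [inf_comm]; exact hVσ)] at h1
  rcases hp.dvd_mul.mp h1 with h2 | h2
  · exact hκ.2.2.1 (mem_sigma_of_dvd hp h2)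
  · exact (hVp p hp h2).2 hκ

theorem typeA1_subset {M : Subgroup G} (hM : IsCoatom M) : typeA1 M ⊆ typeA0 M := by
  have hpl := Support.plen hG
  obtain ⟨⟨K, hK⟩, hcyc⟩ := kappa_hall hG hpl hM
  obtain ⟨V, hKV⟩ := exists_decomp hG hpl hM (hcyc K hK) hK
  rintro x ⟨hx, hx1⟩
  refine Or.inl ?_
  by_cases hI : IsOfTypeI M
  · have hT : typeCore M = fittingHallOf M := if_neg fun h =>
      ((Cfsg.Agent.S1382.result hG M hM K V hKV).mp h).1 (typeI_cases hG hpl hM hKV hI).1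
    rw [typeA, if_pos hI]
    exact ⟨OddLocal.fittingHallOf_le M (hT.le hx), hx1, x, hT.le hx, hx1, rfl⟩
  · rw [typeA, if_neg hI]
    exact ⟨sigmaCore_le_derived hG hM (typeCore_le_sigmaCore hG hM hx), hx1, x, hx, hx1, rfl⟩

/-- An element of `S_σ` lying in `T` with fixed points on `T_σ`, outside `κ(T)`. -/
theorem core {S T : Subgroup G} (hS : IsCoatom S) (hT : IsCoatom T) (hnc : ∀ g : G, Sigma.cj g T ≠ S) {a : G}
    (haS : a ∈ sigmaCore S) (haT : a ∈ T) (ha1 : a ≠ 1) {y : G} (hy : y ∈ sigmaCore T) (hy1 : y ≠ 1)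
    (hay : a * y = y * a) (hκ : ∀ p : ℕ, p.Prime → p ∣ orderOf a → p ∉ kappa T) :
    (∀ p : ℕ, p.Prime → p ∣ orderOf a → p ∈ tau2 T) ∧ Subgroup.centralizer ({a} : Set G) ≤ T ∧
      ¬ Subgroup.centralizer ({a} : Set G) ≤ S := by
  have hpl := Support.plen hG
  have hσ : ∀ p : ℕ, p.Prime → p ∣ orderOf a → p ∉ sigma T := fun p hp hd => by
    haveI := Fact.mk hp
    exact sigma_disjoint hG hpl hS hT (fun g e => hnc g⁻¹ (by rw [e, Sigma.cj_inv_cj]))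
      (mem_sigma_of_dvd hp (hd.trans (Subgroup.orderOf_dvd_natCard _ haS)))
  rcases Cfsg.Agent.S1432.result hG T hT y hy hy1 a
    ⟨haT, Subgroup.mem_centralizer_singleton_iff.mpr hay⟩ ha1 hσ with ⟨h1, -⟩ | ⟨h1, -, h2, h3⟩
  · obtain ⟨p, hp, hd⟩ := Nat.exists_prime_and_dvd (show orderOf a ≠ 1 by rwa [ne_eq, orderOf_eq_one_iff])
    exact absurd (h1 p hp hd) (hκ p hp hd)
  · exact ⟨h1, h2, fun h => hnc 1 (by rw [Sigma.cj_one]; exact (h3 S hS h).symm)⟩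

/-- A common element of `Ã₁(S)` and `Ã(T)`. -/
theorem of_inter {S T : Subgroup G} (hS : IsCoatom S) (hT : IsCoatom T) (hnc : ∀ g : G, Sigma.cj g T ≠ S)
    (h : (tildeOf S (typeA1 S) ∩ tildeOf T (typeA T)).Nonempty) :
    ∃ a ∈ typeA1 S, ∃ c : G, ¬ Subgroup.centralizer ({a} : Set G) ≤ S ∧
      Subgroup.centralizer ({a} : Set G) ≤ Sigma.cj c T ∧ c⁻¹ * a * c ∈ T ∧
      ∀ p : ℕ, p.Prime → p ∣ orderOf a → p ∈ tau2 T := by
  have hpl := Support.plen hG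
  obtain ⟨u, ⟨a, ha, r, hr, y, hu⟩, b, hb, s, hs, y', hu'⟩ := h
  have haσ : a ∈ sigmaCore S := typeCore_le_sigmaCore hG hS ha.1
  have ha1 : a ≠ 1 := ha.2
  obtain ⟨hbT, hb1, ⟨w, hw, hw1, hbw⟩, hbκ⟩ := typeA_facts hG hT hb
  have hbσ : b ∉ sigmaCore T := fun hbσ =>
    (Set.eq_empty_iff_forall_notMem.mp (tildeOf_disjoint hG hpl hT hS (fun g e => hnc g (e.symm)))) u
      ⟨⟨b, ⟨hbσ, hb1⟩, s, hs, y', hu'⟩, ⟨a, ⟨haσ, ha1⟩, r, hr, y, hu⟩⟩
  have hs1 : s = 1 := by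
    rwa [supportR_eq_bot (by_contra fun hC => hbσ (Fusion.exceptional_facts' hG hpl hT (Or.inl hb) hC).1),
      Subgroup.mem_bot] at hs
  obtain ⟨-, hc, -, -, hrσ, -⟩ := supportR_facts hG hpl hS haσ ha1
  have har : Commute a r := (Subgroup.mem_centralizer_singleton_iff.mp (hc.2.1 hr)).symm
  have hco : (orderOf a).Coprime (orderOf r) := Nat.coprime_of_dvd fun q hq h1 h2 =>
    hrσ r hr q hq h2 (mem_sigma_of_dvd hq (h1.trans (Subgroup.orderOf_dvd_natCard _ haσ)))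
  set c := y'⁻¹ * y with hcdef
  have hbe : b = c * (a * r) * c⁻¹ := by
    rw [hs1, mul_one] at hu'
    rw [hcdef, show b = y'⁻¹ * (y' * b * y'⁻¹) * y' by group, ← hu', hu]
    group
  set a' := c * a * c⁻¹ with ha'def
  obtain ⟨k, hk⟩ := Subgroup.mem_zpowers_iff.mp (mem_zpowers_of_commute hG har hco)
  have ha'b : b ^ k = a' := by rw [hbe, conj_zpow, hk]
  have ha'T : a' ∈ T := ha'b ▸ zpow_mem hbT k
  have ha'w : a' * w = w * a' := ha'b ▸ ((show Commute b w from hbw).zpow_left k).eq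
  have ho : orderOf a' = orderOf a := orderOf_conj_eq c a
  have ha'κ : ∀ p : ℕ, p.Prime → p ∣ orderOf a' → p ∉ kappa T := fun p hp hd =>
    hbκ p hp (hd.trans (ha'b ▸ orderOf_dvd_of_mem_zpowers (Subgroup.mem_zpowers_iff.mpr ⟨k, rfl⟩)))
  have ha'S : a' ∈ sigmaCore (Sigma.cj c S) := Sigma.cj_sigmaCore hG hS c ▸ Sigma.conj_mem_cj_of_mem haσ
  obtain ⟨hτ, hle, hnle⟩ := core hG (isCoatom_cj hS c) hT (fun g e => hnc (c⁻¹ * g) (by
    rw [Sigma.cj_mul, e, Sigma.cj_inv_cj])) ha'S ha'T (fun e => ha1 (conj_eq_one_iff.mp e)) hw hw1 ha'w ha'κ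
  have hC : Subgroup.centralizer ({a'} : Set G) = Sigma.cj c (Subgroup.centralizer ({a} : Set G)) := by
    rw [centralizer_singleton_eq (a := a) rfl, Sigma.cj_centralizer, centralizer_singleton_eq (a := a') rfl, Sigma.cj,
      MonoidHom.map_zpowers]
    rfl
  refine ⟨a, ha, c⁻¹, fun h => hnle (hC.le.trans (Sigma.cj_mono h)), ?_, by rw [inv_inv]; exact ha'T,
    fun p hp hd => hτ p hp (ho.symm ▸ hd)⟩
  rw [← Sigma.cj_inv_cj c (Subgroup.centralizer ({a} : Set G)), ← hC]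
  exact Sigma.cj_mono hle

theorem conj_invariant_supports {S T : Subgroup G} (hS : IsCoatom S) (hT : IsCoatom T) (g : G)
    (h : Supports (Sigma.cj g T) S) : (tildeOf S (typeA1 S) ∩ tildeOf T (typeA T)).Nonempty := by
  have hpl := Support.plen hG
  obtain ⟨hL, x, hx, hC, hxL⟩ := h
  obtain ⟨hσ, hx1, hA1⟩ := Fusion.exceptional_facts' hG hpl hS hx hC
  obtain ⟨-, hc, -, -, -, -⟩ := supportR_facts hG hpl hS hσ hx1
  set x' := g⁻¹ * x * g⁻¹⁻¹ with hx'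
  have hσ' : x' ∈ sigmaCore (Sigma.cj g⁻¹ S) := Sigma.cj_sigmaCore hG hS g⁻¹ ▸ Sigma.conj_mem_cj_of_mem hσ
  have hC' : Subgroup.centralizer ({x'} : Set G) = Sigma.cj g⁻¹ (Subgroup.centralizer ({x} : Set G)) := by
    rw [centralizer_singleton_eq (a := x) rfl, Sigma.cj_centralizer, centralizer_singleton_eq (a := x') rfl, Sigma.cj,
      MonoidHom.map_zpowers]
    rfl
  have hle : Subgroup.centralizer ({x'} : Set G) ≤ T := by
    rw [hC', ← Sigma.cj_inv_cj g T]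
    exact Sigma.cj_mono hxL
  have hnle : ¬ Subgroup.centralizer ({x'} : Set G) ≤ Sigma.cj g⁻¹ S := fun h => hC (by
    rw [← Sigma.cj_one (Subgroup.centralizer ({x} : Set G)), ← mul_inv_cancel g, Sigma.cj_mul, ← hC']
    refine (Sigma.cj_mono h).trans ?_
    rw [← Sigma.cj_mul, mul_inv_cancel, Sigma.cj_one])
  have hx'1 : x' ≠ 1 := fun e => hx1 (conj_eq_one_iff.mp e)
  obtain ⟨N, ⟨hN, hxN⟩, huniq, hF, -, -, -, hdec⟩ :=
    Cfsg.Agent.S1375.result hG (Sigma.cj g⁻¹ S) (isCoatom_cj hS _) x' hσ' hx'1 hnle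
  obtain rfl : T = N := huniq T hT hle
  obtain ⟨⟨K, hK⟩, hcyc⟩ := kappa_hall hG hpl hT
  obtain ⟨U, hd⟩ := exists_decomp hG hpl hT (hcyc K hK) hK
  obtain ⟨hU, ⟨⟨hxT, z, hz, hz1, hcz⟩, hxU⟩, hxσ⟩ := hdec K U hd
  have hTc : typeCore T = sigmaCore T := by
    rw [hF]
    exact if_neg fun h34 => hU ((Cfsg.Agent.S1382.result hG T hT K U hd).mp h34).2.1
  have hxA : x' ∈ typeA T := by
    unfold typeA
    split_ifs with hI
    · exact ⟨hxT, hx'1, z, hF.le hz, hz1, hcz⟩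
    · refine ⟨?_, hx'1, z, hTc.ge hz, hz1, hcz⟩
      have hK1 : K ≠ ⊥ := fun e => hI (OddChar.Frob.typeI_of_kappa_empty hG hT (decomp_kappa_empty hG hpl hd e))
      rw [(derived_eq_and_fixed_le hG hpl hT hd hK1).1]
      exact hxU
  refine ⟨x, ⟨x, hA1, 1, one_mem _, 1, by group⟩, ⟨x', hxA, 1, one_mem _, g, by rw [hx']; group⟩⟩

theorem main {S T : Subgroup G} (hS : IsCoatom S) (hT : IsCoatom T) (hnc : ∀ g : G, Sigma.cj g T ≠ S) :
    (Supports T S ↔ (typeA1 S ∩ typeA T).Nonempty) ∧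
      (∀ x ∈ typeA1 S ∩ typeA T, ¬ Subgroup.centralizer ({x} : Set G) ≤ S ∧
        Subgroup.centralizer ({x} : Set G) ≤ T) ∧
      ((∃ g : G, Supports (Sigma.cj g T) S) ↔ (tildeOf S (typeA1 S) ∩ tildeOf T (typeA T)).Nonempty) ∧
      (tildeOf S (typeA1 S) ∩ tildeOf T (typeA T) = ∅ ∨ tildeOf T (typeA1 T) ∩ tildeOf S (typeA S) = ∅) := by
  have hpl := Support.plen hG
  have h2 : ∀ x ∈ typeA1 S ∩ typeA T, ¬ Subgroup.centralizer ({x} : Set G) ≤ S ∧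
      Subgroup.centralizer ({x} : Set G) ≤ T := by
    rintro x ⟨⟨hx, hx1⟩, hxA⟩
    obtain ⟨hxT, -, ⟨y, hy, hy1, hxy⟩, hκ⟩ := typeA_facts hG hT hxA
    exact (core hG hS hT hnc (typeCore_le_sigmaCore hG hS hx) hxT hx1 hy hy1 hxy hκ).2.symm
  refine ⟨⟨fun ⟨hL, x, hx, hC, hxT⟩ => ?_, fun ⟨x, hx⟩ => ⟨hT, x, typeA1_subset hG hS hx.1, h2 x hx⟩⟩, h2,
    ⟨fun ⟨g, hg⟩ => conj_invariant_supports hG hS hT g hg, fun h => ?_⟩, ?_⟩
  · obtain ⟨-, -, hA1⟩ := Fusion.exceptional_facts' hG hpl hS hx hC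
    obtain ⟨-, -, h3⟩ := Fusion.fusion hG hpl hS (X := typeA0 S) (Or.inr rfl)
    exact ⟨x, hA1, (h3 x hx hC T hT hxT).2.2.2.2.1.1⟩
  · obtain ⟨a, ha, c, hC, hle, -, -⟩ := of_inter hG hS hT hnc h
    exact ⟨c, isCoatom_cj hT c, a, typeA1_subset hG hS ha, hC, hle⟩
  · by_contra! hne
    obtain ⟨h1, h1'⟩ := hne
    obtain ⟨x, hx, c, hC, hle, -, -⟩ := of_inter hG hS hT hnc h1
    obtain ⟨a, ha, c', -, -, haS, hτ⟩ := of_inter hG hT hS (fun g e => hnc g⁻¹ (by rw [← e, Sigma.cj_inv_cj])) h1'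
    obtain ⟨q, hq, hqd⟩ := Nat.exists_prime_and_dvd (show orderOf a ≠ 1 by rw [ne_eq, orderOf_eq_one_iff]; exact ha.2)
    haveI := Fact.mk hq
    have hqT : q ∈ sigma T := mem_sigma_of_dvd hq
      (hqd.trans (Subgroup.orderOf_dvd_natCard _ (typeCore_le_sigmaCore hG hT ha.1)))
    have hqS : q ∣ Nat.card S := by
      have := Subgroup.orderOf_dvd_natCard S haS
      rw [show c'⁻¹ * a * c' = c'⁻¹ * a * c'⁻¹⁻¹ by rw [inv_inv], orderOf_conj_eq] at this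
      exact hqd.trans this
    obtain ⟨-, hτS⟩ := (Cfsg.Agent.S1436.result hG S hS x (typeCore_le_sigmaCore hG hS hx.1) hx.2 hC
      (Sigma.cj c T) (isCoatom_cj hT c) hle).1 ⟨q, sigma_eq_of_cj (M := T) c ▸ hqT, hqS⟩
    have := hτ q hq hqd
    rw [hτS] at this
    exact this

end Cfsg.Agent.OddChar.Frob.Tilde
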