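import Cfsg.Agent.OddLocal.Sigma.TypeFusion
import Cfsg.Agent.OddChar.Frob.TypeIConverse

/-! Fusion in `A(M)`, `A₀(M)` and their supporting subgroups, unconditionally. -/

set_option autoImplicit false
set_option linter.style.haveILetI false
set_option linter.unusedSectionVars false

namespace Cfsg.Agent.OddChar.Frob.Fusion

open Cfsg
open Cfsg.Agent.OddLocal Cfsg.Agent.OddLocal.Sigma
open scoped commutatorElement

variable {G : Type*} [Group G] [Finite G] (hG : IsMinSimpleOddOrder G)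
include hG
variable (hpl : ∀ (p : ℕ) [Fact p.Prime] (H : Subgroup G), H ≠ ⊤ → PLengthLE p 1 H)
include hpl

/-- The elements of `A₀(M)` with centralizer outside `M` lie in `M_σ` and in `A₁(M)`. -/
theorem exceptional_facts' {M : Subgroup G}
    (hM : IsCoatom M) {x : G} (hx : x ∈ typeA0 M) (hxC : ¬ Subgroup.centralizer ({x} : Set G) ≤ M) :
    x ∈ sigmaCore M ∧ x ≠ 1 ∧ x ∈ typeA1 M := by
  obtain ⟨⟨K, hK⟩, hcyc⟩ := kappa_hall hG hpl hM
  obtain ⟨V, hKV⟩ := exists_decomp hG hpl hM (hcyc K hK) hK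
  have hFσ := fittingHallOf_le_sigmaCore hG hpl hM
  by_cases hK1 : K = ⊥
  · have hκ := decomp_kappa_empty hG hpl hKV hK1
    have hI := OddChar.Frob.typeI_of_kappa_empty hG hM hκ
    obtain ⟨-, -, -, hn⟩ := OddChar.Frob.sigmaCore_nilpotent hG hM hκ
    have hTc : typeCore M = fittingHallOf M := if_neg fun h => ((S1382.result hG M hM K V hKV).mp h).1 hK1
    rcases hx with hx | ⟨hn', -⟩
    swap
    · exact absurd hI hn'
    rw [typeA, if_pos hI] at hx
    obtain ⟨hxM, hx1, y, hy, hy1, hc⟩ := hx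
    have hσ : x ∈ sigmaCore M := by
      by_contra hxσ
      have hhat : x ∈ sigmaHat M := ⟨hxM, y, hFσ hy, hy1, hc⟩
      refine hxC fun c hcc => OddChar.Support.moved_of_kappa_empty hG hM hκ hhat hxσ ?_
      rwa [Subgroup.mem_centralizer_singleton_iff.mp hcc, mul_inv_cancel_right]
    refine ⟨hσ, hx1, ?_, hx1⟩
    rw [hTc]
    exact sigmaCore_le_fittingHallOf hG hpl hM hn hσ
  by_cases hV1 : V = ⊥
  · have hnI : ¬ IsOfTypeI M := fun hI => hK1 (typeI_cases hG hpl hM hKV hI).1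
    have hD : ⁅M, M⁆ = sigmaCore M := by
      rw [(derived_eq_and_fixed_le hG hpl hM hKV hK1).1, hV1, bot_sup_eq]
    rcases hx with hx | ⟨-, W₁, U, W₂, hd, m, hm, w, hw, hw1, hw2, rfl⟩
    · rw [typeA, if_neg hnI] at hx
      refine ⟨hD.le hx.1, hx.2.1, ?_, hx.2.1⟩
      by_cases hF : fittingHallOf M = sigmaCore M
      · unfold typeCore
        split_ifs
        · exact hx.1
        · rw [hF]; exact hD.le hx.1
      · unfold typeCore
        rw [if_pos ((S1382.result hG M hM K V hKV).mpr ⟨hK1, hV1, hF⟩)]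
        exact hx.1
    · refine absurd ?_ hxC
      intro c hc
      have h1 : m⁻¹ * c * m ∈ Subgroup.centralizer ({w} : Set G) := by
        rw [Subgroup.mem_centralizer_singleton_iff] at hc ⊢
        rw [show m⁻¹ * c * m * w = m⁻¹ * (c * (m * w * m⁻¹)) * m by group, hc]
        group
      rw [centralizer_zSet hd.selfNormalizing ⟨hw, hw1, hw2⟩] at h1
      have h2 : m⁻¹ * c * m ∈ M := sup_le hd.W₁_compl.2.1
        ((hd.W₂_le.trans inf_le_left).trans (OddLocal.fittingHallOf_le M)) h1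
      have h3 := M.mul_mem (M.mul_mem hm h2) (M.inv_mem hm)
      rwa [show m * (m⁻¹ * c * m) * m⁻¹ = c by group] at h3
  · obtain ⟨⟨hTI, hN⟩, -⟩ := S1538.result hG M hM ((S1381.result hG M hM K V hKV).mpr ⟨hK1, hV1⟩)
    refine absurd (fun c hc => ?_) hxC
    by_contra hcM
    have hx1 : x = 1 := hTI c (by rw [hN]; exact hcM) x hx (by
      rw [Subgroup.mem_centralizer_singleton_iff.mp hc, mul_inv_cancel_right]; exact hx)
    exact (S1537.result hG M hM (typeA0 M) (Or.inr (Or.inr rfl))).2.one_not_mem (hx1 ▸ hx)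

theorem fusion {M : Subgroup G} (hM : IsCoatom M) {X : Set G} (hX : X = typeA M ∨ X = typeA0 M) :
    (∀ x ∈ X, ∀ g : G, g * x * g⁻¹ ∈ X → ∃ m ∈ M, m * x * m⁻¹ = g * x * g⁻¹) ∧
      (∀ x ∈ X, ¬ Subgroup.centralizer ({x} : Set G) ≤ M → x ∈ typeA1 M ∧
        ∃! L : Subgroup G, IsCoatom L ∧ Subgroup.centralizer ({x} : Set G) ≤ L) ∧
      ∀ x ∈ X, ¬ Subgroup.centralizer ({x} : Set G) ≤ M → ∀ L : Subgroup G, IsCoatom L →
        Subgroup.centralizer ({x} : Set G) ≤ L →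
        IsComplIn (fittingHallOf L) (M ⊓ L) L ∧
        Subgroup.centralizer ({x} : Set G) ≤
          Subgroup.normalizer ((fittingHallOf L ⊓ Subgroup.centralizer ({x} : Set G) : Subgroup G) : Set G) ∧
        IsComplIn (fittingHallOf L ⊓ Subgroup.centralizer ({x} : Set G)) (M ⊓ Subgroup.centralizer ({x} : Set G))
          (Subgroup.centralizer ({x} : Set G)) ∧
        (∀ y ∈ X, (Nat.card (fittingHallOf L)).Coprime (Nat.card ↥(M ⊓ Subgroup.centralizer ({y} : Set G)))) ∧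
        (x ∈ typeA L ∧ x ∉ typeA1 L) ∧
        (IsOfTypeI L ∨ IsOfTypeII L) ∧
        (IsOfTypeII L → ∃ E : Subgroup ↥M, IsFrobeniusComplement E ∧
          frobeniusKernel E = ((fittingHall ↥M : Subgroup ↥M) : Set ↥M)) := by
  obtain ⟨-, hdade⟩ := S1537.result hG M hM X
    (by rcases hX with h | h; exacts [Or.inr (Or.inl h), Or.inr (Or.inr h)])
  have hsub : X ⊆ typeA0 M := by
    rcases hX with rfl | rfl
    exacts [fun v hv => Or.inl hv, subset_rfl]
  refine ⟨hdade.fusion, fun x hx hC => ?_, fun x hx hC L hL hxL => ?_⟩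
  · obtain ⟨hσ, hx1, hA1⟩ := exceptional_facts' hG hpl hM (hsub hx) hC
    obtain ⟨N, h⟩ := exists_support hG hpl hM hσ hx1 hC
    exact ⟨hA1, N, ⟨h.coatom, h.le⟩, fun L hL => h.only L hL.1 hL.2⟩
  obtain ⟨hσ, hx1, -⟩ := exceptional_facts' hG hpl hM (hsub hx) hC
  obtain ⟨N, h⟩ := exists_support hG hpl hM hσ hx1 hC
  obtain rfl := h.only L hL hxL
  obtain ⟨N', ⟨hN', hxN'⟩, huniq, hF, -, -, -, hdec⟩ := S1375.result hG M hM x hσ hx1 hC
  obtain rfl := h.only N' hN' hxN'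
  rw [← hF]
  obtain ⟨⟨K', hK'⟩, hcyc'⟩ := kappa_hall hG hpl hL
  obtain ⟨U', hd'⟩ := exists_decomp hG hpl hL (hcyc' K' hK') hK'
  obtain ⟨hU', hxA, hxσ⟩ := hdec K' U' hd'
  have hcop : ∀ y ∈ X, (Nat.card (sigmaCore N')).Coprime (Nat.card ↥(M ⊓ Subgroup.centralizer ({y} : Set G))) := by
    intro y hy
    refine OddChar.Support.coprime_support hG hM h hσ hx1 fun hκ => ⟨?_, fun e => hdade.one_not_mem (e ▸ hy)⟩
    have hI := OddChar.Frob.typeI_of_kappa_empty hG hM hκ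
    rcases hsub hy with hy' | ⟨hn, -⟩
    · rw [typeA, if_pos hI] at hy'
      obtain ⟨hyM, -, z, hz, hz1, hc⟩ := hy'
      exact ⟨hyM, z, fittingHallOf_le_sigmaCore hG hpl hM hz, hz1, hc⟩
    · exact absurd hI hn
  obtain ⟨⟨hxL', z, hz, hz1, hc⟩, hxU⟩ := hxA
  refine ⟨complIn_swap h.compl, h.le_normalizer_R, complIn_swap h.complIn_R, hcop, ?_⟩
  by_cases hK'1 : K' = ⊥
  · have hI := OddChar.Frob.typeI_of_kappa_empty hG hL (decomp_kappa_empty hG hpl hd' hK'1)
    have hTc : typeCore N' = sigmaCore N' := by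
      rw [hF]
      exact if_neg fun h34 => hU' ((S1382.result hG N' hL K' U' hd').mp h34).2.1
    have hnII : ¬ IsOfTypeII N' := fun hII => ((S1381.result hG N' hL K' U' hd').mp hII).1 hK'1
    refine ⟨⟨?_, fun h' => hxσ (hTc.le h'.1)⟩, Or.inl hI, fun hII => absurd hII hnII⟩
    rw [typeA, if_pos hI]
    exact ⟨hxL', hx1, z, hF.le hz, hz1, hc⟩
  have hII : IsOfTypeII N' := (S1381.result hG N' hL K' U' hd').mpr ⟨hK'1, hU'⟩
  have hnI : ¬ IsOfTypeI N' := fun hI => hK'1 (typeI_cases hG hpl hL hd' hI).1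
  have hTc : typeCore N' = sigmaCore N' := by
    rw [hF]
    exact if_neg fun h34 => hU' ((S1382.result hG N' hL K' U' hd').mp h34).2.1
  refine ⟨⟨?_, fun h' => hxσ (hTc.le h'.1)⟩, Or.inr hII, fun _ => ?_⟩
  · rw [typeA, if_neg hnI]
    refine ⟨?_, hx1, z, hTc.ge hz, hz1, hc⟩
    rw [(derived_eq_and_fixed_le hG hpl hL hd' hK'1).1]
    exact hxU
  · have hκL : (kappa N').Nonempty := Set.nonempty_iff_ne_empty.mpr fun e => by
      obtain ⟨q, hq, hd⟩ := Nat.exists_prime_and_dvd fun e' => hK'1 (Subgroup.eq_bot_of_card_eq _ e')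
      have := hd'.hall.2.1 q hq hd
      rw [e] at this
      exact this
    obtain ⟨hκM, hτM, -⟩ := h.kappa_facts hG hpl hM hx1 hκL
    exact frobenius_of_kappa_empty hG hpl hM hκM hτM

end Cfsg.Agent.OddChar.Frob.Fusion
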